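import Cfsg.Prelude.Def_KGroupFacts
import Mathlib

/-!
The Hopf description of the Schur multiplier of a finite group: for a presentation `π : F → Q` by a
free group of finite rank, `(R ∩ F') / [R, F]` is the largest kernel of a stem extension.
-/

namespace CfsgLib.Schur

open Subgroup
open scoped commutatorElement

universe u v w

variable {α : Type u} {Q : Type v} [Group Q]

/-- The universal central extension attached to a presentation, `F / [R, F]`. -/
abbrev Ext (π : FreeGroup α →* Q) : Type u :=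
  FreeGroup α ⧸ ⁅π.ker, (⊤ : Subgroup (FreeGroup α))⁆

/-- The map `F / [R, F] → Q`. -/
def proj (π : FreeGroup α →* Q) : Ext π →* Q :=
  QuotientGroup.lift _ π (commutator_le_left π.ker ⊤)

/-- The quotient map `F → F / [R, F]`. -/
abbrev mkExt (π : FreeGroup α →* Q) : FreeGroup α →* Ext π := QuotientGroup.mk' _

@[simp] theorem proj_mkExt (π : FreeGroup α →* Q) (x : FreeGroup α) : proj π (mkExt π x) = π x := rfl

theorem proj_surjective {π : FreeGroup α →* Q} (hπ : Function.Surjective π) :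
    Function.Surjective (proj π) := fun q => by
  obtain ⟨x, rfl⟩ := hπ q
  exact ⟨mkExt π x, rfl⟩

theorem ker_proj_le_center (π : FreeGroup α →* Q) : (proj π).ker ≤ center (Ext π) := by
  intro e he
  rw [mem_center_iff]
  intro f
  obtain ⟨x, rfl⟩ := QuotientGroup.mk'_surjective _ e
  obtain ⟨y, rfl⟩ := QuotientGroup.mk'_surjective _ f
  refine (commutatorElement_eq_one_iff_mul_comm.1 ?_).symm
  rw [← map_commutatorElement]
  exact (QuotientGroup.eq_one_iff _).2 (commutator_mem_commutator (H₁ := π.ker) he (mem_top y))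

/-- The Hopf multiplier `(R ∩ F') / [R, F]`. -/
def mult (π : FreeGroup α →* Q) : Subgroup (Ext π) := (proj π).ker ⊓ commutator (Ext π)

theorem mult_le_ker (π : FreeGroup α →* Q) : mult π ≤ (proj π).ker := inf_le_left

instance isMulCommutative_mult (π : FreeGroup α →* Q) : IsMulCommutative (mult π) :=
  ⟨⟨fun a b => Subtype.ext ((mem_center_iff.1 (ker_proj_le_center π (mult_le_ker π b.2))) a)⟩⟩

instance commGroupMult (π : FreeGroup α →* Q) : CommGroup (mult π) :=
  { (inferInstance : Group (mult π)) with mul_comm := fun a b => mul_comm' a b }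

theorem finite_commutatorSet [Finite Q] {π : FreeGroup α →* Q} (hπ : Function.Surjective π) :
    Finite (commutatorSet (Ext π)) := by
  choose s hs using proj_surjective hπ
  refine Set.Finite.to_subtype ((Set.finite_range (fun z : Q × Q => ⁅s z.1, s z.2⁆)).subset ?_)
  rintro _ ⟨a, b, rfl⟩
  refine ⟨(proj π a, proj π b), ?_⟩
  have key : ∀ c : Ext π, ∃ z ∈ center (Ext π), c = z * s (proj π c) := fun c =>
    ⟨c * (s (proj π c))⁻¹, ker_proj_le_center π (by
      rw [MonoidHom.mem_ker, map_mul, map_inv, hs, mul_inv_cancel]), by group⟩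
  obtain ⟨z, hz, ha⟩ := key a
  obtain ⟨w, hw, hb⟩ := key b
  show ⁅s (proj π a), s (proj π b)⁆ = ⁅a, b⁆
  generalize s (proj π a) = x at ha ⊢
  generalize s (proj π b) = y at hb ⊢
  subst ha hb
  have h1 : ∀ g, Commute z g := fun g => (mem_center_iff.1 hz g).symm
  have h2 : ∀ g, Commute w g := fun g => (mem_center_iff.1 hw g).symm
  rw [commutatorElement_def, commutatorElement_def]
  calc x * y * x⁻¹ * y⁻¹ = (z * w) * (x * y * x⁻¹ * y⁻¹) * (z * w)⁻¹ := by
        rw [((h1 _).mul_left (h2 _)).eq, mul_inv_cancel_right]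
    _ = z * (w * x) * y * x⁻¹ * y⁻¹ * w⁻¹ * z⁻¹ := by group
    _ = z * (x * w) * y * x⁻¹ * (w * y)⁻¹ * z⁻¹ := by rw [(h2 x).eq]; group
    _ = z * x * (w * y) * x⁻¹ * ((w * y)⁻¹ * z⁻¹) := by group
    _ = z * x * (w * y) * x⁻¹ * (z⁻¹ * (w * y)⁻¹) := by rw [((h1 (w * y)).inv_inv).eq]
    _ = z * x * (w * y) * (z * x)⁻¹ * (w * y)⁻¹ := by group

theorem finite_mult [Finite Q] {π : FreeGroup α →* Q} (hπ : Function.Surjective π) :
    Finite (mult π) := by
  have := finite_commutatorSet hπ
  exact Finite.of_injective _ (inclusion_injective (inf_le_right : mult π ≤ commutator (Ext π)))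

/-- `F / [R, F]` maps to every central extension. -/
theorem exists_lift {Γ : Type w} [Group Γ] (π : FreeGroup α →* Q) (σ : Γ →* Q)
    (hσ : Function.Surjective σ) (hcen : σ.ker ≤ center Γ) :
    ∃ φ : Ext π →* Γ, σ.comp φ = proj π := by
  choose g hg using fun a => hσ (π (FreeGroup.of a))
  set φ₀ := FreeGroup.lift g
  have h : σ.comp φ₀ = π := FreeGroup.ext_hom _ _ fun a => by simp [φ₀, hg]
  refine ⟨QuotientGroup.lift _ φ₀ ((commutator_le).2 fun r hr x _ => ?_), ?_⟩
  · rw [MonoidHom.mem_ker, map_commutatorElement, commutatorElement_eq_one_iff_mul_comm]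
    refine (mem_center_iff.1 (hcen ?_) _).symm
    rw [MonoidHom.mem_ker, ← MonoidHom.comp_apply, h]
    exact hr
  · refine MonoidHom.ext fun e => ?_
    obtain ⟨x, rfl⟩ := QuotientGroup.mk'_surjective _ e
    exact DFunLike.congr_fun h x

/-- A lift to a stem extension maps the multiplier onto the kernel. -/
theorem map_mult_eq_ker {Γ : Type w} [Group Γ] {π : FreeGroup α →* Q} (hπ : Function.Surjective π)
    {σ : Γ →* Q} (hσ : Cfsg.IsStemExtension σ) {φ : Ext π →* Γ} (hφ : σ.comp φ = proj π) :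
    (mult π).map φ = σ.ker := by
  refine le_antisymm ?_ fun z hz => ?_
  · rintro _ ⟨e, he, rfl⟩
    rw [MonoidHom.mem_ker, ← MonoidHom.comp_apply, hφ]
    exact mult_le_ker π he
  · have hcomm : commutator Γ ≤ (commutator (Ext π)).map φ := by
      rw [commutator_eq_closure, closure_le]
      rintro _ ⟨a, b, rfl⟩
      have key : ∀ c : Γ, ∃ e : Ext π, c * (φ e)⁻¹ ∈ center Γ := fun c => by
        obtain ⟨e, he⟩ := proj_surjective hπ (σ c)
        refine ⟨e, hσ.2.1 ?_⟩
        rw [MonoidHom.mem_ker, map_mul, map_inv, ← MonoidHom.comp_apply, hφ, he, mul_inv_cancel]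
      obtain ⟨e, he⟩ := key a
      obtain ⟨f, hf⟩ := key b
      refine ⟨⁅e, f⁆, commutator_mem_commutator (mem_top e) (mem_top f), ?_⟩
      rw [map_commutatorElement]
      have h1 : ∀ (s : Γ), s ∈ center Γ → ∀ g : Γ, g * s = s * g := fun s hs g => mem_center_iff.1 hs g
      generalize φ e = x at he ⊢
      generalize φ f = y at hf ⊢
      obtain ⟨z, hz, rfl⟩ : ∃ z ∈ center Γ, a = z * x := ⟨_, he, by group⟩
      obtain ⟨w, hw, rfl⟩ : ∃ w ∈ center Γ, b = w * y := ⟨_, hf, by group⟩
      rw [commutatorElement_def, commutatorElement_def]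
      calc x * y * x⁻¹ * y⁻¹ = (z * w) * (x * y * x⁻¹ * y⁻¹) * (z * w)⁻¹ := by
            rw [← h1 _ (mul_mem hz hw), mul_inv_cancel_right]
        _ = z * (w * x) * y * x⁻¹ * y⁻¹ * w⁻¹ * z⁻¹ := by group
        _ = z * (x * w) * y * x⁻¹ * (w * y)⁻¹ * z⁻¹ := by rw [← h1 w hw x]; group
        _ = z * x * (w * y) * x⁻¹ * ((w * y)⁻¹ * z⁻¹) := by group
        _ = z * x * (w * y) * x⁻¹ * (z⁻¹ * (w * y)⁻¹) := by rw [h1 _ (inv_mem hz) (w * y)⁻¹]
        _ = z * x * (w * y) * (z * x)⁻¹ * (w * y)⁻¹ := by group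
    obtain ⟨e, he, rfl⟩ := hcomm (hσ.2.2 hz)
    refine mem_map_of_mem φ (Subgroup.mem_inf.2 ⟨?_, he⟩)
    rw [MonoidHom.mem_ker, ← hφ, MonoidHom.comp_apply]
    exact hz

theorem surjective_of_stem {Γ : Type w} [Group Γ] {π : FreeGroup α →* Q} (hπ : Function.Surjective π)
    {σ : Γ →* Q} (hσ : Cfsg.IsStemExtension σ) {φ : Ext π →* Γ} (hφ : σ.comp φ = proj π) :
    Function.Surjective φ := fun c => by
  obtain ⟨e, he⟩ := proj_surjective hπ (σ c)
  have : c * (φ e)⁻¹ ∈ σ.ker := by
    rw [MonoidHom.mem_ker, map_mul, map_inv, ← MonoidHom.comp_apply, hφ, he, mul_inv_cancel]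
  rw [← map_mult_eq_ker hπ hσ hφ] at this
  obtain ⟨f, -, hf⟩ := this
  exact ⟨f * e, by rw [map_mul, hf, inv_mul_cancel_right]⟩

/-- The abelianisation map of `F / [R, F]`. -/
def abMap (π : FreeGroup α →* Q) : Ext π →* Abelianization (FreeGroup α) :=
  QuotientGroup.lift _ Abelianization.of (by
    rw [Abelianization.ker_of]; exact commutator_mono le_top le_rfl)

theorem ker_abMap (π : FreeGroup α →* Q) : (abMap π).ker = commutator (Ext π) := by
  rw [abMap, QuotientGroup.ker_lift, Abelianization.ker_of, _root_.commutator_def,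
    _root_.commutator_def, map_commutator, map_top_of_surjective _ (QuotientGroup.mk'_surjective _)]

/-- The multiplier has a complement in the kernel of the projection. -/
theorem exists_complement [Finite α] (π : FreeGroup α →* Q) :
    ∃ D : Subgroup (Ext π), D ≤ (proj π).ker ∧ D ⊓ mult π = ⊥ ∧ D ⊔ mult π = (proj π).ker := by
  classical
  letI : CommGroup (proj π).ker := { (inferInstance : Group (proj π).ker) with
    mul_comm := fun a b => Subtype.ext ((mem_center_iff.1 (ker_proj_le_center π b.2)) a) }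
  set θ : Additive (proj π).ker →ₗ[ℤ] FreeAbelianGroup α :=
    (MonoidHom.toAdditive ((abMap π).comp (proj π).ker.subtype)).toIntLinearMap
  haveI : Module.Finite ℤ (FreeAbelianGroup α) := by
    have := Fintype.ofFinite α
    exact Module.Finite.of_basis (FreeAbelianGroup.basis α)
  haveI : Module.Free ℤ (FreeAbelianGroup α) := Module.Free.of_basis (FreeAbelianGroup.basis α)
  obtain ⟨s, hs⟩ := Module.projective_lifting_property θ.rangeRestrict LinearMap.id
    θ.surjective_rangeRestrict
  set s' : Multiplicative (LinearMap.range θ) →* (proj π).ker :=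
    AddMonoidHom.toMultiplicativeLeft s.toAddMonoidHom
  have hs' : ∀ x : LinearMap.range θ, θ (Additive.ofMul (s' (Multiplicative.ofAdd x))) = x := fun x =>
    congrArg Subtype.val (LinearMap.congr_fun hs x)
  refine ⟨(s'.range).map (proj π).ker.subtype, map_subtype_le _, ?_, ?_⟩
  · rw [eq_bot_iff]
    rintro _ ⟨⟨e, ⟨x, rfl⟩, rfl⟩, hM⟩
    have h1 : abMap π ((s' x : (proj π).ker) : Ext π) = 1 := by
      rw [← MonoidHom.mem_ker, ker_abMap]; exact hM.2
    have h2 : θ (Additive.ofMul (s' x)) = 0 := h1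
    have h3 : x.toAdd = 0 := Subtype.ext (by
      rw [← hs' x.toAdd]; exact h2)
    have h4 : x = 1 := h3
    rw [mem_bot, h4, map_one]; rfl
  · refine le_antisymm (sup_le (map_subtype_le _) (mult_le_ker π)) fun e he => ?_
    let x : LinearMap.range θ := θ.rangeRestrict (Additive.ofMul (⟨e, he⟩ : (proj π).ker))
    let d : (proj π).ker := s' (Multiplicative.ofAdd x)
    have hd : abMap π (d : Ext π) = abMap π e := hs' x
    rw [show e = (d : Ext π) * ((d : Ext π)⁻¹ * e) by group]
    refine mul_mem (mem_sup_left (mem_map_of_mem _ ⟨_, rfl⟩)) (mem_sup_right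
      (Subgroup.mem_inf.2 ⟨mul_mem (inv_mem d.2) he, ?_⟩))
    rw [← ker_abMap, MonoidHom.mem_ker, map_mul, map_inv, hd, inv_mul_cancel]

/-- A central subgroup of `F / [R, F]` complementing the multiplier gives a Schur cover. -/
theorem exists_cover_of_complement {Q : Type v} [Group Q] [Finite Q] {α : Type u}
    {π : FreeGroup α →* Q} (hπ : Function.Surjective π) (D : Subgroup (Ext π)) [D.Normal]
    (hle : D ≤ (proj π).ker) (hinf : D ⊓ mult π = ⊥) (hsup : D ⊔ mult π = (proj π).ker) :
    ∃ σ : Ext π ⧸ D →* Q, σ.comp (QuotientGroup.mk' D) = proj π ∧ Finite (Ext π ⧸ D) ∧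
      Cfsg.IsStemExtension σ ∧ Nonempty (σ.ker ≃* mult π) := by
  set σ := QuotientGroup.lift D (proj π) hle
  set mk := QuotientGroup.mk' D
  have hsurj : Function.Surjective σ := fun q => by
    obtain ⟨e, rfl⟩ := proj_surjective hπ q
    exact ⟨mk e, rfl⟩
  have hker : σ.ker = (mult π).map mk := by
    rw [QuotientGroup.ker_lift, ← hsup, Subgroup.map_sup, QuotientGroup.map_mk'_self, bot_sup_eq]
  have hinj : Function.Injective (mk.comp (mult π).subtype) := by
    refine (injective_iff_map_eq_one _).2 fun x hx => ?_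
    have h1 : (x : Ext π) ∈ D ⊓ mult π := Subgroup.mem_inf.2 ⟨(QuotientGroup.eq_one_iff _).1 hx, x.2⟩
    rw [hinf, mem_bot] at h1
    exact Subtype.ext h1
  have e : σ.ker ≃* mult π := (MulEquiv.subgroupCongr (show σ.ker = (mk.comp (mult π).subtype).range by
    rw [hker, MonoidHom.range_comp, range_subtype])).trans (MonoidHom.ofInjective hinj).symm
  haveI := finite_mult hπ
  haveI : Finite σ.ker := Finite.of_equiv _ e.symm.toEquiv
  haveI : Finite ((Ext π ⧸ D) ⧸ σ.ker) :=
    Finite.of_equiv _ (QuotientGroup.quotientKerEquivOfSurjective σ hsurj).symm.toEquiv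
  refine ⟨σ, rfl, Finite.of_subgroup_quotient σ.ker, ⟨hsurj, ?_, ?_⟩, ⟨e⟩⟩
  · intro z hz
    rw [hker] at hz
    obtain ⟨m, hm, rfl⟩ := hz
    rw [mem_center_iff]
    intro g
    obtain ⟨g', rfl⟩ := QuotientGroup.mk'_surjective D g
    rw [← map_mul, ← map_mul, mem_center_iff.1 (ker_proj_le_center π (mult_le_ker π hm)) g']
  · rw [hker]
    refine le_trans (map_mono inf_le_right) ?_
    rw [_root_.commutator_def, map_commutator]
    exact commutator_mono le_top le_top

/-- The Hopf multiplier is the Schur multiplier. -/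
theorem hasSchurMultiplier_mult {Q : Type u} [Group Q] [Finite Q] {α : Type u} [Finite α]
    {π : FreeGroup α →* Q} (hπ : Function.Surjective π) : Cfsg.HasSchurMultiplier Q (mult π) := by
  refine ⟨?_, fun Γ _ _ σ hσ => ?_⟩
  · obtain ⟨D, hle, hinf, hsup⟩ := exists_complement π
    haveI : D.Normal := ⟨fun d hd g => by
      rw [mem_center_iff.1 (ker_proj_le_center π (hle hd)) g, mul_inv_cancel_right]; exact hd⟩
    obtain ⟨σ, -, hfin, hσ, he⟩ := exists_cover_of_complement hπ D hle hinf hsup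
    exact ⟨_, inferInstance, hfin, σ, hσ, he⟩
  · obtain ⟨φ, hφ⟩ := exists_lift π σ hσ.1 hσ.2.1
    exact ⟨(MulEquiv.subgroupCongr (map_mult_eq_ker hπ hσ hφ)).toMonoidHom.comp (φ.subgroupMap (mult π)),
      (MulEquiv.subgroupCongr (map_mult_eq_ker hπ hσ hφ)).surjective.comp
        (φ.subgroupMap_surjective (mult π))⟩

/-- The Schur multiplier is unique up to isomorphism. -/
theorem hasSchurMultiplier_unique {Q : Type u} [Group Q] {A : Type v} [CommGroup A] {B : Type w}
    [CommGroup B] (hA : Cfsg.HasSchurMultiplier Q A) (hB : Cfsg.HasSchurMultiplier Q B) :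
    Nonempty (A ≃* B) := by
  obtain ⟨Γ, _, _, σ, hσ, ⟨e⟩⟩ := hA.1
  obtain ⟨Δ, _, _, τ, hτ, ⟨f⟩⟩ := hB.1
  haveI : Finite A := Finite.of_equiv _ e.toEquiv
  haveI : Finite B := Finite.of_equiv _ f.toEquiv
  obtain ⟨g, hg⟩ := hB.2 Γ σ hσ
  obtain ⟨h, hh⟩ := hA.2 Δ τ hτ
  have h1 : Nat.card A ≤ Nat.card B := Nat.card_le_card_of_surjective _ (e.surjective.comp hg)
  have h2 : Nat.card B ≤ Nat.card A := Nat.card_le_card_of_surjective _ (f.surjective.comp hh)
  have hbij : Function.Bijective (f.toMonoidHom.comp h) :=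
    ((Nat.bijective_iff_surjective_and_card _).2 ⟨f.surjective.comp hh, le_antisymm h1 h2⟩)
  exact ⟨MulEquiv.ofBijective _ hbij⟩

/-- Any Schur multiplier is isomorphic to the Hopf multiplier of any presentation. -/
theorem nonempty_mult_equiv {Q : Type u} [Group Q] [Finite Q] {α : Type u} [Finite α]
    {π : FreeGroup α →* Q} (hπ : Function.Surjective π) {A : Type v} [CommGroup A]
    (hA : Cfsg.HasSchurMultiplier Q A) : Nonempty (mult π ≃* A) :=
  hasSchurMultiplier_unique (hasSchurMultiplier_mult hπ) hA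

theorem finite_of_hasSchurMultiplier {Q : Type u} [Group Q] {A : Type v} [CommGroup A]
    (hA : Cfsg.HasSchurMultiplier Q A) : Finite A := by
  obtain ⟨Γ, _, _, σ, -, ⟨e⟩⟩ := hA.1
  exact Finite.of_equiv _ e.toEquiv

/-- The tautological presentation of a group. -/
def taut (Q : Type u) [Group Q] : FreeGroup Q →* Q := FreeGroup.lift id

theorem taut_surjective (Q : Type u) [Group Q] : Function.Surjective (taut Q) := fun q =>
  ⟨FreeGroup.of q, FreeGroup.lift_apply_of⟩

/-- Every finite group has a Schur multiplier. -/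
theorem exists_hasSchurMultiplier (Q : Type u) [Group Q] [Finite Q] :
    ∃ (A : Type u) (_ : CommGroup A), Finite A ∧ Cfsg.HasSchurMultiplier Q A :=
  ⟨mult (taut Q), inferInstance, finite_mult (taut_surjective Q),
    hasSchurMultiplier_mult (taut_surjective Q)⟩

/-- Every stem extension is the image of a Schur cover. -/
theorem exists_cover_onto {Q : Type u} [Group Q] [Finite Q] {Γ : Type w} [Group Γ] (σ : Γ →* Q)
    (hσ : Cfsg.IsStemExtension σ) {A : Type v} [CommGroup A] (hA : Cfsg.HasSchurMultiplier Q A) :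
    ∃ (Δ : Type u) (_ : Group Δ) (_ : Finite Δ) (τ : Δ →* Q) (φ : Δ →* Γ),
      Cfsg.IsStemExtension τ ∧ Nonempty (τ.ker ≃* A) ∧ Function.Surjective φ ∧ σ.comp φ = τ := by
  classical
  have hπ := taut_surjective Q
  set π := taut Q
  obtain ⟨φ, hφ⟩ := exists_lift π σ hσ.1 hσ.2.1
  obtain ⟨D, hle, hinf, hsup⟩ := exists_complement π
  obtain ⟨s, hs⟩ : ∃ s : D →* mult π, ∀ d : D, φ (s d : Ext π) = φ d := by
    -- `D` is free abelian: lift `φ` on it through the multiplier
    letI : CommGroup D := { (inferInstance : Group D) with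
      mul_comm := fun a b => Subtype.ext ((mem_center_iff.1 (ker_proj_le_center π (hle b.2))) a) }
    letI : CommGroup σ.ker := { (inferInstance : Group σ.ker) with
      mul_comm := fun a b => Subtype.ext ((mem_center_iff.1 (hσ.2.1 b.2)) a) }
    set ab : Additive D →ₗ[ℤ] FreeAbelianGroup Q :=
      (MonoidHom.toAdditive ((abMap π).comp D.subtype)).toIntLinearMap
    have habinj : Function.Injective ab := by
      refine (injective_iff_map_eq_zero _).2 fun d hd => ?_
      have h1 : abMap π (Additive.toMul d : D) = 1 := hd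
      rw [← MonoidHom.mem_ker, ker_abMap] at h1
      have h2 : ((Additive.toMul d : D) : Ext π) ∈ D ⊓ mult π :=
        Subgroup.mem_inf.2 ⟨(Additive.toMul d).2, Subgroup.mem_inf.2 ⟨hle (Additive.toMul d).2, h1⟩⟩
      rw [hinf, mem_bot] at h2
      exact Additive.toMul.injective (Subtype.ext h2)
    haveI : Module.Free ℤ (FreeAbelianGroup Q) := Module.Free.of_basis (FreeAbelianGroup.basis Q)
    haveI : Module.Finite ℤ (FreeAbelianGroup Q) := by
      have := Fintype.ofFinite Q
      exact Module.Finite.of_basis (FreeAbelianGroup.basis Q)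
    haveI : Module.Free ℤ (Additive D) :=
      Module.Free.of_equiv (LinearEquiv.ofInjective ab habinj).symm
    have hmem : ∀ d : D, φ d ∈ σ.ker := fun d => by
      rw [MonoidHom.mem_ker, ← MonoidHom.comp_apply, hφ]; exact hle d.2
    set φD : D →* σ.ker := (φ.comp D.subtype).codRestrict σ.ker hmem
    set ψ : mult π →* σ.ker :=
      (MulEquiv.subgroupCongr (map_mult_eq_ker hπ hσ hφ)).toMonoidHom.comp (φ.subgroupMap (mult π))
    have hψ : Function.Surjective ψ := (MulEquiv.subgroupCongr (map_mult_eq_ker hπ hσ hφ)).surjective.comp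
      (φ.subgroupMap_surjective (mult π))
    obtain ⟨l, hl⟩ := Module.projective_lifting_property
      (MonoidHom.toAdditive ψ).toIntLinearMap (MonoidHom.toAdditive φD).toIntLinearMap hψ
    refine ⟨MonoidHom.toAdditive.symm l.toAddMonoidHom, fun d => ?_⟩
    exact congrArg Subtype.val (congrArg Additive.toMul (LinearMap.congr_fun hl (Additive.ofMul d)))
  set f : D →* Ext π :=
    { toFun := fun d => (d : Ext π) * (s d : Ext π)⁻¹
      map_one' := by simp
      map_mul' := fun a b => by
        have h1 : ∀ g, Commute ((s a : Ext π)) g := fun g =>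
          (mem_center_iff.1 (ker_proj_le_center π (mult_le_ker π (s a).2)) g).symm
        rw [map_mul, Subgroup.coe_mul, Subgroup.coe_mul, mul_inv_rev]
        calc (a : Ext π) * b * ((s b : Ext π)⁻¹ * (s a : Ext π)⁻¹)
            = (a : Ext π) * ((b : Ext π) * (s b : Ext π)⁻¹ * (s a : Ext π)⁻¹) := by group
          _ = (a : Ext π) * ((s a : Ext π)⁻¹ * ((b : Ext π) * (s b : Ext π)⁻¹)) := by
            rw [((h1 _).inv_left).eq]
          _ = _ := by group }
  have hle' : f.range ≤ (proj π).ker := by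
    rintro _ ⟨d, rfl⟩
    exact mul_mem (hle d.2) (inv_mem (mult_le_ker π (s d).2))
  have hinf' : f.range ⊓ mult π = ⊥ := by
    rw [eq_bot_iff]
    rintro _ ⟨⟨d, rfl⟩, hd⟩
    have h1 : (d : Ext π) ∈ D ⊓ mult π := Subgroup.mem_inf.2 ⟨d.2, by
      have h3 : f d * (s d : Ext π) ∈ mult π := mul_mem hd (s d).2
      simpa [f] using h3⟩
    rw [hinf, mem_bot] at h1
    have h2 : d = 1 := Subtype.ext h1
    simp [h2]
  have hsup' : f.range ⊔ mult π = (proj π).ker := by
    refine le_antisymm (sup_le hle' (mult_le_ker π)) (hsup ▸ sup_le (fun d hd => ?_) le_sup_right)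
    rw [show d = d * (s ⟨d, hd⟩ : Ext π)⁻¹ * (s ⟨d, hd⟩ : Ext π) by group]
    exact mul_mem (mem_sup_left ⟨⟨d, hd⟩, rfl⟩) (mem_sup_right (s ⟨d, hd⟩).2)
  haveI : f.range.Normal := ⟨fun d hd g => by
    rw [mem_center_iff.1 (ker_proj_le_center π (hle' hd)) g, mul_inv_cancel_right]; exact hd⟩
  obtain ⟨τ, hτc, hfin, hτ, ⟨e⟩⟩ := exists_cover_of_complement hπ f.range hle' hinf' hsup'
  obtain ⟨e'⟩ := nonempty_mult_equiv hπ hA
  have hk : f.range ≤ φ.ker := by
    rintro _ ⟨d, rfl⟩
    show φ ((d : Ext π) * (s d : Ext π)⁻¹) = 1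
    rw [map_mul, map_inv, hs, mul_inv_cancel]
  refine ⟨_, inferInstance, hfin, τ, QuotientGroup.lift f.range φ hk, hτ, ⟨e.trans e'⟩, fun c => ?_, ?_⟩
  · obtain ⟨x, hx⟩ := surjective_of_stem hπ hσ hφ c
    exact ⟨QuotientGroup.mk x, hx⟩
  · refine QuotientGroup.monoidHom_ext _ ?_
    rw [hτc, MonoidHom.comp_assoc]
    exact hφ

end CfsgLib.Schur
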