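import Cfsg.Agent.Lib.Schur.Hopf

/-!
Consequences of the Hopf description: trivial multipliers, perfect groups, extension of characters.
-/

namespace CfsgLib.Schur

open Subgroup
open scoped commutatorElement

universe u v w

/-- A group with trivial multiplier has trivial Hopf multiplier. -/
theorem mult_eq_bot_of_trivial {Q : Type u} [Group Q] [Finite Q] {α : Type u} [Finite α]
    {π : FreeGroup α →* Q} (hπ : Function.Surjective π) (h : Cfsg.HasCyclicSchurMultiplier Q 1) :
    mult π = ⊥ := by
  obtain ⟨e⟩ := nonempty_mult_equiv hπ h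
  haveI := Finite.of_equiv _ e.symm.toEquiv
  refine card_eq_one.1 ?_
  rw [Nat.card_congr e.toEquiv, Nat.card_congr Multiplicative.toAdd, Nat.card_zmod]

/-- A group with trivial multiplier has only bijective stem extensions, in any universe. -/
theorem injective_of_trivial {Q : Type u} [Group Q] [Finite Q] (h : Cfsg.HasCyclicSchurMultiplier Q 1)
    {Γ : Type w} [Group Γ] (σ : Γ →* Q) (hσ : Cfsg.IsStemExtension σ) : Function.Injective σ := by
  have hπ := taut_surjective Q
  obtain ⟨φ, hφ⟩ := exists_lift (taut Q) σ hσ.1 hσ.2.1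
  rw [← MonoidHom.ker_eq_bot_iff, ← map_mult_eq_ker hπ hσ hφ, mult_eq_bot_of_trivial hπ h,
    Subgroup.map_bot]

/-- If all stem extensions of `Q` are bijective, its multiplier is trivial. -/
theorem hasCyclicSchurMultiplier_one {Q : Type u} [Group Q] [Finite Q]
    (h : ∀ (Γ : Type u) [Group Γ] [Finite Γ] (σ : Γ →* Q), Cfsg.IsStemExtension σ →
      Function.Injective σ) : Cfsg.HasCyclicSchurMultiplier Q 1 := by
  refine ⟨⟨Q, inferInstance, inferInstance, MonoidHom.id Q,
    ⟨Function.surjective_id, by simp, by simp⟩, ?_⟩, fun Γ _ _ σ hσ => ⟨1, fun z => ⟨1, ?_⟩⟩⟩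
  · haveI : Unique (MonoidHom.id Q).ker :=
      ⟨⟨1⟩, fun a => Subtype.ext a.2⟩
    haveI : Unique (Multiplicative (ZMod 1)) := inferInstance
    exact ⟨MulEquiv.ofUnique⟩
  · exact Subtype.ext (h Γ σ hσ ((map_one σ).trans (MonoidHom.mem_ker.1 z.2).symm))

/-- Homomorphisms into `ℂˣ` extend from subgroups of abelian groups. -/
theorem exists_hom_extend {A : Type u} {B : Type v} [CommGroup A] [CommGroup B] (i : A →* B)
    (hi : Function.Injective i) (f : A →* ℂˣ) : ∃ g : B →* ℂˣ, g.comp i = f := by
  haveI : DivisibleBy (Additive ℂˣ) ℤ := AddCommGroup.divisibleByIntOfSMulTopEqTop _ fun {n} hn => by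
    refine eq_top_iff.2 fun x _ => ?_
    obtain ⟨z, hz⟩ := IsAlgClosed.exists_pow_nat_eq ((Additive.toMul x : ℂˣ) : ℂ)
      (n := n.natAbs) (by omega)
    have hz0 : z ≠ 0 := fun h0 => (Additive.toMul x).ne_zero (by
      rw [← hz, h0, zero_pow (by omega)])
    rcases Int.natAbs_eq n with he | he
    · refine ⟨Additive.ofMul (Units.mk0 z hz0), trivial, ?_⟩
      show n • Additive.ofMul (Units.mk0 z hz0) = x
      rw [he, natCast_zsmul, ← ofMul_pow]
      exact Additive.toMul.injective (Units.ext (by simpa using hz))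
    · refine ⟨Additive.ofMul (Units.mk0 z hz0)⁻¹, trivial, ?_⟩
      show n • Additive.ofMul (Units.mk0 z hz0)⁻¹ = x
      rw [he, neg_smul, natCast_zsmul, ← ofMul_pow, ← ofMul_inv, inv_pow, inv_inv]
      exact Additive.toMul.injective (Units.ext (by simpa using hz))
  obtain ⟨g, hg⟩ := (Module.Baer.of_divisible (Additive ℂˣ)).extension_property_addMonoidHom
    (MonoidHom.toAdditive i) hi (MonoidHom.toAdditive f)
  exact ⟨MonoidHom.toAdditive.symm g,
    MonoidHom.ext fun a => congrArg Additive.toMul (DFunLike.congr_fun hg (Additive.ofMul a))⟩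

/-- A homomorphism from a perfect group into an abelian group is trivial. -/
theorem hom_eq_one_of_perfect {G : Type u} [Group G] (hG : commutator G = ⊤) {A : Type v} [CommGroup A]
    (f : G →* A) (x : G) : f x = 1 := by
  have h : commutator G ≤ f.ker := Abelianization.commutator_subset_ker f
  rw [hG] at h
  exact h (mem_top x)

end CfsgLib.Schur
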