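/-
Central extensions whose kernel has order prime to `p`: canonical lifts of `p`-elements and of
homomorphisms out of `SL₂` in characteristic `p`; the transfer bound for split Sylow subgroups.
-/
import Mathlib
import Cfsg.Agent.Lib.Known.SL2Lift

set_option autoImplicit false

namespace CfsgLib.Schur.CoprimeLift

open Subgroup

variable {Γ G : Type*} [Group Γ] [Group G] {π : Γ →* G} {p : ℕ}

/-- An element of `p`-power order. -/
def IsPEl (p : ℕ) {M : Type*} [Monoid M] (y : M) : Prop := ∃ k : ℕ, y ^ (p ^ k) = 1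

theorem isPEl_conj {y : Γ} (h : IsPEl p y) (g : Γ) : IsPEl p (g * y * g⁻¹) := by
  obtain ⟨k, hk⟩ := h
  exact ⟨k, by rw [conj_pow, hk, mul_one, mul_inv_cancel]⟩

theorem isPEl_map {M : Type*} [Monoid M] (f : Γ →* M) {y : Γ} (h : IsPEl p y) : IsPEl p (f y) := by
  obtain ⟨k, hk⟩ := h
  exact ⟨k, by rw [← map_pow, hk, map_one]⟩

/-- Two lifts of `p`-power order of one element agree. -/
theorem lift_unique (hc : π.ker ≤ center Γ) (hcop : (Nat.card π.ker).Coprime p) {y y' : Γ}
    (hy : IsPEl p y) (hy' : IsPEl p y') (e : π y = π y') : y = y' := by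
  obtain ⟨k, hk⟩ := hy
  obtain ⟨l, hl⟩ := hy'
  have hk' : y ^ (p ^ (k + l)) = 1 := by rw [pow_add, pow_mul, hk, one_pow]
  have hl' : y' ^ (p ^ (k + l)) = 1 := by rw [add_comm k, pow_add, pow_mul, hl, one_pow]
  have hz : y' * y⁻¹ ∈ π.ker := by rw [MonoidHom.mem_ker, map_mul, map_inv, e, mul_inv_cancel]
  set z := y' * y⁻¹ with hzdef
  have hcomm : Commute z y := (mem_center_iff.1 (hc hz) y).symm
  have h1 : z ^ (p ^ (k + l)) = 1 := by
    have := hcomm.mul_pow (p ^ (k + l))
    rwa [hzdef, inv_mul_cancel_right, hl', ← hzdef, hk', mul_one, eq_comm] at this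
  have h2 : orderOf z ∣ Nat.card π.ker := by
    have := orderOf_dvd_natCard (⟨z, hz⟩ : π.ker)
    rwa [← Subgroup.orderOf_coe] at this
  have h3 : orderOf z = 1 :=
    Nat.eq_one_of_dvd_coprimes ((hcop.coprime_dvd_left h2).pow_right (k + l)) dvd_rfl
      (orderOf_dvd_of_pow_eq_one h1)
  exact (mul_inv_eq_one.1 (orderOf_eq_one_iff.1 h3)).symm

/-- An element of `p`-power order has a lift of `p`-power order. -/
theorem exists_lift (hπ : Function.Surjective π) (hcop : (Nat.card π.ker).Coprime p) {g : G}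
    (hg : IsPEl p g) : ∃ y : Γ, IsPEl p y ∧ π y = g := by
  obtain ⟨k, hk⟩ := hg
  obtain ⟨y₀, rfl⟩ := hπ g
  obtain ⟨m, hm⟩ := exists_pow_eq_self_of_coprime
    ((hcop.pow_right k).coprime_dvd_right (orderOf_dvd_of_pow_eq_one hk))
  refine ⟨(y₀ ^ Nat.card π.ker) ^ m, ⟨k, ?_⟩, by rw [map_pow, map_pow, hm]⟩
  have hker : y₀ ^ (p ^ k) ∈ π.ker := by rw [MonoidHom.mem_ker, map_pow, hk]
  have : (⟨_, hker⟩ : π.ker) ^ Nat.card π.ker = 1 := pow_card_eq_one'
  rw [← pow_mul, ← pow_mul,
    show Nat.card π.ker * (m * p ^ k) = p ^ k * Nat.card π.ker * m by ring, pow_mul, pow_mul,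
    show (y₀ ^ p ^ k) ^ Nat.card π.ker = 1 from congrArg Subtype.val this, one_pow]

/-- The lifts of `p`-power order of a `p`-subgroup form a subgroup. -/
theorem exists_subgroup [Finite Γ] [Finite G] [Fact p.Prime] (hπ : Function.Surjective π)
    (hc : π.ker ≤ center Γ) (hcop : (Nat.card π.ker).Coprime p) {U : Subgroup G} (hU : IsPGroup p U) :
    ∃ Ut : Subgroup Γ, ∀ y, y ∈ Ut ↔ IsPEl p y ∧ π y ∈ U := by
  set H := U.comap π with hH
  have hkH : π.ker ≤ H := fun x hx => by
    show π x ∈ U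
    rw [MonoidHom.mem_ker.1 hx]; exact one_mem _
  set N := π.ker.subgroupOf H with hN
  obtain ⟨n, hn⟩ := IsPGroup.iff_card.1 hU
  have hcardN : Nat.card N = Nat.card π.ker := Nat.card_congr (subgroupOfEquivOfLe hkH).toEquiv
  have hidx : N.index = Nat.card U := by
    show π.ker.relIndex H = _
    rw [← MonoidHom.comap_bot, hH, relIndex_comap, map_comap_eq_self_of_surjective hπ,
      relIndex_bot_left]
  obtain ⟨C, hC⟩ := exists_right_complement'_of_coprime (N := N)
    (by rw [hcardN, hidx, hn]; exact hcop.pow_right n)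
  have hCcard : Nat.card C = p ^ n := by
    have h1 := hC.card_mul_card
    rw [← card_mul_index N, hidx, hn] at h1
    exact Nat.eq_of_mul_eq_mul_left Nat.card_pos h1
  have hCp : ∀ c ∈ C, IsPEl p (c : Γ) := fun c hc' => ⟨n, by
    have : (⟨c, hc'⟩ : C) ^ Nat.card C = 1 := pow_card_eq_one'
    rw [hCcard] at this
    exact congrArg (fun t => ((t : C).1 : Γ)) this⟩
  refine ⟨C.map H.subtype, fun y => ⟨?_, ?_⟩⟩
  · rintro ⟨c, hc', rfl⟩
    exact ⟨hCp c hc', c.2⟩
  · rintro ⟨hy, hyU⟩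
    obtain ⟨⟨⟨z, hz⟩, ⟨c, hc'⟩⟩, e⟩ := hC.2 ⟨y, hyU⟩
    have e' : (z : Γ) * (c : Γ) = y := congrArg Subtype.val e
    have hz1 : π (z : Γ) = 1 := hz
    have : y = (c : Γ) := lift_unique hc hcop hy (hCp c hc') (by rw [← e', map_mul, hz1, one_mul])
    exact ⟨c, hc', this.symm⟩

open Matrix CfsgLib.SL2Pres in
open Cfsg.Agent.S2426 (root root_val) in
/-- A homomorphism out of `SL₂` in characteristic `p` lifts, with root elements going to elements
of `p`-power order. -/
theorem exists_sl2_lift [Finite Γ] [Finite G] [Fact p.Prime] {F : Type*} [Field F] [Finite F]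
    [CharP F p] (hπ : Function.Surjective π) (hc : π.ker ≤ center Γ)
    (hcop : (Nat.card π.ker).Coprime p) (ψ : Matrix.SpecialLinearGroup (Fin 2) F →* G) :
    ∃ s : Matrix.SpecialLinearGroup (Fin 2) F →* Γ, π.comp s = ψ ∧
      ∀ b u, IsPEl p (s (root (b, u))) := by
  classical
  have hroot : ∀ b (u : F), IsPEl p (root (b, u)) := fun b u => ⟨1, by
    have : ∀ n : ℕ, root (b, u) ^ n = root (b, (n : F) * u) := fun n => by
      induction n with
      | zero => rw [pow_zero, Nat.cast_zero, zero_mul, CfsgLib.Known.SL2Lift.root_zero]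
      | succ n ih => rw [pow_succ, ih, CfsgLib.Known.SL2Lift.root_add, Nat.cast_succ, add_mul, one_mul]
    rw [pow_one, this, CharP.cast_eq_zero, zero_mul, CfsgLib.Known.SL2Lift.root_zero]⟩
  choose e he heq using fun b u => exists_lift hπ hcop (isPEl_map ψ (hroot b u))
  have hadd : ∀ b t u, e b (t + u) = e b t * e b u := by
    intro b t u
    let R : F → G := fun v => ψ (root (b, v))
    have hR : ∀ v v', R v * R v' = R (v + v') := fun v v' => by
      simp only [R, ← map_mul, CfsgLib.Known.SL2Lift.root_add]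
    let X : Subgroup G :=
      { carrier := Set.range R
        one_mem' := ⟨0, by simp only [R, CfsgLib.Known.SL2Lift.root_zero, map_one]⟩
        mul_mem' := by rintro _ _ ⟨v, rfl⟩ ⟨v', rfl⟩; exact ⟨v + v', (hR v v').symm⟩
        inv_mem' := by
          rintro _ ⟨v, rfl⟩
          exact ⟨-v, (inv_eq_of_mul_eq_one_right (by
            rw [hR, add_neg_cancel]; simp only [R, CfsgLib.Known.SL2Lift.root_zero, map_one])).symm⟩ }
    have hX : IsPGroup p X := fun x => by
      obtain ⟨v, hv⟩ := x.2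
      obtain ⟨k, hk⟩ := isPEl_map ψ (hroot b v)
      exact ⟨k, Subtype.ext (show (x : G) ^ p ^ k = 1 by rw [← hv]; exact hk)⟩
    obtain ⟨Xt, hXt⟩ := exists_subgroup hπ hc hcop hX
    have hm : ∀ v, e b v ∈ Xt := fun v => (hXt _).2 ⟨he b v, ⟨v, (heq b v).symm⟩⟩
    refine lift_unique hc hcop (he b _) ((hXt _).1 (mul_mem (hm t) (hm u))).1 ?_
    rw [map_mul, heq, heq, heq, ← map_mul, CfsgLib.Known.SL2Lift.root_add]
  have S : St2 e := by
    refine ⟨hadd, fun b t u ht => lift_unique hc hcop (isPEl_conj (he b u) _) (he _ _) ?_⟩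
    simp only [map_mul, map_inv, heq]
    rw [← CfsgLib.Known.SL2Lift.wroot_conj b ht u]
    simp only [CfsgLib.Known.SL2Lift.wroot, map_mul, map_inv]
  obtain ⟨f, hf, hf'⟩ := Cfsg.Agent.S2426.result (K := F)
  have hrel : ∀ r ∈ ({g : FreeGroup (Bool × F) | ∃ (b : Bool) (t u : F), g = FreeGroup.of (b, t) * FreeGroup.of (b, u) * (FreeGroup.of (b, t + u))⁻¹} ∪
          {g | ∃ (b : Bool) (t u : F), t ≠ 0 ∧
            g = (FreeGroup.of (b, t) * FreeGroup.of (!b, -t⁻¹) * FreeGroup.of (b, t)) * FreeGroup.of (b, u) *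
                  (FreeGroup.of (b, t) * FreeGroup.of (!b, -t⁻¹) * FreeGroup.of (b, t))⁻¹ * (FreeGroup.of (!b, -(t⁻¹ ^ 2 * u)))⁻¹}),
      FreeGroup.lift (fun p : Bool × F => e p.1 p.2) r = 1 := by
    rintro r (⟨b, t, u, rfl⟩ | ⟨b, t, u, ht, rfl⟩)
    · simp only [map_mul, map_inv, FreeGroup.lift_apply_of]
      rw [mul_inv_eq_one]
      exact (hadd b t u).symm
    · simp only [map_mul, map_inv, FreeGroup.lift_apply_of]
      rw [mul_inv_eq_one]
      exact S.rel b t u ht
  have hfr : ∀ b c, f (PresentedGroup.of (b, c)) = root (b, c) := fun b c => by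
    refine Subtype.ext ?_
    rw [root_val]
    cases b
    · exact hf' c
    · exact hf c
  refine ⟨(PresentedGroup.toGroup hrel).comp f.symm.toMonoidHom, ?_, fun b u => ?_⟩
  · have key : π.comp (PresentedGroup.toGroup hrel) = ψ.comp f.toMonoidHom := by
      refine PresentedGroup.ext fun ⟨b, c⟩ => ?_
      rw [MonoidHom.comp_apply, MonoidHom.comp_apply, PresentedGroup.toGroup.of]
      show π (e b c) = ψ (f (PresentedGroup.of (b, c)))
      rw [heq, hfr]
    ext g
    obtain ⟨x, rfl⟩ := f.surjective g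
    simpa using DFunLike.congr_fun key x
  · show IsPEl p (PresentedGroup.toGroup hrel (f.symm (root (b, u))))
    rw [← hfr, MulEquiv.symm_apply_apply, PresentedGroup.toGroup.of]
    exact he b u

/-- If the preimage of a subgroup of index prime to `p` splits, the kernel of a perfect central
extension has order prime to `p`. -/
theorem not_dvd_card_ker [Finite Γ] [hp : Fact p.Prime] (hπ : Function.Surjective π)
    (hc : π.ker ≤ center Γ) (hperf : commutator Γ = ⊤) {U : Subgroup G} (hidx : ¬ p ∣ U.index)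
    (B : Subgroup Γ) (hB : ∀ b ∈ B, π b = 1 → b = 1) (hU : U ≤ B.map π) :
    ¬ p ∣ Nat.card π.ker := by
  classical
  intro hdvd
  obtain ⟨z, hz⟩ := exists_prime_orderOf_dvd_card' p hdvd
  set H := U.comap π with hH
  have hdec : ∀ y : H, ∃ b, b ∈ B ∧ π b = π y := fun y => by
    obtain ⟨b, hb, e⟩ := hU y.2
    exact ⟨b, hb, e⟩
  choose β hβ hβe using hdec
  let : CommGroup π.ker := { (inferInstance : Group π.ker) with
    mul_comm := fun u v => Subtype.ext (mem_center_iff.1 (hc v.2) u) }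
  let f : H →* π.ker := MonoidHom.mk'
    (fun y => ⟨(y : Γ) * (β y)⁻¹, by
      rw [MonoidHom.mem_ker, map_mul, map_inv, hβe, mul_inv_cancel]⟩)
    fun y y' => Subtype.ext (by
      have e : β (y * y') = β y * β y' := by
        refine mul_inv_eq_one.1 (hB _ (mul_mem (hβ _) (inv_mem (mul_mem (hβ y) (hβ y')))) ?_)
        rw [map_mul, map_inv, map_mul, hβe, hβe, hβe, coe_mul, map_mul, mul_inv_cancel]
      show (y : Γ) * y' * (β (y * y'))⁻¹ = y * (β y)⁻¹ * (y' * (β y')⁻¹)
      have hzc := mem_center_iff.1 (hc (show (y' : Γ) * (β y')⁻¹ ∈ π.ker by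
        rw [MonoidHom.mem_ker, map_mul, map_inv, hβe, mul_inv_cancel])) (β y)⁻¹
      rw [e, mul_assoc (y : Γ) (β y)⁻¹, hzc]
      group)
  have hzc : ∀ g, g * (z : Γ) = z * g := fun g => mem_center_iff.1 (hc z.2) g
  have h1 : MonoidHom.transfer f (z : Γ) = 1 := by
    have h : commutator Γ ≤ (MonoidHom.transfer f).ker := Abelianization.commutator_subset_ker _
    rw [hperf] at h
    exact h (mem_top _)
  have key : ∀ (k : ℕ) (g₀ : Γ), g₀⁻¹ * (z : Γ) ^ k * g₀ ∈ H →
      g₀⁻¹ * (z : Γ) ^ k * g₀ = (z : Γ) ^ k := fun k g₀ _ => by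
    rw [mem_center_iff.1 (pow_mem (hc z.2) k) g₀⁻¹, inv_mul_cancel_right]
  rw [MonoidHom.transfer_eq_pow f (z : Γ) key] at h1
  have hmem : (z : Γ) ^ H.index ∈ π.ker := pow_mem z.2 _
  have hb1 : β ⟨(z : Γ) ^ H.index, MonoidHom.transfer_eq_pow_aux (z : Γ) key⟩ = 1 :=
    hB _ (hβ _) (by rw [hβe]; exact hmem)
  have h2 : (z : Γ) ^ H.index = 1 := by
    have := congrArg Subtype.val h1
    simpa [f, hb1] using this
  rw [← orderOf_dvd_iff_pow_eq_one, Subgroup.orderOf_coe, hz, hH,
    index_comap_of_surjective _ hπ] at h2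
  exact hidx h2

end CfsgLib.Schur.CoprimeLift
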