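/-
The two elementary abelian subgroups of order 16 of a Sylow 2-subgroup of `PSL₃(4)`, and their
normalizers.
-/
import Cfsg.Agent.Lib.Classical.GLOrder
import Cfsg.Agent.Lib.Classical.PSL34

set_option autoImplicit false

namespace CfsgLib.Schur.L34

open Matrix
open scoped commutatorElement

variable {F : Type*} [Field F] [Fintype F]

/-- An upper unitriangular matrix. -/
def uni (a b c : F) : Matrix.SpecialLinearGroup (Fin 3) F :=
  ⟨!![1, a, c; 0, 1, b; 0, 0, 1], by simp [Matrix.det_fin_three]⟩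

omit [Fintype F] in
theorem uni_mul (a b c a' b' c' : F) :
    uni a b c * uni a' b' c' = uni (a + a') (b + b') (c + c' + a * b') := by
  refine Subtype.ext ?_
  show (uni a b c).1 * (uni a' b' c').1 = _
  ext i j
  fin_cases i <;> fin_cases j <;> simp [uni, Matrix.mul_apply, Fin.sum_univ_three] <;> ring

/-- An upper unitriangular element of `PSL₃`. -/
def u (a b c : F) : ProjectiveSpecialLinearGroup (Fin 3) F :=
  QuotientGroup.mk' (Subgroup.center (Matrix.SpecialLinearGroup (Fin 3) F)) (uni a b c)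

omit [Fintype F] in
theorem u_mul (a b c a' b' c' : F) :
    u a b c * u a' b' c' = u (a + a') (b + b') (c + c' + a * b') := by
  rw [u, u, u, ← map_mul, uni_mul]

omit [Fintype F] in
theorem u_zero : u (0 : F) 0 0 = 1 := by
  have : uni (0 : F) 0 0 = 1 := by
    refine Subtype.ext ?_
    ext i j
    fin_cases i <;> fin_cases j <;> simp [uni]
  rw [u, this, map_one]

omit [Fintype F] in
theorem u_inj {a b c a' b' c' : F} (h : u a b c = u a' b' c') : a = a' ∧ b = b' ∧ c = c' := by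
  rw [u, u, QuotientGroup.mk'_eq_mk'] at h
  obtain ⟨z, hz, e⟩ := h
  obtain ⟨r, -, hr⟩ := Matrix.SpecialLinearGroup.mem_center_iff.1 hz
  have e' : (uni a b c).1 * z.1 = (uni a' b' c').1 := congrArg Subtype.val e
  rw [← hr, scalar_apply] at e'
  have e0 := congrFun (congrFun e' 0) 0
  simp [uni, Matrix.mul_diagonal] at e0
  subst e0
  have e1 := congrFun (congrFun e' 0) 1
  have e2 := congrFun (congrFun e' 1) 2
  have e3 := congrFun (congrFun e' 0) 2
  simp [uni, Matrix.mul_diagonal] at e1 e2 e3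
  exact ⟨e1, e2, e3⟩

omit [Fintype F] in
theorem u_inv (a b c : F) : (u a b c)⁻¹ = u (-a) (-b) (a * b - c) := by
  refine inv_eq_of_mul_eq_one_right ?_
  rw [u_mul, ← u_zero]
  congr 1 <;> ring

section char2

variable (hF : Fintype.card F = 4)
include hF

theorem add_self (a : F) : a + a = 0 := by
  rw [← two_mul, CfsgLib.Classical.PSL34.two_eq_zero hF, zero_mul]

theorem neg_self (a : F) : -a = a :=
  neg_eq_of_add_eq_zero_left (add_self hF a)

theorem pow_four (a : F) : a ^ 4 = a := by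
  have := FiniteField.pow_card a
  rwa [hF] at this

/-- An element outside the prime field. -/
theorem exists_omega : ∃ w : F, w ≠ 0 ∧ w ≠ 1 ∧ ∀ a : F, a = 0 ∨ a = 1 ∨ a = w ∨ a = 1 + w := by
  classical
  obtain ⟨w, hw⟩ : ∃ w : F, w ∉ ({0, 1} : Finset F) := by
    by_contra h
    push Not at h
    have h1 := Finset.card_le_card (s := (Finset.univ : Finset F)) (t := {0, 1}) fun x _ => h x
    rw [Finset.card_univ, hF] at h1
    exact absurd (h1.trans (Finset.card_le_two)) (by norm_num)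
  simp at hw
  obtain ⟨hw0, hw1⟩ := hw
  refine ⟨w, hw0, hw1, fun a => ?_⟩
  have h1w : (1 : F) + w ≠ 0 := fun h => hw1 (by
    have := eq_neg_of_add_eq_zero_right h
    rwa [neg_self hF] at this)
  have hcard : ({0, 1, w, 1 + w} : Finset F).card = 4 := by
    rw [Finset.card_insert_of_notMem, Finset.card_insert_of_notMem, Finset.card_pair] <;>
      simp [Ne.symm hw0, Ne.symm hw1, Ne.symm h1w, hw0]
  have hu : ({0, 1, w, 1 + w} : Finset F) = Finset.univ :=
    Finset.eq_univ_of_card _ (by rw [hcard, hF])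
  have := hu.ge (Finset.mem_univ a)
  simpa using this

end char2

/-- The transvections with a common centre. -/
def rowHom (F : Type*) [Field F] : Multiplicative (F × F) →* ProjectiveSpecialLinearGroup (Fin 3) F where
  toFun p := u (Multiplicative.toAdd p).1 0 (Multiplicative.toAdd p).2
  map_one' := u_zero
  map_mul' p q := by
    rw [u_mul]
    simp

/-- The transvections with a common axis. -/
def colHom (F : Type*) [Field F] : Multiplicative (F × F) →* ProjectiveSpecialLinearGroup (Fin 3) F where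
  toFun p := u 0 (Multiplicative.toAdd p).1 (Multiplicative.toAdd p).2
  map_one' := u_zero
  map_mul' p q := by
    rw [u_mul]
    simp

/-- The first elementary abelian subgroup of order 16. -/
def H0 (F : Type*) [Field F] : Subgroup (ProjectiveSpecialLinearGroup (Fin 3) F) := (rowHom F).range

/-- The second elementary abelian subgroup of order 16. -/
def K0 (F : Type*) [Field F] : Subgroup (ProjectiveSpecialLinearGroup (Fin 3) F) := (colHom F).range

/-- The upper unitriangular group. -/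
def T0 (F : Type*) [Field F] : Subgroup (ProjectiveSpecialLinearGroup (Fin 3) F) where
  carrier := {x | ∃ a b c : F, u a b c = x}
  one_mem' := ⟨0, 0, 0, u_zero⟩
  mul_mem' := by
    rintro _ _ ⟨a, b, c, rfl⟩ ⟨a', b', c', rfl⟩
    exact ⟨_, _, _, (u_mul _ _ _ _ _ _).symm⟩
  inv_mem' := by
    rintro _ ⟨a, b, c, rfl⟩
    refine ⟨-a, -b, a * b - c, ?_⟩
    refine (inv_eq_of_mul_eq_one_right ?_).symm
    rw [u_mul, ← u_zero]
    congr 1 <;> ring

omit [Fintype F] in
theorem mem_H0 {x : ProjectiveSpecialLinearGroup (Fin 3) F} : x ∈ H0 F ↔ ∃ a c, u a 0 c = x :=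
  ⟨fun ⟨p, hp⟩ => ⟨_, _, hp⟩, fun ⟨a, c, h⟩ => ⟨Multiplicative.ofAdd (a, c), h⟩⟩

omit [Fintype F] in
theorem mem_K0 {x : ProjectiveSpecialLinearGroup (Fin 3) F} : x ∈ K0 F ↔ ∃ b c, u 0 b c = x :=
  ⟨fun ⟨p, hp⟩ => ⟨_, _, hp⟩, fun ⟨b, c, h⟩ => ⟨Multiplicative.ofAdd (b, c), h⟩⟩

omit [Fintype F] in
theorem u_mem_T0 (a b c : F) : u a b c ∈ T0 F := ⟨a, b, c, rfl⟩

omit [Fintype F] in
theorem H0_le_T0 : H0 F ≤ T0 F := fun x hx => by
  obtain ⟨a, c, rfl⟩ := mem_H0.1 hx
  exact u_mem_T0 _ _ _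

omit [Fintype F] in
theorem K0_le_T0 : K0 F ≤ T0 F := fun x hx => by
  obtain ⟨b, c, rfl⟩ := mem_K0.1 hx
  exact u_mem_T0 _ _ _

omit [Fintype F] in
theorem sup_eq_T0 : H0 F ⊔ K0 F = T0 F := by
  refine le_antisymm (sup_le H0_le_T0 K0_le_T0) ?_
  rintro _ ⟨a, b, c, rfl⟩
  have : u a b c = u a 0 (c - a * b) * u 0 b 0 := by
    rw [u_mul]
    congr 1 <;> ring
  rw [this]
  exact Subgroup.mul_mem_sup (mem_H0.2 ⟨_, _, rfl⟩) (mem_K0.2 ⟨_, _, rfl⟩)

omit [Fintype F] in
theorem T0_le_normalizer_H0 : T0 F ≤ Subgroup.normalizer (H0 F : Set _) := by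
  have key : ∀ t ∈ T0 F, ∀ h ∈ H0 F, t * h * t⁻¹ ∈ H0 F := by
    rintro _ ⟨a, b, c, rfl⟩ h hh
    obtain ⟨a', c', rfl⟩ := mem_H0.1 hh
    refine mem_H0.2 ⟨a', c' - a' * b, ?_⟩
    rw [u_inv, u_mul, u_mul]
    congr 1 <;> ring
  intro t ht
  refine Subgroup.mem_normalizer_iff.2 fun h => ⟨fun hh => key t ht h hh, fun hh => ?_⟩
  have := key t⁻¹ (inv_mem ht) _ hh
  rwa [inv_inv, show t⁻¹ * (t * h * t⁻¹) * t = h by group] at this

omit [Fintype F] in
theorem T0_le_normalizer_K0 : T0 F ≤ Subgroup.normalizer (K0 F : Set _) := by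
  have key : ∀ t ∈ T0 F, ∀ h ∈ K0 F, t * h * t⁻¹ ∈ K0 F := by
    rintro _ ⟨a, b, c, rfl⟩ h hh
    obtain ⟨b', c', rfl⟩ := mem_K0.1 hh
    refine mem_K0.2 ⟨b', c' + a * b', ?_⟩
    rw [u_inv, u_mul, u_mul]
    congr 1 <;> ring
  intro t ht
  refine Subgroup.mem_normalizer_iff.2 fun h => ⟨fun hh => key t ht h hh, fun hh => ?_⟩
  have := key t⁻¹ (inv_mem ht) _ hh
  rwa [inv_inv, show t⁻¹ * (t * h * t⁻¹) * t = h by group] at this

omit [Fintype F] in
/-- The commutator of two root elements. -/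
theorem u_comm (a b : F) : ⁅u a 0 0, u 0 b 0⁆ = u 0 0 (a * b) := by
  rw [commutatorElement_def, u_inv, u_inv, u_mul, u_mul, u_mul]
  congr 1 <;> ring

omit [Fintype F] in
theorem eq_of_centralizes {x : ProjectiveSpecialLinearGroup (Fin 3) F} (hx : x ∈ T0 F)
    (h1 : x * u 1 0 0 = u 1 0 0 * x) (h2 : x * u 0 1 0 = u 0 1 0 * x) : x ∈ H0 F ⊓ K0 F := by
  obtain ⟨a, b, c, rfl⟩ := hx
  rw [u_mul, u_mul] at h1 h2
  obtain ⟨-, -, e1⟩ := u_inj h1
  obtain ⟨-, -, e2⟩ := u_inj h2
  have hb : b = 0 := by simpa using e1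
  have ha : a = 0 := by simpa using e2
  subst ha hb
  exact ⟨mem_H0.2 ⟨0, c, rfl⟩, mem_K0.2 ⟨0, c, rfl⟩⟩

omit [Fintype F] in
theorem mem_inf_iff {x : ProjectiveSpecialLinearGroup (Fin 3) F} :
    x ∈ H0 F ⊓ K0 F ↔ ∃ c, u 0 0 c = x := by
  refine ⟨fun ⟨h, k⟩ => ?_, fun ⟨c, h⟩ => ⟨mem_H0.2 ⟨0, c, h⟩, mem_K0.2 ⟨0, c, h⟩⟩⟩
  obtain ⟨a, c, rfl⟩ := mem_H0.1 h
  obtain ⟨b, c', e⟩ := mem_K0.1 k
  obtain ⟨rfl, -, -⟩ := u_inj e
  exact ⟨c, rfl⟩

section sylow

variable (hF : Fintype.card F = 4)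
include hF

theorem sq_eq_one_H0 {x : ProjectiveSpecialLinearGroup (Fin 3) F} (hx : x ∈ H0 F) : x * x = 1 := by
  obtain ⟨a, c, rfl⟩ := mem_H0.1 hx
  rw [u_mul, add_self hF, add_self hF, add_self hF, mul_zero, add_zero, u_zero]

theorem sq_eq_one_K0 {x : ProjectiveSpecialLinearGroup (Fin 3) F} (hx : x ∈ K0 F) : x * x = 1 := by
  obtain ⟨b, c, rfl⟩ := mem_K0.1 hx
  rw [u_mul, add_self hF, add_self hF, add_self hF, zero_mul, add_zero, u_zero]

/-- The involutions of `T0` lie in `H0` or `K0`. -/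
theorem mem_or_mem_of_sq {x : ProjectiveSpecialLinearGroup (Fin 3) F} (hx : x ∈ T0 F)
    (h : x * x = 1) : x ∈ H0 F ∨ x ∈ K0 F := by
  obtain ⟨a, b, c, rfl⟩ := hx
  rw [u_mul, ← u_zero] at h
  obtain ⟨-, -, e⟩ := u_inj h
  rw [add_self hF, zero_add, mul_eq_zero] at e
  rcases e with rfl | rfl
  · exact .inr (mem_K0.2 ⟨b, c, rfl⟩)
  · exact .inl (mem_H0.2 ⟨a, c, rfl⟩)

theorem card_H0 : Nat.card (H0 F) = 16 := by
  have hinj : Function.Injective (rowHom F) := fun p q h => by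
    obtain ⟨h1, -, h3⟩ := u_inj (show u (Multiplicative.toAdd p).1 0 (Multiplicative.toAdd p).2 = u (Multiplicative.toAdd q).1 0 (Multiplicative.toAdd q).2 from h)
    exact Multiplicative.toAdd.injective (Prod.ext h1 h3)
  rw [H0, ← Nat.card_congr (MonoidHom.ofInjective hinj).toEquiv,
    Nat.card_congr Multiplicative.toAdd, Nat.card_prod, Nat.card_eq_fintype_card, hF]

theorem card_K0 : Nat.card (K0 F) = 16 := by
  have hinj : Function.Injective (colHom F) := fun p q h => by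
    obtain ⟨-, h2, h3⟩ := u_inj (show u 0 (Multiplicative.toAdd p).1 (Multiplicative.toAdd p).2 = u 0 (Multiplicative.toAdd q).1 (Multiplicative.toAdd q).2 from h)
    exact Multiplicative.toAdd.injective (Prod.ext h2 h3)
  rw [K0, ← Nat.card_congr (MonoidHom.ofInjective hinj).toEquiv,
    Nat.card_congr Multiplicative.toAdd, Nat.card_prod, Nat.card_eq_fintype_card, hF]

theorem card_T0 : Nat.card (T0 F) = 64 := by
  let e : F × F × F ≃ ↥(T0 F) := Equiv.ofBijective (fun p => ⟨u p.1 p.2.1 p.2.2, u_mem_T0 _ _ _⟩)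
    ⟨fun p q h => by
      obtain ⟨h1, h2, h3⟩ := u_inj (congrArg Subtype.val h)
      exact Prod.ext h1 (Prod.ext h2 h3),
    fun ⟨x, a, b, c, h⟩ => ⟨(a, b, c), Subtype.ext h⟩⟩
  rw [← Nat.card_congr e, Nat.card_prod, Nat.card_prod, Nat.card_eq_fintype_card, hF]

theorem index_T0 : (T0 F).index = 315 := by
  have hB : Nat.card (ProjectiveSpecialLinearGroup (Fin 3) F) = 20160 := by
    classical
    have h := CfsgLib.Classical.card_PSL_mul (F := F) hF 3 (by norm_num)
    rw [Fin.prod_univ_three, show Nat.gcd 3 (4 - 1) = 3 from rfl] at h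
    norm_num at h
    rw [Nat.card_eq_fintype_card]
    linarith
  have h := (T0 F).card_mul_index
  rw [card_T0 hF, hB] at h
  omega

theorem isPGroup_T0 : IsPGroup 2 (T0 F) := IsPGroup.of_card (n := 6) (card_T0 hF)

theorem not_dvd_index_T0 : ¬ 2 ∣ (T0 F).index := by rw [index_T0 hF]; norm_num

/-- After conjugation a 2-group lands in `T0`. -/
theorem exists_conj_le (S : Subgroup (ProjectiveSpecialLinearGroup (Fin 3) F)) (hS : IsPGroup 2 S) :
    ∃ g, ∀ x ∈ S, g * x * g⁻¹ ∈ T0 F := by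
  haveI : Fact (Nat.Prime 2) := ⟨Nat.prime_two⟩
  obtain ⟨Q, hQ⟩ := hS.exists_le_sylow
  let S0 : Sylow 2 (ProjectiveSpecialLinearGroup (Fin 3) F) :=
    (isPGroup_T0 hF).toSylow (not_dvd_index_T0 hF)
  obtain ⟨g, hg⟩ := MulAction.exists_smul_eq (ProjectiveSpecialLinearGroup (Fin 3) F) Q S0
  refine ⟨g, fun x hx => ?_⟩
  have h1 : g * x * g⁻¹ ∈ ((g • Q : Sylow 2 _) : Subgroup (ProjectiveSpecialLinearGroup (Fin 3) F)) := by
    rw [Sylow.coe_subgroup_smul]
    exact ⟨x, hQ hx, rfl⟩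
  rw [hg] at h1
  exact h1

end sylow

/-- The normalizer of `H` maps onto `PSL₂(F)` with kernel `H`. -/
def NormalizerOnto (F : Type*) [Field F] {G : Type*} [Group G] (H : Subgroup G) : Prop :=
  ∃ Ψ : ↥(Subgroup.normalizer (H : Set G)) →* ProjectiveSpecialLinearGroup (Fin 2) F,
    Function.Surjective Ψ ∧ ∀ n, Ψ n = 1 ↔ (n : G) ∈ H

omit [Fintype F] in
theorem normalizerOnto_comap {G X : Type*} [Group G] [Group X] {σ : X →* G}
    (hσ : Function.Surjective σ) {H : Subgroup G} (h : NormalizerOnto F H) :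
    NormalizerOnto F (H.comap σ) := by
  obtain ⟨Ψ, hΨ, hk⟩ := h
  have heq := Subgroup.comap_normalizer_eq_of_surjective H hσ
  let f : ↥(Subgroup.normalizer ((H.comap σ : Subgroup X) : Set X)) →*
      ↥(Subgroup.normalizer (H : Set G)) :=
    (σ.comp (Subgroup.normalizer ((H.comap σ : Subgroup X) : Set X)).subtype).codRestrict _
      fun n => heq.ge n.2
  refine ⟨Ψ.comp f, fun y => ?_, fun n => hk (f n)⟩
  obtain ⟨m, rfl⟩ := hΨ y
  obtain ⟨x, hx⟩ := hσ m
  refine ⟨⟨x, heq.le (show σ x ∈ _ by rw [hx]; exact m.2)⟩, ?_⟩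
  show Ψ _ = Ψ m
  congr 1
  exact Subtype.ext hx

/-- The stabilizer of the first axis. -/
def P0 (F : Type*) [Field F] : Subgroup (Matrix.SpecialLinearGroup (Fin 3) F) where
  carrier := {g | g.1 1 0 = 0 ∧ g.1 2 0 = 0}
  one_mem' := by simp
  mul_mem' := by
    rintro g h ⟨g1, g2⟩ ⟨h1, h2⟩
    constructor <;> simp [Matrix.mul_apply, Fin.sum_univ_three, g1, g2, h1, h2]
  inv_mem' := by
    rintro g ⟨g1, g2⟩
    constructor
    · show g.1.adjugate 1 0 = 0
      rw [Matrix.adjugate_fin_three]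
      simp [g1, g2]
    · show g.1.adjugate 2 0 = 0
      rw [Matrix.adjugate_fin_three]
      simp [g1, g2]

omit [Fintype F] in
theorem det_P0 {g : Matrix.SpecialLinearGroup (Fin 3) F} (hg : g ∈ P0 F) :
    g.1 0 0 * (g.1 1 1 * g.1 2 2 - g.1 1 2 * g.1 2 1) = 1 := by
  have h := g.2
  rw [Matrix.det_fin_three, hg.1, hg.2] at h
  linear_combination h

variable (hF : Fintype.card F = 4)

/-- The Levi quotient of the stabilizer, scaled into `SL₂`. -/
def phi : ↥(P0 F) →* Matrix.SpecialLinearGroup (Fin 2) F where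
  toFun g := ⟨(g.1.1 0 0) ^ 2 • !![g.1.1 1 1, g.1.1 1 2; g.1.1 2 1, g.1.1 2 2], by
    rw [Matrix.det_smul, Matrix.det_fin_two]
    simp only [Fintype.card_fin, Matrix.of_apply, Matrix.cons_val', Matrix.cons_val_zero,
      Matrix.cons_val_one, Matrix.empty_val', Matrix.cons_val_fin_one]
    have h := det_P0 g.2
    have h4 := pow_four hF (g.1.1 0 0)
    linear_combination h + (g.1.1 1 1 * g.1.1 2 2 - g.1.1 1 2 * g.1.1 2 1) * h4⟩
  map_one' := by
    refine Subtype.ext ?_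
    ext i j
    fin_cases i <;> fin_cases j <;> simp
  map_mul' g h := by
    refine Subtype.ext ?_
    show ((g.1.1 * h.1.1) 0 0) ^ 2 • !![(g.1.1 * h.1.1) 1 1, (g.1.1 * h.1.1) 1 2;
      (g.1.1 * h.1.1) 2 1, (g.1.1 * h.1.1) 2 2] =
      ((g.1.1 0 0) ^ 2 • !![g.1.1 1 1, g.1.1 1 2; g.1.1 2 1, g.1.1 2 2]) *
        ((h.1.1 0 0) ^ 2 • !![h.1.1 1 1, h.1.1 1 2; h.1.1 2 1, h.1.1 2 2])
    have g1 := g.2.1
    have g2 := g.2.2
    have h1 := h.2.1
    have h2 := h.2.2
    ext i j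
    fin_cases i <;> fin_cases j <;>
      simp [Matrix.mul_apply, Fin.sum_univ_three, g1, g2, h1, h2] <;> ring

theorem phi_apply (g : ↥(P0 F)) (i j : Fin 2) :
    (phi hF g).1 i j = (g.1.1 0 0) ^ 2 * g.1.1 i.succ j.succ := by
  fin_cases i <;> fin_cases j <;> rfl

theorem phi_surjective : Function.Surjective (phi hF) := by
  intro M
  have hM := M.2
  rw [Matrix.det_fin_two] at hM
  let g : Matrix.SpecialLinearGroup (Fin 3) F := ⟨!![1, 0, 0; 0, M.1 0 0, M.1 0 1; 0, M.1 1 0, M.1 1 1], by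
    simp [Matrix.det_fin_three]
    linear_combination hM⟩
  refine ⟨⟨g, by simp [g], by simp [g]⟩, Subtype.ext ?_⟩
  ext i j
  rw [phi_apply]
  fin_cases i <;> fin_cases j <;> simp [g]

include hF in
theorem center_SL2_eq_bot : Subgroup.center (Matrix.SpecialLinearGroup (Fin 2) F) = ⊥ := by
  refine (Subgroup.eq_bot_iff_forall _).2 fun A hA => ?_
  obtain ⟨r, hr, hrA⟩ := Matrix.SpecialLinearGroup.mem_center_iff.1 hA
  have hr1 : r = 1 := by
    have h : (r - 1) * (r - 1) = 0 := by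
      have h2 := CfsgLib.Classical.PSL34.two_eq_zero hF
      simp only [Fintype.card_fin] at hr
      linear_combination hr + (1 - r) * h2
    exact sub_eq_zero.1 (mul_self_eq_zero.1 h)
  refine Subtype.ext ?_
  rw [← hrA, hr1, map_one, Matrix.SpecialLinearGroup.coe_one]

include hF in
theorem mk_mem_normalizer {g : Matrix.SpecialLinearGroup (Fin 3) F} (hg : g ∈ P0 F) :
    QuotientGroup.mk' (Subgroup.center (Matrix.SpecialLinearGroup (Fin 3) F)) g ∈
      Subgroup.normalizer (H0 F : Set _) := by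
  have key : ∀ g ∈ P0 F, ∀ h ∈ H0 F, QuotientGroup.mk' (Subgroup.center (Matrix.SpecialLinearGroup (Fin 3) F)) g * h *
      (QuotientGroup.mk' (Subgroup.center (Matrix.SpecialLinearGroup (Fin 3) F)) g)⁻¹ ∈ H0 F := by
    intro g hg h hh
    obtain ⟨a, c, rfl⟩ := mem_H0.1 hh
    refine mem_H0.2 ⟨(g.1 0 0) ^ 2 * (a * g.1 2 2 - c * g.1 2 1),
      (g.1 0 0) ^ 2 * (c * g.1 1 1 - a * g.1 1 2), ?_⟩
    rw [eq_mul_inv_iff_mul_eq, u, u, ← map_mul, ← map_mul]
    congr 1
    refine Subtype.ext ?_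
    rw [Matrix.SpecialLinearGroup.coe_mul, Matrix.SpecialLinearGroup.coe_mul]
    have g1 := hg.1
    have g2 := hg.2
    have hd := det_P0 hg
    ext i j
    fin_cases i <;> fin_cases j <;> simp [uni, Matrix.mul_apply, Fin.sum_univ_three, g1, g2]
    · linear_combination a * g.1 0 0 * hd
    · linear_combination c * g.1 0 0 * hd
  refine Subgroup.mem_normalizer_iff.2 fun h => ⟨fun hh => key g hg h hh, fun hh => ?_⟩
  have := key g⁻¹ (inv_mem hg) _ hh
  rw [map_inv, inv_inv] at this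
  simpa [mul_assoc] using this

include hF in
theorem mem_P0_of_mk_mem_normalizer {g : Matrix.SpecialLinearGroup (Fin 3) F}
    (hn : QuotientGroup.mk' (Subgroup.center (Matrix.SpecialLinearGroup (Fin 3) F)) g ∈
      Subgroup.normalizer (H0 F : Set _)) : g ∈ P0 F := by
  have key : ∀ a c : F, ∃ a' c' : F, g * uni a 0 c = uni a' 0 c' * g := by
    intro a c
    obtain ⟨a', c', e⟩ := mem_H0.1 ((Subgroup.mem_normalizer_iff.1 hn _).1
      (show u a 0 c ∈ H0 F from mem_H0.2 ⟨a, c, rfl⟩))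
    rw [eq_mul_inv_iff_mul_eq, u, u, ← map_mul, ← map_mul, QuotientGroup.mk'_eq_mk'] at e
    obtain ⟨z, hz, e⟩ := e
    refine ⟨a', c', ?_⟩
    obtain ⟨r, -, hr⟩ := Matrix.SpecialLinearGroup.mem_center_iff.1 hz
    have ez : uni a' 0 c' * g * z = g * uni a 0 c := e
    have e2 : uni a' 0 c' * z = g * uni a 0 c * g⁻¹ := by
      rw [← ez, mul_assoc (uni a' 0 c'), Subgroup.mem_center_iff.1 hz g]
      simp only [mul_assoc, mul_inv_cancel, mul_one]
    have e3 : ((uni a' 0 c').1 * z.1).trace = (g.1 * (uni a 0 c).1 * (g⁻¹).1).trace :=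
      congrArg (fun A : Matrix.SpecialLinearGroup (Fin 3) F => A.1.trace) e2
    have e4 : (g⁻¹).1 * g.1 = 1 := congrArg Subtype.val (inv_mul_cancel g)
    rw [Matrix.trace_mul_cycle, e4, one_mul, ← hr, scalar_apply] at e3
    simp [uni, Matrix.trace_fin_three] at e3
    have hr1 : r = 1 := by linear_combination e3 - (r - 1) * CfsgLib.Classical.PSL34.two_eq_zero hF
    have hz1 : z = 1 := by
      refine Subtype.ext ?_
      rw [← hr, hr1, map_one, Matrix.SpecialLinearGroup.coe_one]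
    rw [hz1, mul_one] at ez
    exact ez.symm
  obtain ⟨a, c, e1⟩ := key 1 0
  obtain ⟨a', c', e2⟩ := key 0 1
  have e1' := congrArg Subtype.val e1
  have e2' := congrArg Subtype.val e2
  rw [Matrix.SpecialLinearGroup.coe_mul, Matrix.SpecialLinearGroup.coe_mul] at e1' e2'
  have x1 := congrFun (congrFun e1' 1) 1
  have x2 := congrFun (congrFun e1' 2) 1
  simp [uni, Matrix.mul_apply, Fin.sum_univ_three] at x1 x2
  exact ⟨x1, x2⟩

include hF in
theorem onto_H0 : NormalizerOnto F (H0 F) := by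
  let f : ↥(P0 F) →* ↥(Subgroup.normalizer (H0 F : Set (ProjectiveSpecialLinearGroup (Fin 3) F))) :=
    ((QuotientGroup.mk' (Subgroup.center (Matrix.SpecialLinearGroup (Fin 3) F))).comp (P0 F).subtype).codRestrict _
      fun g => mk_mem_normalizer hF g.2
  have hf : Function.Surjective f := by
    rintro ⟨n, hn⟩
    obtain ⟨g, rfl⟩ := QuotientGroup.mk'_surjective _ n
    exact ⟨⟨g, mem_P0_of_mk_mem_normalizer hF hn⟩, rfl⟩
  let ψ : ↥(P0 F) →* ProjectiveSpecialLinearGroup (Fin 2) F :=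
    (QuotientGroup.mk' (Subgroup.center (Matrix.SpecialLinearGroup (Fin 2) F))).comp (phi hF)
  have hψ : ∀ g, ψ g = 1 ↔ phi hF g = 1 := fun g => by
    show QuotientGroup.mk' _ (phi hF g) = 1 ↔ _
    rw [← MonoidHom.mem_ker, QuotientGroup.ker_mk', center_SL2_eq_bot hF, Subgroup.mem_bot]
  have hker : f.ker ≤ ψ.ker := by
    intro g hg
    rw [MonoidHom.mem_ker] at hg ⊢
    rw [hψ]
    have hz : g.1 ∈ Subgroup.center (Matrix.SpecialLinearGroup (Fin 3) F) :=
      (QuotientGroup.eq_one_iff _).1 (congrArg Subtype.val hg)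
    obtain ⟨r, hr, hrg⟩ := Matrix.SpecialLinearGroup.mem_center_iff.1 hz
    simp only [Fintype.card_fin] at hr
    refine Subtype.ext ?_
    ext i j
    rw [phi_apply, ← hrg]
    fin_cases i <;> fin_cases j <;> simp [scalar_apply]
    · linear_combination hr
    · linear_combination hr
  refine ⟨f.liftOfSurjective hf ⟨ψ, hker⟩, fun y => ?_, fun n => ?_⟩
  · obtain ⟨y', rfl⟩ := QuotientGroup.mk'_surjective _ y
    obtain ⟨g, rfl⟩ := phi_surjective hF y'
    exact ⟨f g, MonoidHom.liftOfRightInverse_comp_apply _ _ _ _ g⟩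
  obtain ⟨g, rfl⟩ := hf n
  rw [MonoidHom.liftOfRightInverse_comp_apply, hψ]
  show _ ↔ QuotientGroup.mk' (Subgroup.center (Matrix.SpecialLinearGroup (Fin 3) F)) g.1 ∈ H0 F
  set x := g.1.1 0 0 with hx
  have hx0 : x ≠ 0 := fun h0 => by
    have h := det_P0 g.2
    rw [← hx, h0, zero_mul] at h
    exact zero_ne_one h
  have hx3 : x ^ 3 = 1 := mul_left_cancel₀ hx0 (by rw [mul_one, ← pow_succ', pow_four hF])
  constructor
  · intro h
    have he : ∀ i j : Fin 2, g.1.1 i.succ j.succ = x * (1 : Matrix (Fin 2) (Fin 2) F) i j := by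
      intro i j
      have h' := congrArg (fun A : Matrix.SpecialLinearGroup (Fin 2) F => A.1 i j) h
      simp only [phi_apply, Matrix.SpecialLinearGroup.coe_one, ← hx] at h'
      rw [← h', ← mul_assoc, ← pow_succ', hx3, one_mul]
    refine mem_H0.2 ⟨x ^ 2 * g.1.1 0 1, x ^ 2 * g.1.1 0 2, ?_⟩
    rw [u, QuotientGroup.mk'_eq_mk']
    refine ⟨⟨scalar (Fin 3) x, by simp [hx3]⟩, Matrix.SpecialLinearGroup.mem_center_iff.2
      ⟨x, by simpa using hx3, rfl⟩, Subtype.ext ?_⟩
    show (uni (x ^ 2 * g.1.1 0 1) 0 (x ^ 2 * g.1.1 0 2)).1 * scalar (Fin 3) x = g.1.1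
    have a11 := he 0 0
    have a12 := he 0 1
    have a21 := he 1 0
    have a22 := he 1 1
    simp at a11 a12 a21 a22
    ext i j
    fin_cases i <;> fin_cases j <;>
      simp [uni, scalar_apply, Matrix.mul_diagonal, g.2.1, g.2.2, a11, a12, a21, a22, ← hx]
    · linear_combination g.1.1 0 1 * hx3
    · linear_combination g.1.1 0 2 * hx3
  · intro h
    obtain ⟨a, c, e⟩ := mem_H0.1 h
    rw [u, QuotientGroup.mk'_eq_mk'] at e
    obtain ⟨z, hz, e⟩ := e
    obtain ⟨r, hr, hrz⟩ := Matrix.SpecialLinearGroup.mem_center_iff.1 hz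
    simp only [Fintype.card_fin] at hr
    refine Subtype.ext ?_
    ext i j
    rw [phi_apply, ← e, Matrix.SpecialLinearGroup.coe_mul, ← hrz, scalar_apply]
    fin_cases i <;> fin_cases j <;> simp [uni, Matrix.mul_diagonal]
    · linear_combination hr
    · linear_combination hr

/-- The transpose inverse, read in the reversed basis. -/
def flip : Matrix.SpecialLinearGroup (Fin 3) F →* Matrix.SpecialLinearGroup (Fin 3) F where
  toFun g := ⟨(g⁻¹).1ᵀ.submatrix Fin.revPerm Fin.revPerm, by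
    rw [Matrix.det_submatrix_equiv_self, Matrix.det_transpose]
    exact (g⁻¹).2⟩
  map_one' := by
    refine Subtype.ext ?_
    simp [Matrix.submatrix_one_equiv]
  map_mul' g h := by
    refine Subtype.ext ?_
    simp only [Matrix.SpecialLinearGroup.coe_mul, _root_.mul_inv_rev, Matrix.transpose_mul]
    exact (Matrix.submatrix_mul_equiv _ _ _ _ _).symm

omit [Fintype F] in
theorem flip_flip (g : Matrix.SpecialLinearGroup (Fin 3) F) : flip (flip g) = g := by
  have h : (flip g)⁻¹ = flip g⁻¹ := (map_inv _ g).symm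
  refine Subtype.ext ?_
  show ((flip g)⁻¹).1ᵀ.submatrix Fin.revPerm Fin.revPerm = g.1
  rw [h]
  show ((((g⁻¹)⁻¹).1ᵀ).submatrix Fin.revPerm Fin.revPerm)ᵀ.submatrix Fin.revPerm Fin.revPerm = g.1
  rw [inv_inv]
  ext i j
  simp

omit [Fintype F] in
theorem flip_center (g : Matrix.SpecialLinearGroup (Fin 3) F)
    (hg : g ∈ Subgroup.center (Matrix.SpecialLinearGroup (Fin 3) F)) :
    flip g ∈ Subgroup.center (Matrix.SpecialLinearGroup (Fin 3) F) :=
  Subgroup.mem_center_iff.2 fun y => by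
    conv_lhs => rw [← flip_flip y, ← map_mul, Subgroup.mem_center_iff.1 hg, map_mul, flip_flip]

/-- The graph automorphism of `PSL₃`. -/
def flipPSL : ProjectiveSpecialLinearGroup (Fin 3) F →* ProjectiveSpecialLinearGroup (Fin 3) F :=
  QuotientGroup.map _ _ flip flip_center

omit [Fintype F] in
theorem flipPSL_surjective : Function.Surjective (flipPSL (F := F)) := fun x => by
  obtain ⟨g, rfl⟩ := QuotientGroup.mk'_surjective _ x
  exact ⟨QuotientGroup.mk' _ (flip g), congrArg (QuotientGroup.mk' _) (flip_flip g)⟩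

omit [Fintype F] in
theorem flipPSL_u (a b c : F) : flipPSL (u a b c) = u (-b) (-a) (a * b - c) := by
  show QuotientGroup.mk' (Subgroup.center (Matrix.SpecialLinearGroup (Fin 3) F)) (flip (uni a b c)) = _
  rw [u]
  congr 1
  refine Subtype.ext ?_
  show (uni a b c).1.adjugateᵀ.submatrix Fin.revPerm Fin.revPerm = _
  rw [Matrix.adjugate_fin_three]
  ext i j
  fin_cases i <;> fin_cases j <;> simp [uni]

omit [Fintype F] in
theorem flipPSL_flipPSL (x : ProjectiveSpecialLinearGroup (Fin 3) F) : flipPSL (flipPSL x) = x := by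
  obtain ⟨g, rfl⟩ := QuotientGroup.mk'_surjective _ x
  exact congrArg (QuotientGroup.mk' _) (flip_flip g)

include hF in
theorem onto_K0 : NormalizerOnto F (K0 F) := by
  have h : K0 F = (H0 F).comap flipPSL := by
    ext x
    rw [Subgroup.mem_comap, mem_H0, mem_K0]
    constructor
    · rintro ⟨b, c, rfl⟩
      exact ⟨-b, -c, by rw [flipPSL_u]; congr 1 <;> ring⟩
    · rintro ⟨a, c, e⟩
      refine ⟨-a, -c, ?_⟩
      rw [← flipPSL_flipPSL x, ← e, flipPSL_u]
      congr 1 <;> ring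
  rw [h]
  exact normalizerOnto_comap flipPSL_surjective (onto_H0 hF)

end CfsgLib.Schur.L34
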