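/-
Central extensions of `PSL₃(4)` by elementary abelian 2-groups.
-/
import Cfsg.Prelude
import Cfsg.Agent.Lib.Schur.L34Frame
import Cfsg.Agent.Lib.Recognition.Suzuki.CoverKernel
import Cfsg.Agent.Lib.Fusion.GenExtraspecial

set_option autoImplicit false

namespace CfsgLib.Schur.L34

open Subgroup
open scoped commutatorElement

variable {F : Type*} [Field F] {X : Type*} [Group X]

theorem sq_comm {A : Subgroup X} (h : ∀ a ∈ A, a * a = 1) : ∀ a ∈ A, ∀ b ∈ A, a * b = b * a := by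
  intro a ha b hb
  have e1 := inv_eq_of_mul_eq_one_right (h a ha)
  have e2 := inv_eq_of_mul_eq_one_right (h b hb)
  calc a * b = (a * b)⁻¹ := (inv_eq_of_mul_eq_one_right (h _ (mul_mem ha hb))).symm
    _ = b * a := by rw [_root_.mul_inv_rev, e1, e2]

theorem elementary_of_sq {A : Subgroup X} (h : ∀ a ∈ A, a * a = 1) : Cfsg.IsElementaryAbelian 2 A :=
  ⟨⟨⟨fun a b => Subtype.ext (sq_comm h a a.2 b b.2)⟩⟩, fun a ha => by rw [pow_two]; exact h a ha⟩

/-- A split extension: the normalizer of an elementary abelian `H` whose quotient is `PSL₂`. -/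
theorem exists_complement [Finite X] {H K : Subgroup X} (hH : ∀ a ∈ H, a * a = 1)
    (hK : ∀ a ∈ K, a * a = 1) (hKN : K ≤ normalizer (H : Set X))
    (hodd : ¬ 2 ∣ (H ⊔ K).index) (hon : NormalizerOnto F H) :
    ∃ C : Subgroup X, C ≤ normalizer (H : Set X) ∧ C ⊓ H = ⊥ ∧ H ⊔ C = normalizer (H : Set X) ∧
      Nonempty (↥C ≃* Matrix.ProjectiveSpecialLinearGroup (Fin 2) F) := by
  have : Fact (Nat.Prime 2) := ⟨Nat.prime_two⟩
  obtain ⟨A, hAK, hA1, hA2⟩ := CfsgLib.Fusion.GenX.exists_complement_elemAb (p := 2) (Z := K) (Φ := H ⊓ K)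
    (sq_comm hK) (fun a ha => by rw [pow_two]; exact hK a ha) inf_le_right
  set N := normalizer (H : Set X) with hN
  have hHN : H ≤ N := le_normalizer
  obtain ⟨Ψ, hΨ, hker⟩ := hon
  have hAN : A ≤ N := hAK.trans hKN
  have hHA : H ⊔ A = H ⊔ K := by
    rw [← hA2, ← sup_assoc, sup_eq_left.2 (inf_le_left : H ⊓ K ≤ H)]
  have hAH : A ⊓ H = ⊥ := by
    rw [← le_bot_iff, ← hA1]
    exact le_inf (le_inf inf_le_right (inf_le_left.trans hAK)) inf_le_left
  haveI : (H.subgroupOf N).Normal := Subgroup.normal_in_normalizer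
  have hKU : H.subgroupOf N ≤ (H ⊔ K).subgroupOf N := fun x hx => le_sup_left (b := K) hx
  have hcop : (Nat.card (H.subgroupOf N)).Coprime ((H ⊔ K).subgroupOf N).index := by
    have hp : IsPGroup 2 (H.subgroupOf N) := fun a => ⟨1, Subtype.ext (Subtype.ext (by
      rw [pow_one, pow_two]; exact hH _ a.2))⟩
    obtain ⟨n, hn⟩ := IsPGroup.iff_card.1 hp
    rw [hn]
    refine Nat.Coprime.pow_left n ((Nat.prime_two.coprime_iff_not_dvd).2 fun h => hodd ?_)
    exact h.trans ⟨N.index, (relIndex_mul_index (sup_le hHN hKN)).symm⟩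
  obtain ⟨C, hC⟩ := CfsgLib.Solvable.gaschutz_exists (H.subgroupOf N) ((H ⊔ K).subgroupOf N)
    (fun x hx y hy => Subtype.ext (sq_comm hH _ hx _ hy)) hKU hcop (A.subgroupOf N)
    (fun x hx => hHA.le (le_sup_right (a := H) hx))
    (by
      refine (Subgroup.eq_bot_iff_forall _).2 fun x hx => Subtype.ext ?_
      exact (Subgroup.eq_bot_iff_forall _).1 hAH _ ⟨hx.1, hx.2⟩)
    (by rw [← subgroupOf_sup hHN hAN, hHA])
  refine ⟨C.map N.subtype, map_subtype_le C, ?_, ?_, ?_⟩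
  · refine (Subgroup.eq_bot_iff_forall _).2 fun x hx => ?_
    obtain ⟨⟨c, hc, rfl⟩, hxH⟩ := hx
    have : c ∈ H.subgroupOf N ⊓ C := ⟨hxH, hc⟩
    rw [hC.disjoint.eq_bot, Subgroup.mem_bot] at this
    rw [this]; rfl
  · refine le_antisymm (sup_le hHN (map_subtype_le C)) fun x hx => ?_
    obtain ⟨⟨⟨k, hk⟩, ⟨c, hc⟩⟩, e⟩ := hC.2 ⟨x, hx⟩
    rw [show x = (k : X) * (c : X) from (congrArg Subtype.val e).symm]
    exact mul_mem_sup hk ⟨c, hc, rfl⟩
  · have hb : Function.Bijective (Ψ.comp C.subtype) := by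
      constructor
      · refine (injective_iff_map_eq_one _).2 fun c hc => Subtype.ext ?_
        have h1 : (c : ↥N) ∈ H.subgroupOf N ⊓ C := ⟨(hker _).1 hc, c.2⟩
        rw [hC.disjoint.eq_bot, Subgroup.mem_bot] at h1
        exact h1
      · intro y
        obtain ⟨n, rfl⟩ := hΨ y
        obtain ⟨⟨⟨k, hk⟩, c⟩, e⟩ := hC.2 n
        refine ⟨c, ?_⟩
        show Ψ (c : ↥N) = Ψ n
        rw [← e]
        show _ = Ψ (k * (c : ↥N))
        rw [map_mul, (hker k).2 hk, one_mul]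
    exact ⟨(C.equivMapOfInjective N.subtype N.subtype_injective).symm.trans
      (MulEquiv.ofBijective _ hb)⟩

variable [Fintype F] (hF : Fintype.card F = 4)
  {σ : X →* Matrix.ProjectiveSpecialLinearGroup (Fin 3) F} (hσ : Function.Surjective σ)
  (hc : σ.ker ≤ center X) (h2 : ∀ z ∈ σ.ker, z * z = 1)
include hF hσ hc h2

/-- Every lift of an involution is an involution. -/
theorem sq_lift {x : X} (hx : σ x * σ x = 1) : x * x = 1 := by
  by_cases h1 : σ x = 1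
  · exact h2 x h1
  have hord : ∀ {x : X}, σ x * σ x = 1 → σ x ≠ 1 → orderOf (σ x) = 2 := fun hx h1 =>
    haveI : Fact (Nat.Prime 2) := ⟨Nat.prime_two⟩
    orderOf_eq_prime (by rw [pow_two]; exact hx) h1
  have key : ∀ {y : X}, σ y * σ y = 1 → σ y ≠ 1 → y * y = x * x := by
    intro y hy hy1
    obtain ⟨c, hcc⟩ := isConj_iff.1 (CfsgLib.Classical.PSL34.involutions_conjugate hF _ _
      (hord hx h1) (hord hy hy1))
    obtain ⟨g, rfl⟩ := hσ c
    obtain ⟨z, rfl⟩ : ∃ z, y = g * x * g⁻¹ * z := ⟨_, (mul_inv_cancel_left (g * x * g⁻¹) y).symm⟩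
    have hz : z ∈ σ.ker := by
      rw [map_mul, map_mul, map_mul, map_inv, hcc] at hcc
      rw [MonoidHom.mem_ker]
      exact mul_eq_left.1 hcc.symm
    have hxx : x * x ∈ σ.ker := by rw [MonoidHom.mem_ker, map_mul, hx]
    calc g * x * g⁻¹ * z * (g * x * g⁻¹ * z)
        = g * x * g⁻¹ * (z * (g * x * g⁻¹)) * z := by group
      _ = g * x * g⁻¹ * (g * x * g⁻¹ * z) * z := by rw [mem_center_iff.1 (hc hz) (g * x * g⁻¹)]
      _ = g * (x * x) * g⁻¹ * (z * z) := by group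
      _ = x * x := by rw [h2 z hz, mul_one, mem_center_iff.1 (hc hxx) g, mul_inv_cancel_right]
  have hck : x * x ∈ σ.ker := by rw [MonoidHom.mem_ker, map_mul, hx]
  have hcz := mem_center_iff.1 (hc hck)
  obtain ⟨w, hw0, hw1, -⟩ := exists_omega hF
  have h1w : (1 : F) + w ≠ 0 := fun h => hw1 (by
    have := eq_neg_of_add_eq_zero_right h
    rwa [neg_self hF] at this)
  have inv : ∀ {y : X} {a c : F}, σ y = u a 0 c → (a ≠ 0 ∨ c ≠ 0) → y * y = x * x := by
    intro y a c hy hne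
    refine key (by rw [hy]; exact sq_eq_one_H0 hF (mem_H0.2 ⟨a, c, rfl⟩)) fun h => ?_
    obtain ⟨rfl, -, rfl⟩ := u_inj (hy.symm.trans (h.trans u_zero.symm))
    simp at hne
  have comm : ∀ {p q : X} {a c a' c' : F}, σ p = u a 0 c → σ q = u a' 0 c' → (a ≠ 0 ∨ c ≠ 0) →
      (a' ≠ 0 ∨ c' ≠ 0) → (a + a' ≠ 0 ∨ c + c' ≠ 0) → p * q = x * x * (q * p) := by
    intro p q a c a' c' hp hq n1 n2 n3
    have e3 : p * q * (p * q) = x * x := inv (a := a + a') (c := c + c') (by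
      rw [map_mul, hp, hq, u_mul]
      simp) n3
    have hcc : x * x * (x * x) = 1 := h2 _ hck
    have ep : p⁻¹ = x * x * p := by
      refine inv_eq_of_mul_eq_one_right ?_
      rw [← mul_assoc, hcz p, mul_assoc, inv hp n1, hcc]
    have eq' : q⁻¹ = x * x * q := by
      refine inv_eq_of_mul_eq_one_right ?_
      rw [← mul_assoc, hcz q, mul_assoc, inv hq n2, hcc]
    calc p * q = p * q * (p * q) * (q⁻¹ * p⁻¹) := by group
      _ = x * x * (x * x) * ((q * (x * x)) * p) := by rw [e3, ep, eq']; group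
      _ = x * x * (q * p) := by rw [hcz q, hcc, one_mul, mul_assoc]
  obtain ⟨p, hp⟩ := hσ (u 1 0 0)
  obtain ⟨q, hq⟩ := hσ (u 0 0 1)
  obtain ⟨r, hr⟩ := hσ (u w 0 0)
  have e1 := comm hp hq (.inl one_ne_zero) (.inr one_ne_zero) (.inr (by simp))
  have e2 := comm hp hr (.inl one_ne_zero) (.inl hw0) (.inl h1w)
  have e3 := comm hp (show σ (q * r) = u (0 + w) 0 (1 + 0) by rw [map_mul, hq, hr, u_mul]; simp)
    (.inl one_ne_zero) (.inl (by simpa using hw0)) (.inr (by simp))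
  have e4 : p * (q * r) = q * r * p := by
    calc p * (q * r) = p * q * r := by group
      _ = x * x * q * (p * r) := by rw [e1]; group
      _ = x * x * (q * (x * x)) * (r * p) := by rw [e2]; group
      _ = x * x * (x * x) * (q * r * p) := by rw [hcz q]; group
      _ = q * r * p := by rw [h2 _ hck, one_mul]
  rw [e4] at e3
  exact mul_eq_right.1 e3.symm

theorem sq_comap {H : Subgroup (Matrix.ProjectiveSpecialLinearGroup (Fin 3) F)}
    (hH : ∀ a ∈ H, a * a = 1) : ∀ a ∈ H.comap σ, a * a = 1 :=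
  fun _ ha => sq_lift hF hσ hc h2 (hH _ ha)

/-- An elementary abelian 2-central kernel of a perfect cover has order at most 4. -/
theorem card_ker_le_four [Finite X] (hperf : commutator X = ⊤) : Nat.card σ.ker ≤ 4 := by
  have : Fact (Nat.Prime 2) := ⟨Nat.prime_two⟩
  obtain ⟨w, hw0, hw1, hall⟩ := exists_omega hF
  set A := (H0 F).comap σ with hA
  set B := (K0 F).comap σ with hB
  set T := (T0 F).comap σ with hT
  set Z := σ.ker with hZ
  have sA : ∀ a ∈ A, a * a = 1 := sq_comap hF hσ hc h2 fun a => sq_eq_one_H0 hF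
  have sB : ∀ a ∈ B, a * a = 1 := sq_comap hF hσ hc h2 fun a => sq_eq_one_K0 hF
  set D := A ⊓ B with hD
  have cA : ∀ d ∈ D, ∀ a ∈ A, d * a = a * d := fun d hd a ha => sq_comm sA d hd.1 a ha
  have cB : ∀ d ∈ D, ∀ a ∈ B, d * a = a * d := fun d hd a ha => sq_comm sB d hd.2 a ha
  have hcD : ∀ {a b : X}, a ∈ A → b ∈ B → ⁅a, b⁆ ∈ D := by
    intro a b ha hb
    refine ⟨?_, ?_⟩
    · show ⁅a, b⁆ ∈ A
      rw [commutatorElement_def, mul_assoc, mul_assoc]
      refine mul_mem ha ?_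
      rw [← mul_assoc]
      have := (mem_normalizer_iff.1 (T0_le_normalizer_H0 (K0_le_T0 hb)) _).1 (show σ a⁻¹ ∈ H0 F from (inv_mem ha : a⁻¹ ∈ A))
      show σ (b * a⁻¹ * b⁻¹) ∈ H0 F
      simpa using this
    · show ⁅a, b⁆ ∈ B
      rw [commutatorElement_def]
      refine mul_mem ?_ (inv_mem hb)
      have := (mem_normalizer_iff.1 (T0_le_normalizer_K0 (H0_le_T0 ha)) _).1 (show σ b ∈ K0 F from hb)
      show σ (a * b * a⁻¹) ∈ K0 F
      simpa using this
  -- bilinearity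
  have bl : ∀ {a a' b : X}, a ∈ A → a' ∈ A → b ∈ B → ⁅a * a', b⁆ = ⁅a, b⁆ * ⁅a', b⁆ := by
    intro a a' b ha ha' hb
    calc ⁅a * a', b⁆ = a * ⁅a', b⁆ * a⁻¹ * ⁅a, b⁆ := by simp only [commutatorElement_def]; group
      _ = ⁅a', b⁆ * ⁅a, b⁆ := by rw [← cA _ (hcD ha' hb) a ha, mul_inv_cancel_right]
      _ = ⁅a, b⁆ * ⁅a', b⁆ := cA _ (hcD ha' hb) _ (hcD ha hb).1
  have br : ∀ {a b b' : X}, a ∈ A → b ∈ B → b' ∈ B → ⁅a, b * b'⁆ = ⁅a, b⁆ * ⁅a, b'⁆ := by
    intro a b b' ha hb hb'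
    calc ⁅a, b * b'⁆ = ⁅a, b⁆ * (b * ⁅a, b'⁆ * b⁻¹) := by simp only [commutatorElement_def]; group
      _ = ⁅a, b⁆ * ⁅a, b'⁆ := by rw [← cB _ (hcD ha hb') b hb, mul_inv_cancel_right]
  obtain ⟨x1, hx1⟩ := hσ (u 1 0 0)
  obtain ⟨x2, hx2⟩ := hσ (u w 0 0)
  obtain ⟨y1, hy1⟩ := hσ (u 0 1 0)
  obtain ⟨y2, hy2⟩ := hσ (u 0 w 0)
  have mx1 : x1 ∈ A := mem_H0.2 ⟨1, 0, hx1.symm⟩
  have mx2 : x2 ∈ A := mem_H0.2 ⟨w, 0, hx2.symm⟩
  have my1 : y1 ∈ B := mem_K0.2 ⟨1, 0, hy1.symm⟩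
  have my2 : y2 ∈ B := mem_K0.2 ⟨w, 0, hy2.symm⟩
  set R := ((zpowers ⁅x1, y1⁆ ⊔ zpowers ⁅x1, y2⁆) ⊔ zpowers ⁅x2, y1⁆) ⊔ zpowers ⁅x2, y2⁆ with hR
  have hRD : R ≤ D := sup_le (sup_le (sup_le (zpowers_le.2 (hcD mx1 my1)) (zpowers_le.2 (hcD mx1 my2)))
    (zpowers_le.2 (hcD mx2 my1))) (zpowers_le.2 (hcD mx2 my2))
  have r11 : ⁅x1, y1⁆ ∈ R := mem_sup_left (mem_sup_left (mem_sup_left (mem_zpowers _)))
  have r12 : ⁅x1, y2⁆ ∈ R := mem_sup_left (mem_sup_left (mem_sup_right (mem_zpowers _)))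
  have r21 : ⁅x2, y1⁆ ∈ R := mem_sup_left (mem_sup_right (mem_zpowers _))
  have r22 : ⁅x2, y2⁆ ∈ R := mem_sup_right (mem_zpowers _)
  -- |R| ≤ 16
  have step : ∀ (S : Subgroup X) (r : X), S ≤ D → r ∈ D →
      Nat.card ↥(S ⊔ zpowers r) ≤ Nat.card S * 2 := by
    intro S r hS hr
    have hcm : ∀ (m : S) (n : zpowers r), Commute (S.subtype m) ((zpowers r).subtype n) := fun m n =>
      cA _ (hS m.2) _ (zpowers_le.2 hr n.2).1
    have e := MonoidHom.noncommCoprod_range S.subtype (zpowers r).subtype hcm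
    rw [range_subtype, range_subtype] at e
    rw [← e]
    refine (Nat.card_le_card_of_surjective _ (MonoidHom.rangeRestrict_surjective _)).trans ?_
    rw [Nat.card_prod, Nat.card_zpowers]
    exact Nat.mul_le_mul_left _ (orderOf_le_of_pow_eq_one two_pos (by rw [pow_two]; exact sA r hr.1))
  have hRcard : Nat.card R ≤ 16 := by
    have d11 := hcD mx1 my1
    have d12 := hcD mx1 my2
    have d21 := hcD mx2 my1
    have s0 : Nat.card ↥(zpowers ⁅x1, y1⁆) ≤ 2 := by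
      rw [Nat.card_zpowers]
      exact orderOf_le_of_pow_eq_one two_pos (by rw [pow_two]; exact sA _ d11.1)
    have s1 := step (zpowers ⁅x1, y1⁆) _ (zpowers_le.2 d11) d12
    have s2 := step (zpowers ⁅x1, y1⁆ ⊔ zpowers ⁅x1, y2⁆) _
      (sup_le (zpowers_le.2 d11) (zpowers_le.2 d12)) d21
    have s3 := step ((zpowers ⁅x1, y1⁆ ⊔ zpowers ⁅x1, y2⁆) ⊔ zpowers ⁅x2, y1⁆) _
      (sup_le (sup_le (zpowers_le.2 d11) (zpowers_le.2 d12)) (zpowers_le.2 d21)) (hcD mx2 my2)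
    rw [hR]
    omega
  -- R contains all commutators [A, B]
  have decA : ∀ {a : X}, a ∈ A → ∃ d ∈ D, a = d ∨ a = d * x1 ∨ a = d * x2 ∨ a = d * (x1 * x2) := by
    intro a ha
    obtain ⟨α, γ, e⟩ := mem_H0.1 ha
    have hd : ∀ (m : X) (μ : F), σ m = u μ 0 0 → α = μ → a * m⁻¹ ∈ D := by
      intro m μ hm hμ
      subst hμ
      have : σ (a * m⁻¹) = u 0 0 γ := by
        rw [map_mul, map_inv, ← e, hm, u_inv, u_mul]
        congr 1 <;> ring
      exact mem_inf_iff.2 ⟨γ, this.symm⟩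
    rcases hall α with h | h | h | h
    · exact ⟨a, by simpa using hd 1 0 (by rw [map_one, u_zero]) h, .inl rfl⟩
    · exact ⟨_, hd x1 1 hx1 h, .inr (.inl (inv_mul_cancel_right a x1).symm)⟩
    · exact ⟨_, hd x2 w hx2 h, .inr (.inr (.inl (inv_mul_cancel_right a x2).symm))⟩
    · exact ⟨_, hd (x1 * x2) (1 + w) (by rw [map_mul, hx1, hx2, u_mul]; simp) h,
        .inr (.inr (.inr (inv_mul_cancel_right a (x1 * x2)).symm))⟩
  have decB : ∀ {a : X}, a ∈ B → ∃ d ∈ D, a = d ∨ a = d * y1 ∨ a = d * y2 ∨ a = d * (y1 * y2) := by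
    intro a ha
    obtain ⟨α, γ, e⟩ := mem_K0.1 ha
    have hd : ∀ (m : X) (μ : F), σ m = u 0 μ 0 → α = μ → a * m⁻¹ ∈ D := by
      intro m μ hm hμ
      subst hμ
      have : σ (a * m⁻¹) = u 0 0 γ := by
        rw [map_mul, map_inv, ← e, hm, u_inv, u_mul]
        congr 1 <;> ring
      exact mem_inf_iff.2 ⟨γ, this.symm⟩
    rcases hall α with h | h | h | h
    · exact ⟨a, by simpa using hd 1 0 (by rw [map_one, u_zero]) h, .inl rfl⟩
    · exact ⟨_, hd y1 1 hy1 h, .inr (.inl (inv_mul_cancel_right a y1).symm)⟩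
    · exact ⟨_, hd y2 w hy2 h, .inr (.inr (.inl (inv_mul_cancel_right a y2).symm))⟩
    · exact ⟨_, hd (y1 * y2) (1 + w) (by rw [map_mul, hy1, hy2, u_mul]; simp) h,
        .inr (.inr (.inr (inv_mul_cancel_right a (y1 * y2)).symm))⟩
  have dl : ∀ {d b : X}, d ∈ D → b ∈ B → ⁅d, b⁆ = 1 := fun hd hb =>
    commutatorElement_eq_one_iff_mul_comm.2 (cB _ hd _ hb)
  have dr : ∀ {d a : X}, d ∈ D → a ∈ A → ⁅a, d⁆ = 1 := fun hd ha =>
    commutatorElement_eq_one_iff_mul_comm.2 (cA _ hd _ ha).symm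
  have hy : ∀ {a : X}, a ∈ A → ⁅a, y1⁆ ∈ R ∧ ⁅a, y2⁆ ∈ R := by
    intro a ha
    obtain ⟨d, hd, rfl | rfl | rfl | rfl⟩ := decA ha
    · rw [dl hd my1, dl hd my2]; exact ⟨one_mem _, one_mem _⟩
    · rw [bl hd.1 mx1 my1, bl hd.1 mx1 my2, dl hd my1, dl hd my2, one_mul, one_mul]
      exact ⟨r11, r12⟩
    · rw [bl hd.1 mx2 my1, bl hd.1 mx2 my2, dl hd my1, dl hd my2, one_mul, one_mul]
      exact ⟨r21, r22⟩
    · rw [bl hd.1 (mul_mem mx1 mx2) my1, bl hd.1 (mul_mem mx1 mx2) my2, dl hd my1, dl hd my2,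
        one_mul, one_mul, bl mx1 mx2 my1, bl mx1 mx2 my2]
      exact ⟨mul_mem r11 r21, mul_mem r12 r22⟩
  have hAB : ∀ {a b : X}, a ∈ A → b ∈ B → ⁅a, b⁆ ∈ R := by
    intro a b ha hb
    obtain ⟨d, hd, rfl | rfl | rfl | rfl⟩ := decB hb
    · rw [dr hd ha]; exact one_mem _
    · rw [br ha hd.2 my1, dr hd ha, one_mul]; exact (hy ha).1
    · rw [br ha hd.2 my2, dr hd ha, one_mul]; exact (hy ha).2
    · rw [br ha hd.2 (mul_mem my1 my2), dr hd ha, one_mul, br ha my1 my2]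
      exact mul_mem (hy ha).1 (hy ha).2
  -- T modulo R is elementary abelian
  have dec : ∀ {t : X}, t ∈ T → ∃ a ∈ A, ∃ b ∈ B, t = a * b := by
    intro t ht
    obtain ⟨α, β, γ, e⟩ := (ht : σ t ∈ T0 F)
    obtain ⟨a, ha⟩ := hσ (u α 0 (γ - α * β))
    refine ⟨a, mem_H0.2 ⟨_, _, ha.symm⟩, a⁻¹ * t, mem_K0.2 ⟨β, 0, ?_⟩, (mul_inv_cancel_left a t).symm⟩
    rw [map_mul, map_inv, ha, ← e, u_inv, u_mul]
    congr 1 <;> ring
  have hsq : ∀ {t : X}, t ∈ T → t * t ∈ R := by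
    intro t ht
    obtain ⟨a, ha, b, hb, rfl⟩ := dec ht
    have : a * b * (a * b) = ⁅a, b⁆ := by
      rw [commutatorElement_def, inv_eq_of_mul_eq_one_right (sA a ha),
        inv_eq_of_mul_eq_one_right (sB b hb)]
      group
    rw [this]; exact hAB ha hb
  have hRT : ∀ r ∈ R, ∀ t ∈ T, r * t = t * r := by
    intro r hr t ht
    obtain ⟨a, ha, b, hb, rfl⟩ := dec ht
    rw [← mul_assoc, cA _ (hRD hr) a ha, mul_assoc, cB _ (hRD hr) b hb, ← mul_assoc]
  have hcomm : ∀ {s t : X}, s ∈ T → t ∈ T → ⁅s, t⁆ ∈ R := by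
    intro s t hs ht
    have : ⁅s, t⁆ = s * t * (s * t) * (t⁻¹ * (s * s)⁻¹ * t) * (t * t)⁻¹ := by
      simp only [commutatorElement_def]; group
    rw [this, mul_assoc t⁻¹, hRT _ (inv_mem (hsq hs)) t ht, inv_mul_cancel_left]
    exact mul_mem (mul_mem (hsq (mul_mem hs ht)) (inv_mem (hsq hs))) (inv_mem (hsq ht))
  have hRleT : R ≤ T := fun r hr => H0_le_T0 (hRD hr).1
  have hZT : Z ≤ T := fun z hz => by
    show σ z ∈ T0 F
    rw [MonoidHom.mem_ker.1 hz]; exact one_mem _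
  obtain ⟨M, hM, hmax⟩ := Set.Finite.exists_maximal (α := Subgroup X)
    (Set.toFinite {M | R ≤ M ∧ M ≤ T ∧ M ⊓ Z ≤ R}) ⟨R, le_rfl, hRleT, inf_le_left⟩
  obtain ⟨hRM, hMT, hMZ⟩ := hM
  have hsup : Z ⊔ M = T := by
    refine le_antisymm (sup_le hZT hMT) fun t ht => ?_
    by_contra ht'
    have hn : zpowers t ≤ normalizer (M : Set X) := by
      have key : ∀ s ∈ T, ∀ m ∈ M, s * m * s⁻¹ ∈ M := fun s hs m hm => by
        rw [show s * m * s⁻¹ = ⁅s, m⁆ * m by simp only [commutatorElement_def]; group]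
        exact mul_mem (hRM (hcomm hs (hMT hm))) hm
      refine zpowers_le.2 (mem_normalizer_iff.2 fun m => ⟨key t ht m, fun hm => ?_⟩)
      have := key t⁻¹ (inv_mem ht) _ hm
      rwa [inv_inv, show t⁻¹ * (t * m * t⁻¹) * t = m by group] at this
    have hnew : R ≤ M ⊔ zpowers t ∧ M ⊔ zpowers t ≤ T ∧ (M ⊔ zpowers t) ⊓ Z ≤ R := by
      refine ⟨hRM.trans le_sup_left, sup_le hMT (zpowers_le.2 ht), fun z hz => ?_⟩
      obtain ⟨hz, hzZ⟩ := hz
      have hz' : z ∈ ((M ⊔ zpowers t : Subgroup X) : Set X) := hz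
      rw [Subgroup.coe_mul_of_right_le_normalizer_left M (zpowers t) hn] at hz'
      obtain ⟨m, hm, v, hv, e⟩ := hz'
      obtain ⟨k, rfl⟩ := mem_zpowers_iff.1 hv
      have e' : m * t ^ k = z := e
      rcases Int.even_or_odd k with ⟨j, rfl⟩ | ⟨j, rfl⟩
      · refine hMZ ⟨?_, hzZ⟩
        rw [← e', zpow_add, ← (Commute.refl t).mul_zpow]
        exact mul_mem hm (zpow_mem (hRM (hsq ht)) j)
      · exfalso
        refine ht' ?_
        have hm' : (t * t) ^ j ∈ M := zpow_mem (hRM (hsq ht)) j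
        have e2 : t ^ (2 * j + 1) = (t * t) ^ j * t := by
          rw [(Commute.refl t).mul_zpow, ← zpow_add, ← two_mul, zpow_add, zpow_one]
        have : t = (m * (t * t) ^ j)⁻¹ * z := by rw [← e', e2]; group
        rw [this]
        exact mul_mem (mem_sup_right (inv_mem (mul_mem hm hm'))) (mem_sup_left hzZ)
    exact ht' (mem_sup_right ((hmax hnew le_sup_left) (mem_sup_right (mem_zpowers t))))
  -- Z ≤ R
  set N := Z ⊓ R with hN
  haveI hNn : N.Normal := ⟨fun n hn g => by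
    rwa [mem_center_iff.1 (hc hn.1) g, mul_inv_cancel_right]⟩
  set q := QuotientGroup.mk' N with hq
  have hqs : Function.Surjective q := QuotientGroup.mk'_surjective N
  have hidx : ¬ 2 ∣ (T.map q).index := by
    rw [index_map_eq T hqs (by rw [QuotientGroup.ker_mk']; exact inf_le_left.trans hZT),
      hT, index_comap_of_surjective _ hσ]
    exact not_dvd_index_T0 hF
  have hZq : Z.map q = ⊥ := by
    refine CfsgLib.Recognition.CoverKernel.eq_bot_of_complement (p := 2) ?_ ?_ ?_ (U := T.map q)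
      (B := M.map q) hidx (map_mono hZT) (map_mono hMT) ?_ (by rw [← Subgroup.map_sup, hsup])
    · rintro _ ⟨z, hz, rfl⟩
      refine mem_center_iff.2 fun g => ?_
      obtain ⟨g, rfl⟩ := hqs g
      rw [← map_mul, ← map_mul, mem_center_iff.1 (hc hz) g]
    · rw [_root_.commutator_def, ← Subgroup.map_top_of_surjective q hqs, ← map_commutator,
        ← _root_.commutator_def, hperf]
      exact map_mono le_top
    · rintro ⟨_, z, hz, rfl⟩
      refine ⟨1, Subtype.ext ?_⟩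
      show (q z) ^ (2 ^ 1) = 1
      rw [pow_one, pow_two, ← map_mul, h2 z hz, map_one]
    · refine (Subgroup.eq_bot_iff_forall _).2 fun y hy => ?_
      obtain ⟨⟨m, hm, rfl⟩, z, hz, e⟩ := hy
      rw [hq, QuotientGroup.mk'_apply, QuotientGroup.eq_one_iff]
      have h1 : z⁻¹ * m ∈ N := by
        rw [← QuotientGroup.eq]; exact e
      have h3 : m ∈ Z := by simpa using mul_mem hz h1.1
      exact ⟨h3, hMZ ⟨hm, h3⟩⟩
  have hZR : Z ≤ R := fun z hz => by
    have : q z ∈ (⊥ : Subgroup (X ⧸ N)) := hZq ▸ mem_map_of_mem q hz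
    exact ((QuotientGroup.eq_one_iff _).1 (Subgroup.mem_bot.1 this) : z ∈ N).2
  -- count
  let f := σ.comp R.subtype
  have e1 : Nat.card f.ker = Nat.card Z := by
    refine Nat.card_congr (Equiv.ofBijective (fun x => ⟨x.1.1, x.2⟩) ⟨fun x y h => ?_, fun z => ?_⟩)
    · exact Subtype.ext (Subtype.ext (congrArg Subtype.val h :))
    · exact ⟨⟨⟨z.1, hZR z.2⟩, z.2⟩, rfl⟩
  have hom : ∀ {a b : X} {α β : F}, σ a = u α 0 0 → σ b = u 0 β 0 → σ ⁅a, b⁆ = u 0 0 (α * β) := by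
    intro a b α β ha hb
    rw [map_commutatorElement, ha, hb, u_comm]
  have hC : ∀ c : F, ∃ r ∈ R, σ r = u 0 0 c := by
    intro c
    rcases hall c with h | h | h | h
    · exact ⟨1, one_mem _, by rw [map_one, h, u_zero]⟩
    · exact ⟨_, r11, by rw [hom hx1 hy1, h, one_mul]⟩
    · exact ⟨_, r12, by rw [hom hx1 hy2, h, one_mul]⟩
    · refine ⟨_, mul_mem r11 r12, ?_⟩
      rw [map_mul, hom hx1 hy1, hom hx1 hy2, u_mul, h, one_mul, one_mul]
      simp
  have e2 : 4 ≤ Nat.card f.range := by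
    choose r hr hr' using hC
    have hinj : Function.Injective (fun c : F => (⟨u 0 0 c, ⟨r c, hr c⟩, hr' c⟩ : f.range)) :=
      fun c c' h => (u_inj (congrArg Subtype.val h)).2.2
    calc 4 = Nat.card F := by rw [Nat.card_eq_fintype_card, hF]
      _ ≤ _ := Nat.card_le_card_of_injective _ hinj
  have h3 := f.ker.card_mul_index
  rw [Subgroup.index_ker, e1] at h3
  have h4 : Nat.card Z * 4 ≤ 16 :=
    ((Nat.mul_le_mul_left _ e2).trans h3.le).trans hRcard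
  omega

end CfsgLib.Schur.L34
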