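/-
The kernels of stem extensions of `PSL₃(4)` are quotients of `3 × 4 × 4`.
-/
import Cfsg.Agent.Lib.Schur.L34Cover
import Cfsg.Agent.Lib.Tails.Combine
import Cfsg.Agent.Lib.Classical.SLBasic

set_option autoImplicit false
set_option maxHeartbeats 1000000

namespace CfsgLib.Schur.L34

open Subgroup
open scoped commutatorElement Pointwise

/-- The commutator group of a join lies in a normal subgroup containing the commutators of generators. -/
theorem commutator_sup_le {X : Type*} [Group X] {A B N : Subgroup X}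
    (hn : A ⊔ B ≤ normalizer (N : Set X)) (hAA : ∀ a ∈ A, ∀ b ∈ A, ⁅a, b⁆ ∈ N)
    (hAB : ∀ a ∈ A, ∀ b ∈ B, ⁅a, b⁆ ∈ N) (hBB : ∀ a ∈ B, ∀ b ∈ B, ⁅a, b⁆ ∈ N) :
    ⁅A ⊔ B, A ⊔ B⁆ ≤ N := by
  set M := normalizer (N : Set X) with hM
  haveI : (N.subgroupOf M).Normal := Subgroup.normal_in_normalizer
  let q := QuotientGroup.mk' (N.subgroupOf M)
  set A' := (A.subgroupOf M).map q
  set B' := (B.subgroupOf M).map q
  have hcomm : ∀ {S S' : Subgroup X}, S ≤ M → S' ≤ M → (∀ a ∈ S, ∀ b ∈ S', ⁅a, b⁆ ∈ N) →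
      (S.subgroupOf M).map q ≤ centralizer ((S'.subgroupOf M).map q : Set (↥M ⧸ N.subgroupOf M)) := by
    rintro S S' - - h _ ⟨a, ha, rfl⟩
    refine mem_centralizer_iff.2 ?_
    rintro _ ⟨b, hb, rfl⟩
    refine (commutatorElement_eq_one_iff_mul_comm.1 ?_).symm
    rw [← map_commutatorElement, QuotientGroup.mk'_apply, QuotientGroup.eq_one_iff]
    exact h _ ha _ hb
  have hA := le_sup_left.trans hn
  have hB := le_sup_right.trans hn
  have h1 : A' ⊔ B' ≤ centralizer ((A' ⊔ B' : Subgroup _) : Set (↥M ⧸ N.subgroupOf M)) := by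
    have c1 : A' ⊔ B' ≤ centralizer (A' : Set (↥M ⧸ N.subgroupOf M)) :=
      sup_le (hcomm hA hA hAA) (le_centralizer_iff.1 (hcomm hA hB hAB))
    have c2 : A' ⊔ B' ≤ centralizer (B' : Set (↥M ⧸ N.subgroupOf M)) :=
      sup_le (hcomm hA hB hAB) (hcomm hB hB hBB)
    exact le_centralizer_iff.1 (sup_le (le_centralizer_iff.1 c1) (le_centralizer_iff.1 c2))
  refine commutator_le.2 fun s hs t ht => ?_
  have key : ∀ x (hx : x ∈ A ⊔ B), q ⟨x, hn hx⟩ ∈ A' ⊔ B' := fun x hx => by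
    rw [← Subgroup.map_sup, ← subgroupOf_sup hA hB]
    exact mem_map_of_mem q hx
  have h2 := commutatorElement_eq_one_iff_mul_comm.2
    (mem_centralizer_iff.1 (h1 (key t ht)) _ (key s hs))
  rw [← map_commutatorElement, QuotientGroup.mk'_apply, QuotientGroup.eq_one_iff] at h2
  exact h2

/-- An elementary abelian group of order at most four has two generators. -/
theorem two_gen {Q : Type*} [Group Q] [Finite Q] (h2 : ∀ x : Q, x * x = 1) (h4 : Nat.card Q ≤ 4) :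
    ∃ a b : Q, ∀ x : Q, x = 1 ∨ x = a ∨ x = b ∨ x = a * b := by
  by_cases hone : ∃ a : Q, ∀ x : Q, x = 1 ∨ x = a
  · obtain ⟨a, ha⟩ := hone
    exact ⟨a, 1, fun x => (ha x).imp id .inl⟩
  push Not at hone
  obtain ⟨a, ha1, -⟩ := hone 1
  obtain ⟨b, hb1, hba⟩ := hone a
  refine ⟨a, b, fun x => ?_⟩
  classical
  have : Fintype Q := Fintype.ofFinite Q
  have hab1 : a * b ≠ 1 := fun h => hba (by rw [← inv_eq_of_mul_eq_one_right h,
    inv_eq_of_mul_eq_one_right (h2 a)])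
  have hcard : ({1, a, b, a * b} : Finset Q).card = 4 := by
    rw [Finset.card_insert_of_notMem, Finset.card_insert_of_notMem, Finset.card_pair] <;>
      simp [Ne.symm ha1, Ne.symm hb1, Ne.symm hab1, Ne.symm hba, ha1, hb1]
  have hu : ({1, a, b, a * b} : Finset Q) = Finset.univ :=
    Finset.eq_univ_of_card _ (le_antisymm (Finset.card_le_univ _)
      (by rw [hcard, ← Nat.card_eq_fintype_card]; exact h4))
  simpa using hu.ge (Finset.mem_univ x)

variable {F : Type*} [Field F] [Fintype F] (hF : Fintype.card F = 4) {X : Type*} [Group X] [Finite X]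
  {σ : X →* Matrix.ProjectiveSpecialLinearGroup (Fin 3) F} (hσ : Cfsg.IsStemExtension σ)
include hF

theorem card_PSL34 : Nat.card (Matrix.ProjectiveSpecialLinearGroup (Fin 3) F) = 20160 := by
  have h := (T0 F).card_mul_index
  rw [card_T0 hF, index_T0 hF] at h
  exact h.symm

theorem perfect_PSL34 : commutator (Matrix.ProjectiveSpecialLinearGroup (Fin 3) F) = ⊤ := by
  have hs := CfsgLib.Classical.isSimpleGroup_PSL (ι := Fin 3) (F := F) (by simp)
  refine ((hs.eq_bot_or_eq_top_of_normal _ inferInstance).resolve_left fun h => ?_)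
  have h1 : ⁅u (1 : F) 0 0, u 0 1 0⁆ ∈ commutator (Matrix.ProjectiveSpecialLinearGroup (Fin 3) F) :=
    commutator_mem_commutator (mem_top _) (mem_top _)
  rw [h, mem_bot, u_comm, mul_one, ← u_zero] at h1
  exact one_ne_zero (u_inj h1).2.2

include hσ

theorem perfect_stem : commutator X = ⊤ :=
  CfsgLib.Schur.Tails.stem_perfect (perfect_PSL34 hF) hσ

/-- The kernel modulo its squares. -/
theorem exists_two_gen : ∃ a b : X, a ∈ σ.ker ∧ b ∈ σ.ker ∧
    ∀ x ∈ σ.ker, ∃ i j : ℕ, ∃ y ∈ σ.ker, x = a ^ i * b ^ j * y ^ 2 := by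
  haveI := CfsgLib.Schur.Tails.kerPow_normal hσ.2.1 2
  set N := CfsgLib.Schur.Tails.kerPow hσ.2.1 2
  have hle := CfsgLib.Schur.Tails.kerPow_le hσ.2.1 2
  set τ := QuotientGroup.lift N σ hle
  have hτ : Cfsg.IsStemExtension τ := CfsgLib.Schur.Tails.isStem_quotient hσ N hle
  have hsq : ∀ z ∈ τ.ker, z * z = 1 := by
    intro z hz
    obtain ⟨x, rfl⟩ := QuotientGroup.mk'_surjective N z
    rw [← map_mul, QuotientGroup.mk'_apply, QuotientGroup.eq_one_iff]
    exact ⟨x, hz, pow_two x⟩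
  have h4 := card_ker_le_four hF hτ.1 hτ.2.1 hsq (perfect_stem hF hτ)
  obtain ⟨⟨a, ha⟩, ⟨b, hb⟩, hab⟩ := two_gen (Q := τ.ker) (fun x => Subtype.ext (hsq x x.2)) h4
  obtain ⟨a, rfl⟩ := QuotientGroup.mk'_surjective N a
  obtain ⟨b, rfl⟩ := QuotientGroup.mk'_surjective N b
  refine ⟨a, b, ha, hb, fun x hx => ?_⟩
  have key : ∀ i j : ℕ, QuotientGroup.mk' N x = QuotientGroup.mk' N (a ^ i * b ^ j) →
      ∃ i j : ℕ, ∃ y ∈ σ.ker, x = a ^ i * b ^ j * y ^ 2 := by
    intro i j h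
    obtain ⟨y, hy, e⟩ : (a ^ i * b ^ j)⁻¹ * x ∈ N := QuotientGroup.eq.1 h.symm
    exact ⟨i, j, y, hy, by rw [e, mul_inv_cancel_left]⟩
  rcases hab ⟨QuotientGroup.mk' N x, hx⟩ with h | h | h | h
  · exact key 0 0 (by rw [pow_zero, pow_zero, mul_one, map_one]; exact congrArg Subtype.val h)
  · exact key 1 0 (by rw [pow_one, pow_zero, mul_one]; exact congrArg Subtype.val h)
  · exact key 0 1 (by rw [pow_zero, pow_one, one_mul]; exact congrArg Subtype.val h)
  · exact key 1 1 (by rw [pow_one, pow_one, map_mul]; exact congrArg Subtype.val h)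

omit hσ in
/-- A two-group kernel has exponent at most four. -/
theorem pow_four_ker {Y : Type*} [Group Y] [Finite Y]
    {τ : Y →* Matrix.ProjectiveSpecialLinearGroup (Fin 3) F} (hτ : Cfsg.IsStemExtension τ)
    (h2 : IsPGroup 2 τ.ker) : ∀ z ∈ τ.ker, z ^ 4 = 1 := by
  have : Fact (Nat.Prime 2) := ⟨Nat.prime_two⟩
  have hcz : ∀ z ∈ τ.ker, ∀ g, g * z = z * g := fun z hz => mem_center_iff.1 (hτ.2.1 hz)
  set A := (H0 F).comap τ with hA
  set B := (K0 F).comap τ with hB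
  set T := (T0 F).comap τ with hT
  set C := (H0 F ⊓ K0 F).comap τ with hC
  have hsup : A ⊔ B = T := by rw [hA, hB, comap_sup_eq τ _ _ hτ.1, sup_eq_T0]
  have hZT : τ.ker ≤ T := fun z hz => by
    show τ z ∈ T0 F
    rw [MonoidHom.mem_ker.1 hz]; exact one_mem _
  have hCcomm : ∀ c ∈ C, ∀ t ∈ T, τ c * τ t = τ t * τ c := by
    intro c hc t ht
    obtain ⟨γ, e⟩ := mem_inf_iff.1 (hc : τ c ∈ H0 F ⊓ K0 F)
    obtain ⟨α, β, δ, e'⟩ := (ht : τ t ∈ T0 F)
    rw [← e, ← e', u_mul, u_mul]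
    congr 1 <;> ring
  have hT0comm : ∀ s ∈ T0 F, ∀ t ∈ T0 F, ⁅s, t⁆ ∈ H0 F ⊓ K0 F := by
    rintro _ ⟨a, b, c, rfl⟩ _ ⟨a', b', c', rfl⟩
    refine mem_inf_iff.2 ⟨a * b' - a' * b, ?_⟩
    rw [commutatorElement_def, u_inv, u_inv, u_mul, u_mul, u_mul]
    congr 1 <;> ring
  -- elements of exponent four in the preimage of the centre
  have hsqC : ∀ c ∈ C, c * c ∈ τ.ker := fun c hc => by
    rw [MonoidHom.mem_ker, map_mul]; exact sq_eq_one_H0 hF (hc : τ c ∈ H0 F ⊓ K0 F).1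
  let N : Subgroup Y :=
    { carrier := {d | d ∈ C ∧ d ^ 4 = 1}
      one_mem' := ⟨one_mem _, one_pow 4⟩
      mul_mem' := fun {d d'} hd hd' => ⟨mul_mem hd.1 hd'.1, by
        have hw : ⁅d', d⁆ ∈ τ.ker := by
          rw [MonoidHom.mem_ker, map_commutatorElement, commutatorElement_eq_one_iff_mul_comm]
          exact sq_comm (fun a => sq_eq_one_H0 hF) _ (hd'.1 : τ d' ∈ H0 F ⊓ K0 F).1 _
            (hd.1 : τ d ∈ H0 F ⊓ K0 F).1
        have hw2 : ⁅d', d⁆ * ⁅d', d⁆ = 1 := by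
          have e : ⁅d' * d', d⁆ = d' * ⁅d', d⁆ * d'⁻¹ * ⁅d', d⁆ := by
            simp only [commutatorElement_def]; group
          rw [commutatorElement_eq_one_iff_mul_comm.2 (hcz _ (hsqC _ hd'.1) d).symm,
            hcz _ hw d', mul_inv_cancel_right] at e
          exact e.symm
        have hdd : (d * d') ^ 2 = ⁅d', d⁆ * (d ^ 2 * d' ^ 2) := by
          calc (d * d') ^ 2 = d * ⁅d', d⁆ * (d * d' * d') := by
                simp only [commutatorElement_def, pow_two]; group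
            _ = ⁅d', d⁆ * d * (d * d' * d') := by rw [hcz _ hw d]
            _ = _ := by simp only [pow_two]; group
        have h22 : Commute (d ^ 2) (d' ^ 2) := by
          rw [pow_two d']; exact hcz _ (hsqC _ hd'.1) _
        have hwc : Commute ⁅d', d⁆ (d ^ 2 * d' ^ 2) := (hcz _ hw _).symm
        rw [show 4 = 2 * 2 from rfl, pow_mul, hdd, hwc.mul_pow, pow_two ⁅d', d⁆, hw2, one_mul,
          h22.mul_pow, ← pow_mul, ← pow_mul]
        show d ^ 4 * d' ^ 4 = 1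
        rw [hd.2, hd'.2, one_mul]⟩
      inv_mem' := fun {d} hd => ⟨inv_mem hd.1, by rw [inv_pow, hd.2, inv_one]⟩ }
  have hnN : T ≤ normalizer (N : Set Y) := by
    have key : ∀ t ∈ T, ∀ d ∈ N, t * d * t⁻¹ ∈ N := fun t ht d hd => ⟨by
      show τ (t * d * t⁻¹) ∈ H0 F ⊓ K0 F
      rw [map_mul, map_mul, map_inv, ← hCcomm d hd.1 t ht, mul_inv_cancel_right]
      exact hd.1, by rw [conj_pow, hd.2, mul_one, mul_inv_cancel]⟩
    intro t ht
    refine mem_normalizer_iff.2 fun d => ⟨key t ht d, fun hd => ?_⟩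
    have := key t⁻¹ (inv_mem ht) _ hd
    rwa [inv_inv, show t⁻¹ * (t * d * t⁻¹) * t = d by group] at this
  have mC : ∀ a ∈ T, ∀ b ∈ T, ⁅a, b⁆ ∈ C := fun a ha b hb => by
    show τ ⁅a, b⁆ ∈ H0 F ⊓ K0 F
    rw [map_commutatorElement]; exact hT0comm _ ha _ hb
  have mA : A ≤ T := hsup ▸ le_sup_left
  have mB : B ≤ T := hsup ▸ le_sup_right
  have hsame : ∀ {S : Subgroup (Matrix.ProjectiveSpecialLinearGroup (Fin 3) F)},
      (∀ s ∈ S, s * s = 1) → S ≤ T0 F → ∀ a ∈ S.comap τ, ∀ b ∈ S.comap τ, ⁅a, b⁆ ∈ N := by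
    intro S hS hST a ha b hb
    refine ⟨mC a (hST ha) b (hST hb), ?_⟩
    have hw : ⁅a, b⁆ ∈ τ.ker := by
      rw [MonoidHom.mem_ker, map_commutatorElement, commutatorElement_eq_one_iff_mul_comm]
      exact sq_comm hS _ ha _ hb
    have e : ⁅a * a, b⁆ = a * ⁅a, b⁆ * a⁻¹ * ⁅a, b⁆ := by
      simp only [commutatorElement_def]; group
    rw [commutatorElement_eq_one_iff_mul_comm.2
      (hcz _ (show a * a ∈ τ.ker by rw [MonoidHom.mem_ker, map_mul]; exact hS _ ha) b).symm,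
      hcz _ hw a, mul_inv_cancel_right] at e
    rw [show 4 = 2 * 2 from rfl, pow_mul, pow_two ⁅a, b⁆, ← e, one_pow]
  have hmixed : ∀ a ∈ A, ∀ b ∈ B, ⁅a, b⁆ ∈ N := by
    intro a ha b hb
    refine ⟨mC a (mA ha) b (mB hb), ?_⟩
    set c := ⁅a, b⁆ with hc
    have haa : a * a ∈ τ.ker := by rw [MonoidHom.mem_ker, map_mul]; exact sq_eq_one_H0 hF ha
    have e1 : a * c * a⁻¹ * c = 1 := by
      rw [← commutatorElement_eq_one_iff_mul_comm.2 (hcz _ haa b).symm, hc]
      simp only [commutatorElement_def]; group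
    have hz : ⁅a, c⁆ ∈ τ.ker := by
      rw [MonoidHom.mem_ker, map_commutatorElement, commutatorElement_eq_one_iff_mul_comm]
      exact (hCcomm c (mC a (mA ha) b (mB hb)) a (mA ha)).symm
    have e2 : ⁅a, c⁆ * ⁅a, c⁆ = 1 := by
      have e : ⁅a * a, c⁆ = a * ⁅a, c⁆ * a⁻¹ * ⁅a, c⁆ := by
        simp only [commutatorElement_def]; group
      rw [commutatorElement_eq_one_iff_mul_comm.2 (hcz _ haa c).symm, hcz _ hz a,
        mul_inv_cancel_right] at e
      exact e.symm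
    have e3 : ⁅a, c⁆ = (c * c)⁻¹ := by
      rw [commutatorElement_def, ← eq_inv_of_mul_eq_one_left e1 |>.symm]
      group
    rw [e3, ← mul_inv_rev, inv_eq_one] at e2
    rw [show 4 = 2 * 2 from rfl, pow_mul, pow_two, pow_two]
    exact e2
  set R := ⁅T, T⁆ with hR
  have hRN : R ≤ N := by
    rw [hR, ← hsup]
    exact commutator_sup_le (hsup.symm ▸ hnN) (hsame (fun a => sq_eq_one_H0 hF) H0_le_T0) hmixed
      (hsame (fun a => sq_eq_one_K0 hF) K0_le_T0)
  have hRT : R ≤ T := commutator_le_self T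
  have hTR : ∀ t ∈ T, ∀ r ∈ R, t * r * t⁻¹ ∈ R := fun t ht r hr => by
    rw [show t * r * t⁻¹ = ⁅t, r⁆ * r by simp only [commutatorElement_def]; group]
    exact mul_mem (commutator_mem_commutator ht (hRT hr)) hr
  -- involutory lifts
  haveI hkn := CfsgLib.Schur.Tails.kerPow_normal hτ.2.1 2
  have lift : ∀ g, g * g = 1 → ∃ e : Y, τ e = g ∧ e * e = 1 := by
    intro g hg
    obtain ⟨x, rfl⟩ := hτ.1 g
    set N2 := CfsgLib.Schur.Tails.kerPow hτ.2.1 2
    have hle := CfsgLib.Schur.Tails.kerPow_le hτ.2.1 2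
    set υ := QuotientGroup.lift N2 τ hle
    have hυ : Cfsg.IsStemExtension υ := CfsgLib.Schur.Tails.isStem_quotient hτ N2 hle
    have hsq : ∀ z ∈ υ.ker, z * z = 1 := by
      intro z hz
      obtain ⟨w, rfl⟩ := QuotientGroup.mk'_surjective N2 z
      rw [← map_mul, QuotientGroup.mk'_apply, QuotientGroup.eq_one_iff]
      exact ⟨w, hz, pow_two w⟩
    have h1 : QuotientGroup.mk' N2 x * QuotientGroup.mk' N2 x = 1 :=
      sq_lift hF hυ.1 hυ.2.1 hsq (x := QuotientGroup.mk' N2 x) hg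
    rw [← map_mul, QuotientGroup.mk'_apply, QuotientGroup.eq_one_iff] at h1
    obtain ⟨y, hy, e⟩ := h1
    refine ⟨x * y⁻¹, by rw [map_mul, map_inv, MonoidHom.mem_ker.1 hy, inv_one, mul_one], ?_⟩
    rw [show x * y⁻¹ * (x * y⁻¹) = x * (y⁻¹ * x) * y⁻¹ by group, ← hcz _ (inv_mem hy) x,
      show x * (x * y⁻¹) * y⁻¹ = x * x * (y ^ 2)⁻¹ by rw [pow_two]; group, e, mul_inv_cancel]
  obtain ⟨w, hw0, hw1, hall⟩ := exists_omega hF
  obtain ⟨e1, he1, se1⟩ := lift (u 1 0 0) (sq_eq_one_H0 hF (mem_H0.2 ⟨1, 0, rfl⟩))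
  obtain ⟨e2, he2, se2⟩ := lift (u w 0 0) (sq_eq_one_H0 hF (mem_H0.2 ⟨w, 0, rfl⟩))
  obtain ⟨e3, he3, se3⟩ := lift (u 0 1 0) (sq_eq_one_K0 hF (mem_K0.2 ⟨1, 0, rfl⟩))
  obtain ⟨e4, he4, se4⟩ := lift (u 0 w 0) (sq_eq_one_K0 hF (mem_K0.2 ⟨w, 0, rfl⟩))
  have me : ∀ {e : Y} {a b c : F}, τ e = u a b c → e ∈ T := fun h => ⟨_, _, _, h.symm⟩
  have step : ∀ (S : Subgroup Y) (r : Y), R ≤ S → S ≤ T → r ∈ T → r * r = 1 →
      Nat.card ↥(S ⊔ zpowers r) ≤ Nat.card S * 2 := by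
    intro S r hRS hST hrT hr
    have key : ∀ t ∈ T, ∀ s ∈ S, t * s * t⁻¹ ∈ S := fun t ht s hs => by
      rw [show t * s * t⁻¹ = ⁅t, s⁆ * s by simp only [commutatorElement_def]; group]
      exact mul_mem (hRS (commutator_mem_commutator ht (hST hs))) hs
    have hn : zpowers r ≤ normalizer (S : Set Y) := by
      refine zpowers_le.2 (mem_normalizer_iff.2 fun s => ⟨key r hrT s, fun hs => ?_⟩)
      have := key r⁻¹ (inv_mem hrT) _ hs
      rwa [inv_inv, show r⁻¹ * (r * s * r⁻¹) * r = s by group] at this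
    have hsurj : ∀ z : ↥(S ⊔ zpowers r), ∃ p : S × zpowers r, (p.1 : Y) * p.2 = z := by
      rintro ⟨z, hz⟩
      have hz' : z ∈ ((S ⊔ zpowers r : Subgroup Y) : Set Y) := hz
      rw [Subgroup.coe_mul_of_right_le_normalizer_left S (zpowers r) hn] at hz'
      obtain ⟨s, hs, v, hv, e⟩ := hz'
      exact ⟨(⟨s, hs⟩, ⟨v, hv⟩), e⟩
    refine (Nat.card_le_card_of_surjective
      (fun p : S × zpowers r => (⟨p.1 * p.2, mul_mem_sup p.1.2 p.2.2⟩ : ↥(S ⊔ zpowers r)))
      fun z => (hsurj z).imp fun p hp => Subtype.ext hp).trans ?_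
    rw [Nat.card_prod, Nat.card_zpowers]
    exact Nat.mul_le_mul_left _ (orderOf_le_of_pow_eq_one two_pos (by rw [pow_two]; exact hr))
  set S1 := R ⊔ zpowers e1 with hS1
  set S2 := S1 ⊔ zpowers e2 with hS2
  set S3 := S2 ⊔ zpowers e3 with hS3
  set S4 := S3 ⊔ zpowers e4 with hS4
  have t1 : S1 ≤ T := sup_le hRT (zpowers_le.2 (me he1))
  have t2 : S2 ≤ T := sup_le t1 (zpowers_le.2 (me he2))
  have t3 : S3 ≤ T := sup_le t2 (zpowers_le.2 (me he3))
  have t4 : S4 ≤ T := sup_le t3 (zpowers_le.2 (me he4))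
  have hR4 : R ≤ S4 := ((le_sup_left.trans le_sup_left).trans le_sup_left).trans le_sup_left
  have hcardS : Nat.card S4 ≤ Nat.card R * 16 := by
    have r1 : Nat.card S1 ≤ _ := step R e1 le_rfl hRT (me he1) se1
    have r2 : Nat.card S2 ≤ _ := step S1 e2 le_sup_left t1 (me he2) se2
    have r3 : Nat.card S3 ≤ _ := step S2 e3 (le_sup_left.trans le_sup_left) t2 (me he3) se3
    have r4 : Nat.card S4 ≤ _ := step S3 e4 ((le_sup_left.trans le_sup_left).trans le_sup_left) t3 (me he4) se4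
    omega
  have m1 : e1 ∈ S4 := mem_sup_left (mem_sup_left (mem_sup_left (mem_sup_right (mem_zpowers _))))
  have m2 : e2 ∈ S4 := mem_sup_left (mem_sup_left (mem_sup_right (mem_zpowers _)))
  have m3 : e3 ∈ S4 := mem_sup_left (mem_sup_right (mem_zpowers _))
  have m4 : e4 ∈ S4 := mem_sup_right (mem_zpowers _)
  have hmap : S4.map τ = T0 F := by
    refine le_antisymm (map_le_iff_le_comap.2 t4) ?_
    set I := S4.map τ
    have i1 : u (1 : F) 0 0 ∈ I := ⟨e1, m1, he1⟩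
    have i2 : u w 0 0 ∈ I := ⟨e2, m2, he2⟩
    have i3 : u (0 : F) 1 0 ∈ I := ⟨e3, m3, he3⟩
    have i4 : u 0 w 0 ∈ I := ⟨e4, m4, he4⟩
    have ha : ∀ a : F, u a 0 0 ∈ I := by
      intro a
      rcases hall a with rfl | rfl | rfl | rfl
      · rw [u_zero]; exact one_mem _
      · exact i1
      · exact i2
      · have := mul_mem i1 i2
        rw [u_mul] at this
        simpa using this
    have hb : ∀ b : F, u 0 b 0 ∈ I := by
      intro b
      rcases hall b with rfl | rfl | rfl | rfl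
      · rw [u_zero]; exact one_mem _
      · exact i3
      · exact i4
      · have := mul_mem i3 i4
        rw [u_mul] at this
        simpa using this
    have hc : ∀ c : F, u 0 0 c ∈ I := fun c => by
      have h1 : ⁅u c 0 0, u 0 1 0⁆ ∈ I := by
        rw [commutatorElement_def]
        exact mul_mem (mul_mem (mul_mem (ha c) (hb 1)) (inv_mem (ha c))) (inv_mem (hb 1))
      rwa [u_comm, mul_one] at h1
    rintro _ ⟨a, b, c, rfl⟩
    have h1 : u a b c = u a 0 0 * u 0 b 0 * u 0 0 (c - a * b) := by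
      rw [u_mul, u_mul]
      congr 1 <;> ring
    rw [h1]
    exact mul_mem (mul_mem (ha a) (hb b)) (hc _)
  have hRmap : R.map τ ≤ H0 F ⊓ K0 F := map_le_iff_le_comap.2 fun r hr => (hRN hr).1
  have hC0 : Nat.card ↥(H0 F ⊓ K0 F) ≤ 4 := by
    let f : F → ↥(H0 F ⊓ K0 F) := fun c => ⟨u 0 0 c, mem_inf_iff.2 ⟨c, rfl⟩⟩
    refine (Nat.card_le_card_of_surjective f fun x => ?_).trans (by rw [Nat.card_eq_fintype_card, hF])
    obtain ⟨c, hc⟩ := mem_inf_iff.1 x.2
    exact ⟨c, Subtype.ext hc⟩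
  have hcount : ∀ S : Subgroup Y, Nat.card ↥(S ⊓ τ.ker) * Nat.card (S.map τ) = Nat.card S := by
    intro S
    have h := (τ.comp S.subtype).ker.card_mul_index
    rw [index_ker, MonoidHom.range_comp, range_subtype] at h
    rw [← h]
    congr 1
    refine Nat.card_congr (Equiv.ofBijective (fun x => ⟨⟨x.1, x.2.1⟩, x.2.2⟩) ⟨fun x y e => ?_, fun z => ?_⟩)
    · exact Subtype.ext (congrArg (fun q : (τ.comp S.subtype).ker => (q.1 : Y)) e)
    · exact ⟨⟨z.1.1, z.1.2, z.2⟩, rfl⟩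
  have hinf : S4 ⊓ τ.ker = R ⊓ τ.ker := by
    refine (Subgroup.eq_of_le_of_card_ge (inf_le_inf_right _ hR4) ?_).symm
    have a := hcount S4
    have b := hcount R
    rw [hmap, card_T0 hF] at a
    have hb : Nat.card (R.map τ) ≤ 4 := (Subgroup.card_le_of_le hRmap).trans hC0
    have := Nat.mul_le_mul_left (Nat.card ↥(R ⊓ τ.ker)) hb
    omega
  have hsupT : τ.ker ⊔ S4 = T := by
    refine le_antisymm (sup_le hZT t4) fun t ht => ?_
    obtain ⟨s, hs, e⟩ := hmap.ge (ht : τ t ∈ T0 F)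
    rw [show t = t * s⁻¹ * s by group]
    exact mul_mem_sup (by rw [MonoidHom.mem_ker, map_mul, map_inv, e, mul_inv_cancel]) hs
  -- the kernel lies in `R`
  set D := τ.ker ⊓ R with hD
  haveI hDn : D.Normal := ⟨fun n hn g => by
    rwa [hcz _ hn.1 g, mul_inv_cancel_right]⟩
  set q := QuotientGroup.mk' D with hq
  have hqs : Function.Surjective q := QuotientGroup.mk'_surjective D
  have hidx : ¬ 2 ∣ (T.map q).index := by
    rw [index_map_eq T hqs (by rw [QuotientGroup.ker_mk']; exact inf_le_left.trans hZT),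
      hT, index_comap_of_surjective _ hτ.1]
    exact not_dvd_index_T0 hF
  have hperf := perfect_stem hF hτ
  have hZq : τ.ker.map q = ⊥ := by
    refine CfsgLib.Recognition.CoverKernel.eq_bot_of_complement (p := 2) ?_ ?_ (h2.map q) (U := T.map q)
      (B := S4.map q) hidx (map_mono hZT) (map_mono t4) ?_ (by rw [← Subgroup.map_sup, hsupT])
    · rintro _ ⟨z, hz, rfl⟩
      refine mem_center_iff.2 fun g => ?_
      obtain ⟨g, rfl⟩ := hqs g
      rw [← map_mul, ← map_mul, hcz z hz g]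
    · rw [_root_.commutator_def, ← Subgroup.map_top_of_surjective q hqs, ← map_commutator,
        ← _root_.commutator_def, hperf]
      exact map_mono le_top
    · refine (Subgroup.eq_bot_iff_forall _).2 fun y hy => ?_
      obtain ⟨⟨m, hm, rfl⟩, z, hz, e⟩ := hy
      rw [hq, QuotientGroup.mk'_apply, QuotientGroup.eq_one_iff]
      have h1 : z⁻¹ * m ∈ D := by
        rw [← QuotientGroup.eq]; exact e
      have h3 : m ∈ τ.ker := by simpa using mul_mem hz h1.1
      exact ⟨h3, (hinf.le ⟨hm, h3⟩).1⟩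
  intro z hz
  have : q z ∈ (⊥ : Subgroup (Y ⧸ D)) := hZq ▸ mem_map_of_mem q hz
  exact (hRN ((QuotientGroup.eq_one_iff _).1 (Subgroup.mem_bot.1 this) : z ∈ D).2).2

/-- The primes above three do not divide the kernel. -/
theorem not_dvd_large {p : ℕ} (hp : p.Prime) (h5 : 5 ≤ p) : ¬ p ∣ Nat.card σ.ker := by
  haveI := Fact.mk hp
  refine CfsgLib.Schur.Tails.not_dvd_of_sq hσ fun h => ?_
  rw [card_PSL34 hF] at h
  have h1 : p ∣ 2 ^ 6 * (3 ^ 2 * 35) := (dvd_pow_self p two_ne_zero).trans h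
  have hcop : ∀ q n : ℕ, q.Prime → q < 5 → p.Coprime (q ^ n) := fun q n hq hq5 =>
    ((Nat.coprime_primes hp hq).2 (by omega)).pow_right n
  have h35 : p ∣ 35 := (hcop 3 2 Nat.prime_three (by norm_num)).dvd_of_dvd_mul_left
    ((hcop 2 6 Nat.prime_two (by norm_num)).dvd_of_dvd_mul_left h1)
  have hle : p ≤ 35 := Nat.le_of_dvd (by norm_num) h35
  interval_cases p <;>
    first | (norm_num at hp; done) | (norm_num at h35; done) | (norm_num at h; done)

/-- The three-part of the kernel is cyclic of order at most three. -/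
theorem exists_three_gen : ∃ c ∈ σ.ker, c ^ 3 = 1 ∧
    ∀ x ∈ σ.ker, ∃ k : ℕ, ¬ 3 ∣ k ∧ x ^ k ∈ zpowers c := by
  haveI : Fact (Nat.Prime 3) := ⟨Nat.prime_three⟩
  have hcz : ∀ z ∈ σ.ker, ∀ g, g * z = z * g := fun z hz => mem_center_iff.1 (hσ.2.1 hz)
  obtain ⟨P⟩ : Nonempty (Sylow 3 X) := inferInstance
  let Q := P.mapSurjective hσ.1
  have hQ : (Q : Subgroup _) = (P : Subgroup X).map σ := rfl
  have hQcard : Nat.card Q = 3 ^ 2 := by
    rw [Q.card_eq_multiplicity, card_PSL34 hF]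
    congr 1
    rw [show (20160 : ℕ) = 3 ^ 2 * 2240 from rfl, Nat.factorization_mul (by norm_num) (by norm_num),
      Nat.Prime.factorization_pow Nat.prime_three, Finsupp.add_apply, Finsupp.single_eq_same,
      Nat.factorization_eq_zero_of_not_dvd (by norm_num)]
  have hQab : ∀ a ∈ (Q : Subgroup (Matrix.ProjectiveSpecialLinearGroup (Fin 3) F)),
      ∀ b ∈ (Q : Subgroup (Matrix.ProjectiveSpecialLinearGroup (Fin 3) F)), a * b = b * a := fun a ha b hb =>
    congrArg Subtype.val ((IsPGroup.isMulCommutative_of_card_eq_prime_sq hQcard).is_comm.comm ⟨a, ha⟩ ⟨b, hb⟩)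
  obtain ⟨g0, hg0⟩ := exists_prime_orderOf_dvd_card' (G := ↥(Q : Subgroup (Matrix.ProjectiveSpecialLinearGroup (Fin 3) F))) 3
    (by rw [hQcard]; exact dvd_pow_self 3 two_ne_zero)
  obtain ⟨x, hxP, hx⟩ := (hQ.le g0.2)
  have ho : orderOf (σ x) = 3 := by rw [hx, Subgroup.orderOf_coe, hg0]
  -- a second generator
  obtain ⟨y, hyP, hgen⟩ : ∃ y ∈ (P : Subgroup X),
      (Q : Subgroup _) ≤ zpowers (σ x) ⊔ zpowers (σ y) := by
    by_contra hcon
    push Not at hcon
    obtain ⟨g, hg, hgn⟩ := SetLike.not_le_iff_exists.1 (hcon x hxP)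
    rw [sup_idem] at hgn
    obtain ⟨y, hy, rfl⟩ := hQ.le hg
    refine hcon y hy (Eq.ge ?_)
    have hle : zpowers (σ x) ⊔ zpowers (σ y) ≤ (Q : Subgroup _) :=
      sup_le (zpowers_le.2 (hx ▸ g0.2)) (zpowers_le.2 hg)
    refine Subgroup.eq_of_le_of_card_ge hle ?_
    obtain ⟨k, hk2, hk⟩ := (Nat.dvd_prime_pow Nat.prime_three).1 (hQcard ▸ Subgroup.card_dvd_of_le hle)
    rw [hQcard, hk]
    refine Nat.pow_le_pow_right (by norm_num) ?_
    by_contra hk'
    have hsub : zpowers (σ x) = zpowers (σ x) ⊔ zpowers (σ y) := by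
      refine Subgroup.eq_of_le_of_card_ge le_sup_left ?_
      rw [hk, Nat.card_zpowers, ho]
      calc 3 ^ k ≤ 3 ^ 1 := Nat.pow_le_pow_right (by norm_num) (by omega)
        _ = 3 := pow_one 3
    exact hgn (hsub ▸ mem_sup_right (mem_zpowers _))
  set c := ⁅x, y⁆ with hc
  have hcker : c ∈ σ.ker := by
    rw [MonoidHom.mem_ker, hc, map_commutatorElement, commutatorElement_eq_one_iff_mul_comm]
    exact hQab _ (hx ▸ g0.2) _ (hQ.ge ⟨y, hyP, rfl⟩)
  have hc3 : c ^ 3 = 1 := by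
    have hx3 : x * x * x ∈ σ.ker := by
      rw [MonoidHom.mem_ker, ← pow_three', map_pow]
      exact orderOf_dvd_iff_pow_eq_one.1 ho.dvd
    have e : ⁅x * x * x, y⁆ = x * x * c * (x * x)⁻¹ * (x * c * x⁻¹ * c) := by
      simp only [hc, commutatorElement_def]; group
    rw [commutatorElement_eq_one_iff_mul_comm.2 (hcz _ hx3 y).symm, hcz c hcker (x * x),
      mul_inv_cancel_right, hcz c hcker x, mul_inv_cancel_right] at e
    rw [pow_three]
    exact e.symm
  refine ⟨c, hcker, hc3, fun z hz => ?_⟩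
  haveI hcn : (zpowers c).Normal := ⟨fun n hn g => by
    rwa [hcz _ (zpowers_le.2 hcker hn) g, mul_inv_cancel_right]⟩
  set q := QuotientGroup.mk' (zpowers c) with hq
  have hle : zpowers c ≤ σ.ker := zpowers_le.2 hcker
  set τ := QuotientGroup.lift (zpowers c) σ hle
  have hτ : Cfsg.IsStemExtension τ := CfsgLib.Schur.Tails.isStem_quotient hσ _ hle
  let P' := P.mapSurjective (QuotientGroup.mk'_surjective (zpowers c))
  have hP' : (P' : Subgroup _) = (P : Subgroup X).map q := rfl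
  have hdec : ∀ t ∈ (P : Subgroup X), ∃ i j : ℤ, ∃ w ∈ σ.ker, t = x ^ i * y ^ j * w := by
    intro t ht
    have hn : zpowers (σ y) ≤ normalizer ((zpowers (σ x) : Subgroup _) : Set _) := by
      refine zpowers_le.2 (mem_normalizer_iff.2 fun g => ?_)
      have hcomm : Commute (σ y) (σ x) := hQab _ (hQ.ge ⟨y, hyP, rfl⟩) _ (hx ▸ g0.2)
      constructor
      · intro hg
        obtain ⟨k, rfl⟩ := mem_zpowers_iff.1 hg
        rw [(hcomm.zpow_right k).eq, mul_inv_cancel_right]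
        exact ⟨k, rfl⟩
      · intro hg
        obtain ⟨k, hk⟩ := mem_zpowers_iff.1 hg
        refine ⟨k, ?_⟩
        have : g = (σ y)⁻¹ * (σ x) ^ k * σ y := by rw [hk]; group
        show σ x ^ k = g
        rw [this, mul_assoc, ← (hcomm.zpow_right k).eq, inv_mul_cancel_left]
    have h : σ t ∈ ((zpowers (σ x) ⊔ zpowers (σ y) : Subgroup _) : Set _) := hgen (hQ.ge ⟨t, ht, rfl⟩)
    rw [Subgroup.coe_mul_of_right_le_normalizer_left _ _ hn] at h
    obtain ⟨a, ha, b, hb, e⟩ := h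
    obtain ⟨i, rfl⟩ := mem_zpowers_iff.1 ha
    obtain ⟨j, rfl⟩ := mem_zpowers_iff.1 hb
    refine ⟨i, j, (x ^ i * y ^ j)⁻¹ * t, ?_, (mul_inv_cancel_left _ _).symm⟩
    rw [MonoidHom.mem_ker, map_mul, map_inv, map_mul, map_zpow, map_zpow,
      show σ t = σ x ^ i * σ y ^ j from e.symm, inv_mul_cancel]
  have hab : ∀ a ∈ (P' : Subgroup (X ⧸ zpowers c)), ∀ b ∈ (P' : Subgroup (X ⧸ zpowers c)),
      a * b = b * a := by
    have hxy : Commute (q x) (q y) := by
      rw [Commute, SemiconjBy, ← commutatorElement_eq_one_iff_mul_comm, ← map_commutatorElement, ← hc,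
        hq, QuotientGroup.mk'_apply, QuotientGroup.eq_one_iff]
      exact mem_zpowers c
    rintro a ⟨s, hs, rfl⟩ b ⟨t, ht, rfl⟩
    obtain ⟨i, j, w, hw, rfl⟩ := hdec s hs
    obtain ⟨i', j', w', hw', rfl⟩ := hdec t ht
    have cw : ∀ g, Commute (q w) g := fun g => by
      obtain ⟨g, rfl⟩ := QuotientGroup.mk'_surjective (zpowers c) g
      exact Commute.map (hcz w hw g).symm q
    have cw' : ∀ g, Commute (q w') g := fun g => by
      obtain ⟨g, rfl⟩ := QuotientGroup.mk'_surjective (zpowers c) g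
      exact Commute.map (hcz w' hw' g).symm q
    simp only [map_mul, map_zpow]
    have h1 : Commute (q x ^ i * q y ^ j) (q x ^ i' * q y ^ j') := by
      refine (Commute.mul_right ?_ ?_).mul_left (Commute.mul_right ?_ ?_)
      · exact (Commute.refl _).zpow_zpow i i'
      · exact hxy.zpow_zpow i j'
      · exact hxy.symm.zpow_zpow j i'
      · exact (Commute.refl _).zpow_zpow j j'
    exact (h1.mul_right (cw' _).symm).mul_left (cw _)
  have h3 : ¬ 3 ∣ Nat.card τ.ker :=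
    CfsgLib.Recognition.CoverKernel.not_dvd_of_abelian_sylow hτ.2.1 hτ.2.2 P' hab
  refine ⟨Nat.card τ.ker, h3, ?_⟩
  have h := congrArg Subtype.val (pow_card_eq_one' (x := (⟨q z, hz⟩ : τ.ker)))
  rw [SubmonoidClass.coe_pow] at h
  exact (QuotientGroup.eq_one_iff _).1 ((map_pow q z _).trans h)

/-- The exponent of the kernel divides twelve. -/
theorem pow_twelve_ker : ∀ z ∈ σ.ker, z ^ 12 = 1 := by
  intro z hz
  obtain ⟨c, -, hc3, hk⟩ := exists_three_gen hF hσ
  obtain ⟨k, hk3, hzk⟩ := hk z hz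
  -- the odd part
  let O : Subgroup X :=
    { carrier := {x | x ∈ σ.ker ∧ ∃ m : ℕ, Odd m ∧ x ^ m = 1}
      one_mem' := ⟨one_mem _, 1, odd_one, one_pow 1⟩
      mul_mem' := fun {a b} ⟨ha, m, hm, ea⟩ ⟨hb, n, hn, eb⟩ => ⟨mul_mem ha hb, m * n, hm.mul hn, by
        rw [(show Commute a b from mem_center_iff.1 (hσ.2.1 hb) a).mul_pow, pow_mul, ea, one_pow,
          mul_comm m n, pow_mul, eb, one_pow, one_mul]⟩
      inv_mem' := fun {a} ⟨ha, m, hm, ea⟩ => ⟨inv_mem ha, m, hm, by rw [inv_pow, ea, inv_one]⟩ }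
  haveI : O.Normal := ⟨fun n hn g => by
    rwa [mem_center_iff.1 (hσ.2.1 hn.1) g, mul_inv_cancel_right]⟩
  have hle : O ≤ σ.ker := fun x hx => hx.1
  set τ := QuotientGroup.lift O σ hle
  have hτ : Cfsg.IsStemExtension τ := CfsgLib.Schur.Tails.isStem_quotient hσ O hle
  have h2 : IsPGroup 2 τ.ker := by
    rintro ⟨w, hw⟩
    obtain ⟨x, rfl⟩ := QuotientGroup.mk'_surjective O w
    obtain ⟨e, m, hm, hord⟩ := Nat.exists_eq_two_pow_mul_odd (orderOf_pos x).ne'
    refine ⟨e, Subtype.ext ?_⟩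
    rw [SubmonoidClass.coe_pow, coe_one]
    show QuotientGroup.mk' O x ^ 2 ^ e = 1
    rw [← map_pow, QuotientGroup.mk'_apply, QuotientGroup.eq_one_iff]
    exact ⟨pow_mem hw _, m, hm, by rw [← pow_mul, ← hord, pow_orderOf_eq_one]⟩
  have h4 := pow_four_ker hF hτ h2 (QuotientGroup.mk' O z) hz
  rw [← map_pow, QuotientGroup.mk'_apply, QuotientGroup.eq_one_iff] at h4
  obtain ⟨-, m, hm, hzm⟩ := h4
  rw [← orderOf_dvd_iff_pow_eq_one, Nat.dvd_iff_prime_pow_dvd_dvd]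
  intro p e hp hpe
  rcases Nat.eq_zero_or_pos e with rfl | he
  · simp
  rcases lt_trichotomy p 3 with h | rfl | h
  · obtain rfl : p = 2 := le_antisymm (by omega) hp.two_le
    have hd : orderOf z ∣ 4 * m := orderOf_dvd_iff_pow_eq_one.2 (by rw [pow_mul]; exact hzm)
    have h24 : 2 ^ e ∣ 2 ^ 2 := ((Nat.coprime_two_left.2 hm).pow_left e).dvd_of_dvd_mul_right
      (hpe.trans hd)
    exact h24.trans (by norm_num)
  · have hd : orderOf z ∣ 3 * k := orderOf_dvd_iff_pow_eq_one.2 (by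
      obtain ⟨i, hi⟩ := mem_zpowers_iff.1 hzk
      rw [mul_comm, pow_mul, ← hi, ← zpow_natCast, ← zpow_mul, mul_comm, zpow_mul, zpow_natCast, hc3,
        one_zpow])
    have h33 : 3 ^ e ∣ 3 := (((Nat.prime_three.coprime_iff_not_dvd).2 hk3).pow_left e).dvd_of_dvd_mul_right
      (hpe.trans hd)
    exact h33.trans (by norm_num)
  · have h5 : 5 ≤ p := by
      rcases Nat.lt_or_ge p 5 with h' | h'
      · interval_cases p
        exact absurd hp (by norm_num)
      · exact h'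
    refine absurd ?_ (not_dvd_large hF hσ hp h5)
    have := (dvd_pow_self p he.ne').trans hpe
    refine this.trans ?_
    have h' := orderOf_dvd_natCard (⟨z, hz⟩ : σ.ker)
    rwa [Subgroup.orderOf_mk] at h'

/-- The kernel is a quotient of `3 × 4 × 4`. -/
theorem exists_surjection :
    ∃ π : Multiplicative (ZMod 3 × ZMod 4 × ZMod 4) →* σ.ker, Function.Surjective π := by
  obtain ⟨a, b, ha, hb, hab⟩ := exists_two_gen hF hσ
  obtain ⟨c, hc, hc3, hck⟩ := exists_three_gen hF hσ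
  have h12 := pow_twelve_ker hF hσ
  have hcomm : ∀ {p q : X}, q ∈ σ.ker → Commute p q := fun {p q} hq => mem_center_iff.1 (hσ.2.1 hq) p
  obtain ⟨a', ha'⟩ : ∃ t : σ.ker, t = ⟨a, ha⟩ ^ 9 := ⟨_, rfl⟩
  obtain ⟨b', hb'⟩ : ∃ t : σ.ker, t = ⟨b, hb⟩ ^ 9 := ⟨_, rfl⟩
  let c' : σ.ker := ⟨c, hc⟩
  letI : CommGroup σ.ker := { (inferInstance : Group σ.ker) with
    mul_comm := fun p q => Subtype.ext (hcomm q.2) }
  have e4 : ∀ z : σ.ker, (z ^ 9) ^ 4 = 1 := fun z => by
    rw [← pow_mul, show 9 * 4 = 12 * 3 from rfl, pow_mul]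
    rw [show z ^ 12 = 1 from Subtype.ext (by rw [SubmonoidClass.coe_pow]; exact h12 _ z.2), one_pow]
  have ea : a' ^ 4 = 1 := ha' ▸ e4 _
  have eb : b' ^ 4 = 1 := hb' ▸ e4 _
  have e3 : c' ^ 3 = 1 := Subtype.ext (by rw [SubmonoidClass.coe_pow]; exact hc3)
  let π : Multiplicative (ZMod 3 × ZMod 4 × ZMod 4) →* σ.ker := MonoidHom.mk'
    (fun t => c' ^ (Multiplicative.toAdd t).1.val * a' ^ (Multiplicative.toAdd t).2.1.val *
      b' ^ (Multiplicative.toAdd t).2.2.val) fun s t => by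
    simp only [toAdd_mul, Prod.fst_add, Prod.snd_add, ZMod.val_add]
    rw [← pow_eq_pow_mod _ e3, ← pow_eq_pow_mod _ ea, ← pow_eq_pow_mod _ eb]
    simp only [pow_add]
    ac_rfl
  refine ⟨π, fun z => ?_⟩
  have hmem : ∀ i j k : ℕ, c' ^ i * a' ^ j * b' ^ k ∈ Set.range π := fun i j k => by
    refine ⟨Multiplicative.ofAdd ((i : ZMod 3), (j : ZMod 4), (k : ZMod 4)), ?_⟩
    show c' ^ ((i : ZMod 3)).val * a' ^ ((j : ZMod 4)).val * b' ^ ((k : ZMod 4)).val = _
    rw [ZMod.val_natCast, ZMod.val_natCast, ZMod.val_natCast, ← pow_eq_pow_mod _ e3,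
      ← pow_eq_pow_mod _ ea, ← pow_eq_pow_mod _ eb]
  have hz12 : ∀ z : σ.ker, z ^ 12 = 1 := fun z => Subtype.ext (by
    rw [SubmonoidClass.coe_pow]; exact h12 _ z.2)
  have step : ∀ z : σ.ker, ∃ i j : ℕ, ∃ y : σ.ker, z ^ 9 = a' ^ i * b' ^ j * (y ^ 9) ^ 2 := by
    intro z
    obtain ⟨i, j, y, hy, e⟩ := hab z z.2
    refine ⟨i, j, ⟨y, hy⟩, ?_⟩
    have ez : z = (⟨a, ha⟩ : σ.ker) ^ i * (⟨b, hb⟩ : σ.ker) ^ j * (⟨y, hy⟩ : σ.ker) ^ 2 :=
      Subtype.ext e
    rw [ez]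
    simp only [ha', hb', mul_pow, ← pow_mul, mul_comm 9]
  obtain ⟨i, j, y, e1⟩ := step z
  obtain ⟨i', j', y', e2⟩ := step y
  have ez9 : z ^ 9 = a' ^ (i + i' * 2) * b' ^ (j + j' * 2) := by
    rw [e1, e2, mul_pow, mul_pow, ← pow_mul (y' ^ 9), show (2 : ℕ) * 2 = 4 from rfl, e4, mul_one,
      ← pow_mul, ← pow_mul, pow_add, pow_add]
    exact mul_mul_mul_comm _ _ _ _
  obtain ⟨k, hk3, hzk⟩ := hck z z.2
  obtain ⟨n, hn⟩ : ∃ n : ℕ, z ^ 4 = c' ^ n := by
    obtain ⟨m, hm⟩ := mem_zpowers_iff.1 hzk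
    have hk1 : k * k % 3 = 1 := by
      have hcase : k % 3 = 1 ∨ k % 3 = 2 := by omega
      rcases hcase with h | h <;> rw [Nat.mul_mod, h]
    have h4 : z ^ 4 = (z ^ k) ^ (4 * k) := by
      rw [← pow_mul, show k * (4 * k) = 4 * (k * k) by ring]
      conv_rhs => rw [← Nat.div_add_mod (k * k) 3, hk1, mul_add, mul_one, ← mul_assoc,
        show 4 * 3 = 12 from rfl, pow_add, pow_mul, hz12, one_pow, one_mul]
    obtain ⟨m', hm'⟩ : ∃ m' : ℕ, z ^ k = c' ^ m' := by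
      refine ⟨(m % 3).toNat, Subtype.ext ?_⟩
      rw [SubmonoidClass.coe_pow, SubmonoidClass.coe_pow, ← hm]
      show c ^ m = c ^ (m % 3).toNat
      rw [← zpow_natCast c, Int.toNat_of_nonneg (Int.emod_nonneg _ (by norm_num))]
      conv_lhs => rw [← Int.mul_ediv_add_emod m 3, zpow_add, zpow_mul,
        show (3 : ℤ) = ((3 : ℕ) : ℤ) from rfl, zpow_natCast, hc3, one_zpow, one_mul]
      norm_num
    exact ⟨m' * (4 * k), by rw [h4, hm', ← pow_mul]⟩
  have hsplit : z = z ^ 4 * z ^ 9 := by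
    rw [← pow_add, show 4 + 9 = 12 + 1 from rfl, pow_add, hz12, one_mul, pow_one]
  obtain ⟨t, ht⟩ := hmem n (i + i' * 2) (j + j' * 2)
  exact ⟨t, by rw [ht, hsplit, hn, ez9, mul_assoc]⟩

end CfsgLib.Schur.L34
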