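/-
The stabiliser chain of the group on points and lines used for the cover of `PSL₃(4)`.
-/
import Cfsg.Agent.Lib.Golay.PackPerm
import Cfsg.Agent.Lib.Schur.L34CoverData

set_option autoImplicit false
set_option maxRecDepth 100000

namespace CfsgLib.Schur.L34Data

open CfsgLib.Golay

theorem valid_range : validL 133 (List.range 133) = true := by decide +kernel

/-- The coded symmetric group. -/
noncomputable def ops : Bsgs.Ops (Equiv.Perm (Fin 133)) (Fin 133) :=
  PackPerm.ops 133 (by norm_num) valid_range

theorem chain_check : Bsgs.check ops [] levels = true := by decide +kernel

end CfsgLib.Schur.L34Data
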