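/-
Tabulated matrices over fields with nine and four elements, and the checks on the generators of the
cover of `PSL₃(4)`.
-/
import Mathlib
import Cfsg.Agent.Lib.Generation.SL3Four
import Cfsg.Agent.Lib.Golay.PackPerm
import Cfsg.Agent.Lib.Schur.L34CoverData

set_option autoImplicit false
set_option maxRecDepth 100000

namespace CfsgLib.Schur.L34Data

open Matrix CfsgLib.Generation CfsgLib.Golay

/-- The field with nine elements. -/
abbrev R9 := QuadraticAlgebra (ZMod 3) (-1) 0

instance fintypeR9 : Fintype R9 := Fintype.ofEquiv _ (QuadraticAlgebra.equivProd (-1 : ZMod 3) 0).symm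

/-- The element of a code. -/
def v9 (x : ℕ) : R9 := ⟨(x / 3 : ℕ), (x % 3 : ℕ)⟩

/-- The code of a sum. -/
def a9 (x y : ℕ) : ℕ := ((x / 3 + y / 3) % 3) * 3 + (x % 3 + y % 3) % 3

/-- The code of a product. -/
def m9 (x y : ℕ) : ℕ :=
  ((x / 3 * (y / 3) + 2 * (x % 3 * (y % 3))) % 3) * 3 + (x / 3 * (y % 3) + x % 3 * (y / 3)) % 3

theorem v9_pair (a b : ℕ) (hb : b < 3) :
    v9 (a * 3 + b) = ⟨(a : ZMod 3), (b : ZMod 3)⟩ := by
  simp [v9, show (a * 3 + b) / 3 = a by omega, show (a * 3 + b) % 3 = b by omega]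

theorem v9_add (x y : ℕ) : v9 (a9 x y) = v9 x + v9 y := by
  rw [a9, v9_pair _ _ (Nat.mod_lt _ (by norm_num))]
  ext <;> simp [v9, ZMod.natCast_mod]

theorem v9_mul (x y : ℕ) : v9 (m9 x y) = v9 x * v9 y := by
  rw [m9, v9_pair _ _ (Nat.mod_lt _ (by norm_num))]
  have h2 : (2 : ZMod 3) = -1 := by decide
  ext <;> simp [v9, ZMod.natCast_mod, h2] <;> ring

theorem v9_surjective : ∀ r : R9, ∃ x : Fin 9, v9 x.val = r := by decide +kernel

/-- The matrix of a list. -/
def m4 (l : List ℕ) : Matrix (Fin 4) (Fin 4) R9 :=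
  Matrix.of fun i j => v9 (l.getD (4 * i.val + j.val) 0)

/-- The code of a product of matrices. -/
def mulC (A B : List ℕ) : List ℕ :=
  (List.range 16).map fun k =>
    a9 (a9 (m9 (A.getD (4 * (k / 4)) 0) (B.getD (k % 4) 0))
        (m9 (A.getD (4 * (k / 4) + 1) 0) (B.getD (4 + k % 4) 0)))
      (a9 (m9 (A.getD (4 * (k / 4) + 2) 0) (B.getD (8 + k % 4) 0))
        (m9 (A.getD (4 * (k / 4) + 3) 0) (B.getD (12 + k % 4) 0)))

theorem m4_mulC (A B : List ℕ) : m4 (mulC A B) = m4 A * m4 B := by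
  ext i j : 1
  have hk : 4 * i.val + j.val < 16 := by omega
  have e : (mulC A B).getD (4 * i.val + j.val) 0 =
      a9 (a9 (m9 (A.getD (4 * i.val) 0) (B.getD j.val 0))
        (m9 (A.getD (4 * i.val + 1) 0) (B.getD (4 + j.val) 0)))
      (a9 (m9 (A.getD (4 * i.val + 2) 0) (B.getD (8 + j.val) 0))
        (m9 (A.getD (4 * i.val + 3) 0) (B.getD (12 + j.val) 0))) := by
    rw [mulC, List.getD_eq_getElem _ _ (by simpa using hk), List.getElem_map, List.getElem_range,
      show (4 * i.val + j.val) / 4 = i.val by omega, show (4 * i.val + j.val) % 4 = j.val by omega]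
  show v9 _ = _
  rw [e, v9_add, v9_add, v9_add, v9_mul, v9_mul, v9_mul, v9_mul, Matrix.mul_apply, Fin.sum_univ_four]
  simp [m4, add_assoc]

/-- The vector of a list from an offset. -/
def vec9 (l : List ℕ) (o : ℕ) : Fin 4 → R9 := fun i => v9 (l.getD (o + i.val) 0)

/-- The code of a vector combination. -/
def comb (l : List ℕ) (x y i : ℕ) : ℕ := a9 (m9 x (l.getD i 0)) (m9 y (l.getD (4 + i) 0))

/-- An entry of a product of a matrix with a vector. -/
def mvC (A l : List ℕ) (o i : ℕ) : ℕ :=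
  a9 (a9 (m9 (A.getD (4 * i) 0) (l.getD o 0)) (m9 (A.getD (4 * i + 1) 0) (l.getD (o + 1) 0)))
    (a9 (m9 (A.getD (4 * i + 2) 0) (l.getD (o + 2) 0)) (m9 (A.getD (4 * i + 3) 0) (l.getD (o + 3) 0)))

theorem v9_mvC (A l : List ℕ) (o : ℕ) (i : Fin 4) :
    v9 (mvC A l o i.val) = (m4 A *ᵥ vec9 l o) i := by
  rw [mvC, v9_add, v9_add, v9_add, v9_mul, v9_mul, v9_mul, v9_mul]
  simp [m4, vec9, Matrix.mulVec, dotProduct, Fin.sum_univ_four, add_assoc]

/-- A code of a scalar of the field with four elements. -/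
def c4 (x : ℕ) : Fin 4 := Fin.ofNat 4 x

/-- The table of a list. -/
def t3 (l : List ℕ) : Fin 3 → Fin 3 → Fin 4 := fun i j => c4 (l.getD (3 * i.val + j.val) 0)

/-- The code of a product of matrices. -/
def mul3C (A B : List ℕ) : List ℕ :=
  (List.range 9).map fun k =>
    (add4 (add4 (mul4 (c4 (A.getD (3 * (k / 3)) 0)) (c4 (B.getD (k % 3) 0)))
        (mul4 (c4 (A.getD (3 * (k / 3) + 1) 0)) (c4 (B.getD (3 + k % 3) 0))))
      (mul4 (c4 (A.getD (3 * (k / 3) + 2) 0)) (c4 (B.getD (6 + k % 3) 0)))).val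

theorem t3_mul3C (A B : List ℕ) : t3 (mul3C A B) = mulM4 (t3 A) (t3 B) := by
  funext i j
  have hk : 3 * i.val + j.val < 9 := by omega
  rw [t3, mul3C, List.getD_eq_getElem _ _ (by simpa using hk), List.getElem_map, List.getElem_range,
    show (3 * i.val + j.val) / 3 = i.val by omega, show (3 * i.val + j.val) % 3 = j.val by omega]
  simp [c4, mulM4, t3]

/-- The code of a triple. -/
abbrev Code := List ℕ × List ℕ × List ℕ

/-- The identity triple. -/
def oneC : Code :=
  ([3, 0, 0, 0, 0, 3, 0, 0, 0, 0, 3, 0, 0, 0, 0, 3], [3, 0, 0, 0, 0, 3, 0, 0, 0, 0, 3, 0, 0, 0, 0, 3],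
    [1, 0, 0, 0, 1, 0, 0, 0, 1])

/-- The letters: two generators and their inverses. -/
def letter (i : ℕ) : Code := (first.getD i [], second.getD i [], third.getD i [])

/-- The product of triples. -/
def mulT (x y : Code) : Code := (mulC x.1 y.1, mulC x.2.1 y.2.1, mul3C x.2.2 y.2.2)

/-- The triple of a word. -/
def ev : List ℕ → Code
  | [] => oneC
  | i :: w => mulT (letter i) (ev w)

/-- Substitute the commutators. -/
def subst (w : List ℕ) : List ℕ := w.flatMap fun i => words.getD i []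

/-- A line is mapped onto the line given by the permutation. -/
def lineB (A : List ℕ) (P o : ℕ) (k : ℕ) : Bool :=
  Nat.ble o (PackPerm.getP P (o + k)) && Nat.blt (PackPerm.getP P (o + k) - o) 56 &&
    [0, 4].all fun t => (List.range 9).any fun x => (List.range 9).any fun y =>
      (List.range 4).all fun i =>
        mvC A (lines.getD k []) t i == comb (lines.getD (PackPerm.getP P (o + k) - o) []) x y i

/-- A point is mapped onto the point given by the permutation. -/
def pointB (A : List ℕ) (P k : ℕ) : Bool :=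
  Nat.blt (PackPerm.getP P k) 21 && (List.range 4).any fun c => (List.range 3).all fun i =>
    add4 (add4 (mul4 (c4 (A.getD (3 * i) 0)) (c4 ((points.getD k []).getD 0 0)))
      (mul4 (c4 (A.getD (3 * i + 1) 0)) (c4 ((points.getD k []).getD 1 0))))
      (mul4 (c4 (A.getD (3 * i + 2) 0)) (c4 ((points.getD k []).getD 2 0))) ==
      mul4 (c4 c) (c4 ((points.getD (PackPerm.getP P k) []).getD i 0))

/-- A generator induces its permutation. -/
def genB (i : ℕ) : Bool :=
  (List.range 21).all (pointB (letter i).2.2 (perms.getD i 0)) &&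
    (List.range 56).all (lineB (letter i).1 (perms.getD i 0) 21) &&
    (List.range 56).all (lineB (letter i).2.1 (perms.getD i 0) 77)

/-- The units are units. -/
def unitB (i : ℕ) : Bool :=
  decide (mulT (letter i) (letter (i + 2)) = oneC) && decide (mulT (letter (i + 2)) (letter i) = oneC) &&
    decide (det4 (t3 (letter i).2.2) = 1)

/-- The basis vector, and the sum of all of them. -/
def frameVec : ℕ → List ℕ
  | 0 => [3, 0, 0, 0]
  | 1 => [0, 3, 0, 0]
  | 2 => [0, 0, 3, 0]
  | 3 => [0, 0, 0, 3]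
  | _ => [3, 3, 3, 3]

/-- The functionals vanishing at a point of the frame. -/
def target : ℕ → List (List ℕ)
  | 0 => [[0, 3, 0, 0], [0, 0, 3, 0], [0, 0, 0, 3]]
  | 1 => [[3, 0, 0, 0], [0, 0, 3, 0], [0, 0, 0, 3]]
  | 2 => [[3, 0, 0, 0], [0, 3, 0, 0], [0, 0, 0, 3]]
  | 3 => [[3, 0, 0, 0], [0, 3, 0, 0], [0, 0, 3, 0]]
  | _ => [[6, 3, 0, 0], [6, 0, 3, 0], [6, 0, 0, 3]]

/-- The value of a functional. -/
def dotC (f l : List ℕ) (o : ℕ) : ℕ :=
  a9 (a9 (m9 (f.getD 0 0) (l.getD o 0)) (m9 (f.getD 1 0) (l.getD (o + 1) 0)))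
    (a9 (m9 (f.getD 2 0) (l.getD (o + 2) 0)) (m9 (f.getD 3 0) (l.getD (o + 3) 0)))

/-- Two lines meet exactly in a point of the frame. -/
def frameB (k : ℕ) : Bool :=
  let e := frame.getD k (0, 0)
  let A := lines.getD e.1 []
  let B := lines.getD e.2 []
  Nat.blt e.1 56 && Nat.blt e.2 56 &&
    ([A, B].all fun L => (List.range 9).any fun x => (List.range 9).any fun y =>
      (List.range 4).all fun i => (frameVec k).getD i 0 == comb L x y i) &&
    (List.range 3).all fun t =>
      let fa := ((frameCert.getD k []).getD t []).getD 0 []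
      let fb := ((frameCert.getD k []).getD t []).getD 1 []
      (dotC fa A 0 == 0) && (dotC fa A 4 == 0) && (dotC fb B 0 == 0) && (dotC fb B 4 == 0) &&
        (List.range 4).all fun i => a9 (fa.getD i 0) (fb.getD i 0) == ((target k).getD t []).getD i 0

/-- The scalar triple. -/
def scalC (r r' s : ℕ) : Code :=
  ([r, 0, 0, 0, 0, r, 0, 0, 0, 0, r, 0, 0, 0, 0, r], [r', 0, 0, 0, 0, r', 0, 0, 0, 0, r', 0, 0, 0, 0, r'],
    [s, 0, 0, 0, s, 0, 0, 0, s])

/-- A transvection word gives a scalar times the transvection. -/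
def tvB (i j c : ℕ) : Bool :=
  transvecs.any fun e => e.1 == (i, j, c) && e.2.all (fun k => Nat.blt k 2) && [1, 2, 3].any fun r =>
    (ev e.2).2.2 == (List.range 9).map fun k =>
      (mul4 (c4 r) (if k / 3 = i ∧ k % 3 = j then c4 c else if k / 3 = k % 3 then 1 else 0)).val

theorem unitB_all : unitB 0 = true ∧ unitB 1 = true := by decide +kernel

theorem genB_all : genB 0 = true ∧ genB 1 = true := by decide +kernel

theorem frameB_all : ∀ k : Fin 5, frameB k.val = true := by decide +kernel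

theorem tvB_all : ∀ i j : Fin 3, i ≠ j → tvB i.val j.val 1 = true ∧ tvB i.val j.val 2 = true := by
  decide +kernel

theorem central_eq :
    ev (subst (central.getD 0 [])) = scalC 1 3 1 ∧ ev (subst (central.getD 1 [])) = scalC 3 1 1 ∧
    ev (subst (central.getD 2 [])) = scalC 3 3 2 := by
  decide +kernel

theorem words_eq : words = [[0, 1, 2, 3], [0, 1, 1, 2, 3, 3]] := by decide +kernel

theorem central_lt : ∀ w ∈ central, ∀ i ∈ w, i < 2 := by decide +kernel

theorem points_distinct : ∀ i j : Fin 21, ∀ c : Fin 4,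
    (∀ k : Fin 3, c4 ((points.getD i.val []).getD k.val 0) =
      mul4 c (c4 ((points.getD j.val []).getD k.val 0))) → i = j := by
  decide +kernel

theorem points_ne : ∀ i : Fin 21, ∃ k : Fin 3, c4 ((points.getD i.val []).getD k.val 0) ≠ 0 := by
  decide +kernel

theorem bases_lt : ∀ l ∈ levels, l.base < 21 := by decide +kernel

theorem perms_mem : ∀ i : Fin 2, perms.getD i.val 0 ∈ Bsgs.allGens levels := by decide +kernel

end CfsgLib.Schur.L34Data
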