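/-
A stem extension of `PSL₃(4)` with kernel `3 × 4 × 4`: two twisted copies of the fourfold cover in
dimension four over nine elements, joined with `SL₃(4)`.
-/
import Cfsg.Agent.Lib.Schur.L34Codes
import Cfsg.Agent.Lib.Schur.L34Chain
import Cfsg.Agent.Lib.Schur.L34Frame
import Cfsg.Agent.Lib.Classical.SLBasic
import Cfsg.Agent.Lib.Tails.Combine

set_option autoImplicit false
set_option maxHeartbeats 1600000

namespace CfsgLib.Schur.L34Data

open Matrix CfsgLib.Generation CfsgLib.Golay
open scoped commutatorElement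

universe u

/-- An element fixing all base points of a chain is trivial. -/
theorem eq_one_of_fixes {G : Type*} [Group G] [Finite G] {α : Type*} [MulAction G α]
    (O : Bsgs.Ops G α) : ∀ {fixed : List ℕ} {ls : List Bsgs.Lvl}, (∀ f ∈ fixed, O.ptOk f = true) →
      Bsgs.check O fixed ls = true → ∀ g ∈ Bsgs.grp O ls,
        (∀ l ∈ ls, g • O.pt l.base = O.pt l.base) → g = 1
  | fixed, [], _, _, g, hg, _ => by
    simpa [Bsgs.grp, Bsgs.allGens] using hg
  | fixed, l :: ls, hfix, hc, g, hg, hbase => by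
    obtain ⟨r, hr, h, hh, rfl⟩ := (Bsgs.spec O hfix hc).2.2.2.2 l ls rfl g hg
    simp only [Bsgs.check, Bool.and_eq_true, decide_eq_true_eq, List.all_eq_true] at hc
    obtain ⟨⟨⟨⟨⟨⟨⟨⟨hb, hhead⟩, hreps⟩, hnd⟩, -⟩, -⟩, -⟩, -⟩, hrec⟩ := hc
    have hfix' : ∀ f ∈ fixed ++ [l.base], O.ptOk f = true := by
      intro f hf
      rcases List.mem_append.1 hf with hf | hf
      · exact hfix f hf
      · rw [List.mem_singleton.1 hf]; exact hb
    have hfixh : h • O.pt l.base = O.pt l.base :=
      (Bsgs.spec O hfix' hrec).1 h hh _ (List.mem_append.2 (Or.inr (List.mem_singleton.2 rfl)))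
    have h1 := hbase l List.mem_cons_self
    rw [mul_smul, hfixh] at h1
    obtain ⟨e1, e2⟩ := O.pt_img r l.base (hreps r hr) hb
    have himg : O.img r l.base = l.base := O.pt_inj _ _ e2 hb (e1.symm.trans h1)
    obtain ⟨e3, e4⟩ := O.pt_img O.one l.base O.ok_one hb
    rw [O.val_one, one_smul] at e3
    have himg1 : O.img O.one l.base = l.base := O.pt_inj _ _ e4 hb e3.symm
    have hone : O.one ∈ l.reps := by
      rw [List.head?_eq_some_iff] at hhead
      obtain ⟨t, ht⟩ := hhead
      rw [ht]; exact List.mem_cons_self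
    have : r = O.one := List.inj_on_of_nodup_map hnd hr hone (himg.trans himg1.symm)
    subst this
    rw [O.val_one, one_mul] at hbase ⊢
    exact eq_one_of_fixes O hfix' hrec h hh fun l' hl' => hbase l' (List.mem_cons_of_mem _ hl')

variable {F : Type u} [Field F]

/-- The ambient group. -/
abbrev W (F : Type u) [Field F] : Type u :=
  (Matrix (Fin 4) (Fin 4) R9)ˣ × (Matrix (Fin 4) (Fin 4) R9)ˣ × SpecialLinearGroup (Fin 3) F

/-- The monoid of triples of matrices. -/
abbrev M (F : Type u) [Field F] : Type u :=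
  Matrix (Fin 4) (Fin 4) R9 × Matrix (Fin 4) (Fin 4) R9 × Matrix (Fin 3) (Fin 3) F

/-- The matrices of an element. -/
def valW : W F →* M F where
  toFun x := (x.1.1, x.2.1.1, x.2.2.1)
  map_one' := rfl
  map_mul' _ _ := rfl

theorem valW_injective : Function.Injective (valW (F := F)) := fun x y h =>
  Prod.ext (Units.ext (congrArg Prod.fst h)) (Prod.ext (Units.ext (congrArg (fun z : M F => z.2.1) h))
    (Subtype.ext (congrArg (fun z : M F => z.2.2) h)))

/-- The third matrix of a code. -/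
def m3 (ω : F) (l : List ℕ) : Matrix (Fin 3) (Fin 3) F := Matrix.of fun i j => val4 ω (t3 l i j)

/-- The matrices of a code. -/
def mT (ω : F) (c : Code) : M F := (m4 c.1, m4 c.2.1, m3 ω c.2.2)

theorem mT_oneC (ω : F) : mT ω oneC = 1 := by
  refine Prod.ext ?_ (Prod.ext ?_ ?_)
  all_goals
    ext i j : 1
    fin_cases i <;> fin_cases j <;> simp [mT, m4, m3, t3, c4, oneC, v9, val4] <;>
      first | rfl | decide

variable [CharP F 2] {ω : F}

theorem mT_mulT (hω : ω * ω = 1 + ω) (x y : Code) : mT ω (mulT x y) = mT ω x * mT ω y := by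
  refine Prod.ext (m4_mulC _ _) (Prod.ext (m4_mulC _ _) ?_)
  show m3 ω (mul3C x.2.2 y.2.2) = m3 ω x.2.2 * m3 ω y.2.2
  rw [m3, t3_mul3C]
  exact val4_mulM hω _ _

theorem unit_facts (hω : ω * ω = 1 + ω) (i : Fin 2) :
    mT ω (letter i.val) * mT ω (letter (i.val + 2)) = 1 ∧
      mT ω (letter (i.val + 2)) * mT ω (letter i.val) = 1 ∧
      (m3 ω (letter i.val).2.2).det = 1 := by
  have h : unitB i.val = true := by fin_cases i <;> [exact unitB_all.1; exact unitB_all.2]
  simp only [unitB, Bool.and_eq_true, decide_eq_true_eq] at h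
  obtain ⟨⟨h1, h2⟩, h3⟩ := h
  refine ⟨?_, ?_, ?_⟩
  · rw [← mT_mulT hω, h1, mT_oneC]
  · rw [← mT_mulT hω, h2, mT_oneC]
  · rw [m3, val4_det hω, h3]; rfl

/-- The generators. -/
def gen (hω : ω * ω = 1 + ω) (i : Fin 2) : W F :=
  (⟨m4 (letter i.val).1, m4 (letter (i.val + 2)).1, congrArg Prod.fst (unit_facts hω i).1,
      congrArg Prod.fst (unit_facts hω i).2.1⟩,
    ⟨m4 (letter i.val).2.1, m4 (letter (i.val + 2)).2.1,
      congrArg (fun z : M F => z.2.1) (unit_facts hω i).1,
      congrArg (fun z : M F => z.2.1) (unit_facts hω i).2.1⟩,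
    ⟨m3 ω (letter i.val).2.2, (unit_facts hω i).2.2⟩)

/-- The letters as elements. -/
def gLet (hω : ω * ω = 1 + ω) : ℕ → W F
  | 0 => gen hω 0
  | 1 => gen hω 1
  | 2 => (gen hω 0)⁻¹
  | 3 => (gen hω 1)⁻¹
  | _ => 1

theorem valW_gLet (hω : ω * ω = 1 + ω) : ∀ {i : ℕ}, i < 4 → valW (gLet hω i) = mT ω (letter i) := by
  have hinv : ∀ i : Fin 2, valW ((gen hω i)⁻¹) = mT ω (letter (i.val + 2)) := fun i => by
    have h1 : valW ((gen hω i)⁻¹) * valW (gen hω i) = 1 := by rw [← map_mul, inv_mul_cancel, map_one]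
    exact left_inv_eq_right_inv h1 (unit_facts hω i).1
  intro i hi
  interval_cases i
  · rfl
  · rfl
  · exact hinv 0
  · exact hinv 1

/-- The element of a word. -/
def wordW (hω : ω * ω = 1 + ω) (w : List ℕ) : W F := (w.map (gLet hω)).prod

theorem valW_word (hω : ω * ω = 1 + ω) : ∀ {w : List ℕ}, (∀ i ∈ w, i < 4) →
    valW (wordW hω w) = mT ω (ev w)
  | [], _ => by simp [wordW, ev, mT_oneC]
  | i :: w, h => by
    rw [show wordW hω (i :: w) = gLet hω i * wordW hω w by simp [wordW], map_mul,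
      valW_gLet hω (h i List.mem_cons_self), valW_word hω fun j hj => h j (List.mem_cons_of_mem _ hj),
      ev, mT_mulT hω]

/-- The position of a line in the first family. -/
def P1 (k : Fin 56) : Fin 133 := ⟨21 + k.val, by omega⟩

/-- The position of a line in the second family. -/
def P2 (k : Fin 56) : Fin 133 := ⟨77 + k.val, by omega⟩

/-- The position of a point. -/
def P0 (k : Fin 21) : Fin 133 := ⟨k.val, by omega⟩

/-- A basis vector of a line. -/
def lv (k : Fin 56) (t : Fin 2) : Fin 4 → R9 := vec9 (lines.getD k.val []) (4 * t.val)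

/-- The vector of a point. -/
def pv (ω : F) (k : Fin 21) : Fin 3 → F := fun i => val4 ω (c4 ((points.getD k.val []).getD i.val 0))

/-- A matrix induces a permutation of the lines. -/
def RelL (X : Matrix (Fin 4) (Fin 4) R9) (P : Fin 56 → Fin 133) (p : Equiv.Perm (Fin 133)) : Prop :=
  ∀ k, ∃ l, p (P k) = P l ∧ ∀ t, ∃ a b : R9, X *ᵥ lv k t = a • lv l 0 + b • lv l 1

/-- A triple induces a permutation of points and lines. -/
def Rel (ω : F) (x : W F) (p : Equiv.Perm (Fin 133)) : Prop :=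
  (∀ k, ∃ j, p (P0 k) = P0 j ∧ ∃ c : F, x.2.2.1 *ᵥ pv ω k = c • pv ω j) ∧
    RelL x.1.1 P1 p ∧ RelL x.2.1.1 P2 p

theorem relL_one (P : Fin 56 → Fin 133) : RelL 1 P 1 := fun k => by
  refine ⟨k, rfl, fun t => ?_⟩
  fin_cases t
  · exact ⟨1, 0, by simp⟩
  · exact ⟨0, 1, by simp⟩

theorem relL_mul {P : Fin 56 → Fin 133} {X Y : Matrix (Fin 4) (Fin 4) R9}
    {p q : Equiv.Perm (Fin 133)} (hX : RelL X P p) (hY : RelL Y P q) : RelL (X * Y) P (p * q) := by
  intro k
  obtain ⟨l, hl, hlt⟩ := hY k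
  obtain ⟨m, hm, hmt⟩ := hX l
  refine ⟨m, by rw [Equiv.Perm.mul_apply, hl, hm], fun t => ?_⟩
  obtain ⟨a, b, hab⟩ := hlt t
  obtain ⟨a0, b0, h0⟩ := hmt 0
  obtain ⟨a1, b1, h1⟩ := hmt 1
  refine ⟨a * a0 + b * a1, a * b0 + b * b1, ?_⟩
  rw [← mulVec_mulVec, hab, mulVec_add, mulVec_smul, mulVec_smul, h0, h1]
  simp only [smul_add, smul_smul, add_smul]
  abel

omit [CharP F 2] in
theorem rel_one : Rel ω (1 : W F) 1 :=
  ⟨fun k => ⟨k, rfl, 1, by simp⟩, relL_one _, relL_one _⟩

omit [CharP F 2] in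
theorem rel_mul {x y : W F} {p q : Equiv.Perm (Fin 133)} (hx : Rel ω x p) (hy : Rel ω y q) :
    Rel ω (x * y) (p * q) := by
  refine ⟨fun k => ?_, relL_mul hx.2.1 hy.2.1, relL_mul hx.2.2 hy.2.2⟩
  obtain ⟨l, hl, c, hc⟩ := hy.1 k
  obtain ⟨m, hm, d, hd⟩ := hx.1 l
  refine ⟨m, by rw [Equiv.Perm.mul_apply, hl, hm], c * d, ?_⟩
  show (x.2.2.1 * y.2.2.1) *ᵥ pv ω k = _
  rw [← mulVec_mulVec, hc, mulVec_smul, hd, smul_smul]

theorem ops_apply {A : ℕ} (hA : ops.ok A = true) (x : Fin 133) :
    ((ops.val A) x).val = PackPerm.getP A x.val := by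
  have h := permOf_apply (Equiv.refl (Fin 133)) (PackPerm.validL_of_okP hA) x
  simp only [Equiv.refl_apply] at h
  rw [PackPerm.toL_getD A x.isLt] at h
  exact h

theorem rel_gen (hω : ω * ω = 1 + ω) (i : Fin 2) :
    Rel ω (gen hω i) (ops.val (perms.getD i.val 0)) := by
  have hok : ops.ok (perms.getD i.val 0) = true :=
    (Bsgs.spec ops (fun _ h => absurd h List.not_mem_nil) chain_check).2.1 _ (perms_mem i)
  have h : genB i.val = true := by fin_cases i <;> [exact genB_all.1; exact genB_all.2]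
  simp only [genB, Bool.and_eq_true, List.all_eq_true, List.mem_range] at h
  obtain ⟨⟨h0, h1⟩, h2⟩ := h
  set P := perms.getD i.val 0
  have hL : ∀ (A : List ℕ) (o : ℕ) (Q : Fin 56 → Fin 133), (∀ k, (Q k).val = o + k.val) →
      (∀ k < 56, lineB A P o k = true) → RelL (m4 A) Q (ops.val P) := by
    intro A o Q hQ hall k
    have hk := hall k.val k.isLt
    simp only [lineB, Bool.and_eq_true, List.all_eq_true, List.any_eq_true, List.mem_range,
      Nat.ble_eq, Nat.blt_eq, beq_iff_eq] at hk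
    obtain ⟨⟨hlo, hhi⟩, ht⟩ := hk
    refine ⟨⟨_, hhi⟩, Fin.ext ?_, fun t => ?_⟩
    · rw [ops_apply hok, hQ, hQ]
      show _ = o + (PackPerm.getP P (o + k.val) - o)
      omega
    obtain ⟨x, -, y, -, hxy⟩ := ht (4 * t.val) (by fin_cases t <;> simp)
    refine ⟨v9 x, v9 y, funext fun j => ?_⟩
    rw [lv, ← v9_mvC, hxy j.val j.isLt, comb, v9_add, v9_mul, v9_mul]
    simp [lv, vec9]
  refine ⟨fun k => ?_, hL _ 21 P1 (fun _ => rfl) h1, hL _ 77 P2 (fun _ => rfl) h2⟩
  have hk := h0 k.val k.isLt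
  simp only [pointB, Bool.and_eq_true, List.all_eq_true, List.any_eq_true, List.mem_range,
    Nat.blt_eq, beq_iff_eq] at hk
  obtain ⟨hlt, c, -, hc⟩ := hk
  refine ⟨⟨_, hlt⟩, Fin.ext (ops_apply hok _), val4 ω (c4 c), funext fun j => ?_⟩
  have e := congrArg (val4 ω) (hc j.val j.isLt)
  simp only [val4_add hω, val4_mul hω] at e
  show (m3 ω (letter i.val).2.2 *ᵥ pv ω k) j = val4 ω (c4 c) * pv ω _ j
  simp only [Matrix.mulVec, dotProduct, Fin.sum_univ_three, m3, pv, Matrix.of_apply, t3]
  exact e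

variable [Fintype F]

/-- The generated group. -/
def Γ0 (hω : ω * ω = 1 + ω) : Subgroup (W F) := Subgroup.closure (Set.range (gen hω))

theorem exists_rel (hω : ω * ω = 1 + ω) {x : W F} (hx : x ∈ Γ0 hω) :
    ∃ p ∈ Bsgs.grp ops levels, Rel ω x p := by
  rw [← Subgroup.mem_toSubmonoid, Γ0, Subgroup.closure_toSubmonoid_of_finite] at hx
  induction hx using Submonoid.closure_induction with
  | mem y hy =>
    obtain ⟨i, rfl⟩ := hy
    exact ⟨_, Subgroup.subset_closure ⟨_, perms_mem i, rfl⟩, rel_gen hω i⟩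
  | one => exact ⟨1, one_mem _, rel_one⟩
  | mul a b _ _ ha hb =>
    obtain ⟨p, hp, hp'⟩ := ha
    obtain ⟨q, hq, hq'⟩ := hb
    exact ⟨p * q, mul_mem hp hq, rel_mul hp' hq'⟩

/-- A matrix fixing the lines is scalar. -/
theorem scalar_of_fix {X : Matrix (Fin 4) (Fin 4) R9} {P : Fin 56 → Fin 133}
    (hP : Function.Injective P) (h : RelL X P 1) : ∃ c : R9, X = c • 1 := by
  have hfix : ∀ k t, ∃ a b : R9, X *ᵥ lv k t = a • lv k 0 + b • lv k 1 := fun k t => by
    obtain ⟨l, hl, hlt⟩ := h k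
    rw [← hP (show P k = P l from hl)] at hlt
    exact hlt t
  have key : ∀ k : Fin 5, ∀ t < 3, ∑ j, v9 (((target k.val).getD t []).getD j.val 0) *
      (X *ᵥ vec9 (frameVec k.val) 0) j = 0 := by
    intro k t ht
    have hk := frameB_all k
    simp only [frameB, Bool.and_eq_true, List.all_eq_true, List.any_eq_true, List.mem_range,
      Nat.blt_eq, beq_iff_eq, List.mem_cons, List.not_mem_nil, or_false, forall_eq_or_imp,
      forall_eq] at hk
    obtain ⟨⟨⟨hA, hB⟩, ⟨x, -, y, -, hxy⟩, ⟨x', -, y', -, hxy'⟩⟩, hcert⟩ := hk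
    obtain ⟨⟨⟨⟨ha0, ha4⟩, hb0⟩, hb4⟩, hsum⟩ := hcert t ht
    set fa := ((frameCert.getD k.val []).getD t []).getD 0 []
    set fb := ((frameCert.getD k.val []).getD t []).getD 1 []
    set eA : Fin 56 := ⟨_, hA⟩
    set eB : Fin 56 := ⟨_, hB⟩
    have inLine : ∀ (e : Fin 56) (x y : ℕ),
        (∀ i < 4, (frameVec k.val).getD i 0 = comb (lines.getD e.val []) x y i) →
        ∃ a b : R9, X *ᵥ vec9 (frameVec k.val) 0 = a • lv e 0 + b • lv e 1 := by
      intro e x y hxy
      have he : vec9 (frameVec k.val) 0 = v9 x • lv e 0 + v9 y • lv e 1 := funext fun j => by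
        show v9 ((frameVec k.val).getD (0 + j.val) 0) = _
        rw [Nat.zero_add, hxy j.val j.isLt, comb, v9_add, v9_mul, v9_mul]
        simp [lv, vec9]
      obtain ⟨a0, b0, h0⟩ := hfix e 0
      obtain ⟨a1, b1, h1⟩ := hfix e 1
      refine ⟨v9 x * a0 + v9 y * a1, v9 x * b0 + v9 y * b1, ?_⟩
      rw [he, mulVec_add, mulVec_smul, mulVec_smul, h0, h1]
      simp only [smul_add, smul_smul, add_smul]
      abel
    have dotF : ∀ (f : List ℕ) (e : Fin 56) (v : Fin 4 → R9),
        dotC f (lines.getD e.val []) 0 = 0 → dotC f (lines.getD e.val []) 4 = 0 →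
        (∃ a b : R9, v = a • lv e 0 + b • lv e 1) → ∑ j, v9 (f.getD j.val 0) * v j = 0 := by
      rintro f e v h0 h4 ⟨a, b, rfl⟩
      have hz : v9 0 = 0 := by decide
      have e0 := congrArg v9 h0
      have e4 := congrArg v9 h4
      simp only [dotC, v9_add, v9_mul, hz] at e0 e4
      simp only [Fin.sum_univ_four, lv, vec9, Pi.add_apply, Pi.smul_apply, smul_eq_mul]
      norm_num at e0 e4 ⊢
      linear_combination a * e0 + b * e4
    have e1 := dotF fa eA _ ha0 ha4 (inLine eA x y hxy)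
    have e2 := dotF fb eB _ hb0 hb4 (inLine eB x' y' hxy')
    calc _ = ∑ j : Fin 4, (v9 (fa.getD j.val 0) + v9 (fb.getD j.val 0)) *
          (X *ᵥ vec9 (frameVec k.val) 0) j := Finset.sum_congr rfl fun j _ => by
            rw [← v9_add, hsum j.val j.isLt]
      _ = 0 := by simp only [add_mul, Finset.sum_add_distrib, e1, e2, add_zero]
  have c1 : v9 3 = 1 := by decide
  have c0 : v9 0 = 0 := by decide
  have c6 : v9 6 = -1 := by decide
  refine ⟨X 0 0, ?_⟩
  have q := fun k t (ht : t < 3) => key k t ht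
  have k00 := q 0 0 (by norm_num)
  have k01 := q 0 1 (by norm_num)
  have k02 := q 0 2 (by norm_num)
  have k10 := q 1 0 (by norm_num)
  have k11 := q 1 1 (by norm_num)
  have k12 := q 1 2 (by norm_num)
  have k20 := q 2 0 (by norm_num)
  have k21 := q 2 1 (by norm_num)
  have k22 := q 2 2 (by norm_num)
  have k30 := q 3 0 (by norm_num)
  have k31 := q 3 1 (by norm_num)
  have k32 := q 3 2 (by norm_num)
  have k40 := q 4 0 (by norm_num)
  have k41 := q 4 1 (by norm_num)
  have k42 := q 4 2 (by norm_num)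
  simp [target, frameVec, vec9, c0, c1, c6, Fin.sum_univ_four, Matrix.mulVec, dotProduct]
    at k00 k01 k02 k10 k11 k12 k20 k21 k22 k30 k31 k32 k40 k41 k42
  simp only [k00, k01, k02, k10, k11, k12, k20, k21, k22, k30, k31, k32, add_zero, zero_add]
    at k40 k41 k42
  ext i j : 1
  fin_cases i <;> fin_cases j <;>
    simp [k00, k01, k02, k10, k11, k12, k20, k21, k22, k30, k31, k32]
  · linear_combination k40
  · linear_combination k41
  · linear_combination k42

theorem mem_of_transvecs (hω : ω * ω = 1 + ω) (hb : Function.Bijective (val4 ω))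
    (S : Subgroup (SpecialLinearGroup (Fin 3) F))
    (hc : Subgroup.center (SpecialLinearGroup (Fin 3) F) ≤ S) (hgen : ∀ i, (gen hω i).2.2 ∈ S) :
    S = ⊤ := by
  refine CfsgLib.Classical.SL_le_of_transvections S fun i j hij a => ?_
  have key : ∀ c : ℕ, (c = 1 ∨ c = 2) →
      SpecialLinearGroup.transvection hij (val4 ω (c4 c)) ∈ S := by
    intro c hc'
    have h : tvB i.val j.val c = true := by
      rcases hc' with rfl | rfl
      · exact (tvB_all i j hij).1
      · exact (tvB_all i j hij).2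
    simp only [tvB, List.any_eq_true, Bool.and_eq_true, beq_iff_eq, List.all_eq_true,
      Nat.blt_eq] at h
    obtain ⟨e, -, ⟨⟨-, hlt⟩, r, hr, hev⟩⟩ := h
    have hmem : (wordW hω e.2).2.2 ∈ S := by
      have : ∀ w : List ℕ, (∀ k ∈ w, k < 2) → (wordW hω w).2.2 ∈ S := by
        intro w
        induction w with
        | nil => exact fun _ => S.one_mem
        | cons k w ih =>
          intro hk
          have h2 := hk k List.mem_cons_self
          rw [show wordW hω (k :: w) = gLet hω k * wordW hω w by simp [wordW]]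
          refine S.mul_mem ?_ (ih fun l hl => hk l (List.mem_cons_of_mem _ hl))
          interval_cases k
          · exact hgen 0
          · exact hgen 1
      exact this _ hlt
    have hr0 : c4 r ≠ 0 ∧ mul4 (mul4 (c4 r) (c4 r)) (c4 r) = 1 := by
      simp only [List.mem_cons, List.not_mem_nil, or_false] at hr
      rcases hr with rfl | rfl | rfl <;> decide
    have hz3 : val4 ω (c4 r) ^ 3 = 1 := by
      rw [pow_succ, pow_two, ← val4_mul hω, ← val4_mul hω, hr0.2]; rfl
    let z : SpecialLinearGroup (Fin 3) F := ⟨Matrix.scalar (Fin 3) (val4 ω (c4 r)), by simp [hz3]⟩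
    have hz : z ∈ Subgroup.center (SpecialLinearGroup (Fin 3) F) :=
      Matrix.SpecialLinearGroup.mem_center_iff.2 ⟨_, by simpa using hz3, rfl⟩
    have he : (wordW hω e.2).2.2 = z * SpecialLinearGroup.transvection hij (val4 ω (c4 c)) := by
      refine Subtype.ext ?_
      have hv := congrArg (fun m : M F => m.2.2) (valW_word hω (w := e.2) fun k hk =>
        (hlt k hk).trans (by norm_num))
      refine hv.trans ?_
      show m3 ω (ev e.2).2.2 = Matrix.scalar (Fin 3) (val4 ω (c4 r)) *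
        (SpecialLinearGroup.transvection hij (val4 ω (c4 c))).1
      rw [hev, SpecialLinearGroup.transvection_coe, scalar_apply]
      ext a b
      have hidx : 3 * a.val + b.val < 9 := by omega
      simp only [m3, t3, Matrix.of_apply, Matrix.diagonal_mul]
      rw [List.getD_eq_getElem _ _ (by simpa using hidx), List.getElem_map, List.getElem_range,
        show (3 * a.val + b.val) / 3 = a.val by omega, show (3 * a.val + b.val) % 3 = b.val by omega,
        show ∀ x : Fin 4, c4 x.val = x from fun x => by simp [c4], val4_mul hω]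
      congr 1
      by_cases hab : a = b
      · subst hab
        rw [if_neg fun h => hij (Fin.ext (h.1.symm.trans h.2)), if_pos rfl]
        have : ¬ (i = a ∧ j = a) := fun h => hij (h.1.trans h.2.symm)
        simp [Matrix.transvection, Matrix.single_apply, this, val4]
      · simp only [Matrix.transvection, Matrix.add_apply, Matrix.one_apply_ne hab, zero_add,
          Matrix.single_apply]
        by_cases h : i = a ∧ j = b
        · rw [if_pos ⟨congrArg Fin.val h.1.symm, congrArg Fin.val h.2.symm⟩, if_pos h]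
        · rw [if_neg fun h' => h ⟨Fin.ext h'.1.symm, Fin.ext h'.2.symm⟩,
            if_neg fun h' => hab (Fin.ext h'), if_neg h]
          rfl
    have := S.mul_mem (S.inv_mem (hc hz)) (he ▸ hmem)
    simpa using this
  have hadd : ∀ x y : F, SpecialLinearGroup.transvection hij (x + y) =
      SpecialLinearGroup.transvection hij x * SpecialLinearGroup.transvection hij y := fun x y =>
    Subtype.ext (by
      show _ = (SpecialLinearGroup.transvection hij x).1 * (SpecialLinearGroup.transvection hij y).1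
      simp only [SpecialLinearGroup.transvection_coe]
      exact (Matrix.transvection_mul_transvection_same i j hij x y).symm)
  obtain ⟨c, rfl⟩ := hb.2 a
  fin_cases c
  · have h2 : (1 : F) + 1 = 0 := by rw [one_add_one_eq_two]; exact CharTwo.two_eq_zero
    have h1 := key 1 (.inl rfl)
    have := S.mul_mem h1 h1
    rw [← hadd] at this
    simpa [c4, val4, h2] using this
  · exact key 1 (.inl rfl)
  · exact key 2 (.inr rfl)
  · have := S.mul_mem (key 1 (.inl rfl)) (key 2 (.inr rfl))
    rw [← hadd] at this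
    exact this

theorem val_scalC (r r' s : ℕ) : mT ω (scalC r r' s) =
    (v9 r • (1 : Matrix (Fin 4) (Fin 4) R9), v9 r' • (1 : Matrix (Fin 4) (Fin 4) R9),
      val4 ω (c4 s) • (1 : Matrix (Fin 3) (Fin 3) F)) := by
  have hz : v9 0 = 0 := by decide
  refine Prod.ext ?_ (Prod.ext ?_ ?_)
  all_goals
    ext i j : 1
    fin_cases i <;> fin_cases j <;> simp [mT, m4, m3, t3, scalC, hz]
  all_goals simp [c4, val4]

theorem pow_i_facts : (∀ a b : ZMod 4, (v9 1) ^ (a + b).val = (v9 1) ^ a.val * (v9 1) ^ b.val) ∧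
    (∀ a b : ZMod 4, (v9 1) ^ a.val = (v9 1) ^ b.val → a = b) ∧
    (∀ r : R9, r ^ 4 = 1 → ∃ a : ZMod 4, r = (v9 1) ^ a.val) := by
  refine ⟨?_, ?_, ?_⟩ <;> decide +kernel

/-- The triples of scalars of the kernel. -/
def zTriple (ω : F) (a : ZMod 3 × ZMod 4 × ZMod 4) : M F :=
  ((v9 1) ^ a.2.1.val • (1 : Matrix (Fin 4) (Fin 4) R9), (v9 1) ^ a.2.2.val • (1 : Matrix (Fin 4) (Fin 4) R9),
    ω ^ a.1.val • (1 : Matrix (Fin 3) (Fin 3) F))

theorem smul_one_inj {S : Type*} [CommRing S] {n : Type*} [Fintype n] [DecidableEq n] [Nonempty n]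
    {a b : S} (h : a • (1 : Matrix n n S) = b • (1 : Matrix n n S)) : a = b := by
  obtain ⟨i⟩ := ‹Nonempty n›
  simpa using congrFun (congrFun h i) i

theorem det_eq_one {G : Type*} [Group G] {n : Type*} [Fintype n] [DecidableEq n] {R : Type*}
    [CommRing R] (f : G →* (Matrix n n R)ˣ) {x : G} (hx : x ∈ commutator G) : (f x).1.det = 1 := by
  let g : G →* Rˣ := (Units.map (detMonoidHom : Matrix n n R →* R)).comp f
  exact congrArg Units.val (Abelianization.commutator_subset_ker g hx : g x = 1)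

/-- A stem extension with kernel `3 × 4 × 4`. -/
theorem exists_cover (hω : ω * ω = 1 + ω) (hb : Function.Bijective (val4 ω))
    (hperf : commutator (ProjectiveSpecialLinearGroup (Fin 3) F) = ⊤) :
    ∃ (Γ : Type u) (_ : Group Γ) (_ : Finite Γ) (σ : Γ →* ProjectiveSpecialLinearGroup (Fin 3) F),
      Cfsg.IsStemExtension σ ∧ Nonempty (σ.ker ≃* Multiplicative (ZMod 3 × ZMod 4 × ZMod 4)) := by
  let p3 : W F →* SpecialLinearGroup (Fin 3) F :=
    (MonoidHom.snd _ _).comp (MonoidHom.snd _ _)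
  let π : ↥(Γ0 hω) →* ProjectiveSpecialLinearGroup (Fin 3) F :=
    ((QuotientGroup.mk' (Subgroup.center (SpecialLinearGroup (Fin 3) F))).comp p3).comp (Γ0 hω).subtype
  have hπ : Function.Surjective π := by
    intro y
    obtain ⟨g, rfl⟩ := QuotientGroup.mk'_surjective _ y
    have hS : π.range.comap (QuotientGroup.mk' (Subgroup.center (SpecialLinearGroup (Fin 3) F))) = ⊤ :=
      mem_of_transvecs hω hb _ (fun z hz => by
        rw [Subgroup.mem_comap, (QuotientGroup.eq_one_iff z).2 hz |> fun h =>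
          (show QuotientGroup.mk' (Subgroup.center (SpecialLinearGroup (Fin 3) F)) z = 1 from h)]
        exact one_mem _)
        fun i => ⟨⟨gen hω i, Subgroup.subset_closure ⟨i, rfl⟩⟩, rfl⟩
    exact hS.ge (Subgroup.mem_top g)
  -- the kernel consists of scalars
  have hker : ∀ x ∈ π.ker, ∃ (r r' : R9) (s : F),
      valW x.1 = (r • 1, r' • 1, s • 1) ∧ s ^ 3 = 1 := by
    intro x hx
    obtain ⟨s, hs, hse⟩ := Matrix.SpecialLinearGroup.mem_center_iff.1
      ((QuotientGroup.eq_one_iff _).1 (show QuotientGroup.mk' _ x.1.2.2 = 1 from hx))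
    obtain ⟨p, hp, hrel⟩ := exists_rel hω x.2
    simp only [Fintype.card_fin] at hs
    have hs0 : s ≠ 0 := fun h => by simp [h] at hs
    have hfix : ∀ k, p (P0 k) = P0 k := by
      intro k
      obtain ⟨j, hj, c, hc⟩ := hrel.1 k
      rw [← hse, scalar_apply] at hc
      obtain ⟨d, hd⟩ := hb.2 (s⁻¹ * c)
      have : k = j := points_distinct k j d fun i => hb.1 (by
        have hi : s * pv ω k i = c * pv ω j i := by
          have := congrFun hc i
          simpa [Matrix.mulVec_diagonal] using this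
        rw [val4_mul hω, hd]
        show pv ω k i = _ * pv ω j i
        rw [mul_assoc, ← hi, inv_mul_cancel_left₀ hs0])
      rw [hj, this]
    have hp1 : p = 1 := eq_one_of_fixes ops (fun _ h => absurd h List.not_mem_nil) chain_check p hp
      fun l hl => by
        have hb := bases_lt l hl
        have e : ops.pt l.base = P0 ⟨l.base, hb⟩ :=
          Fin.ext (by simp [ops, PackPerm.ops, P0, Nat.mod_eq_of_lt (show l.base < 133 by omega)])
        rw [e, Equiv.Perm.smul_def, hfix]
    subst hp1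
    obtain ⟨r, hr⟩ := scalar_of_fix (fun a b h => Fin.ext (by simpa [P1] using h)) hrel.2.1
    obtain ⟨r', hr'⟩ := scalar_of_fix (fun a b h => Fin.ext (by simpa [P2] using h)) hrel.2.2
    refine ⟨r, r', s, Prod.ext hr (Prod.ext hr' ?_), hs⟩
    show x.1.2.2.1 = _
    rw [← hse, scalar_apply]
    exact (smul_one_eq_diagonal s).symm
  have hcen : π.ker ≤ Subgroup.center ↥(Γ0 hω) := by
    intro x hx
    obtain ⟨r, r', s, e, -⟩ := hker x hx
    refine Subgroup.mem_center_iff.2 fun y => Subtype.ext (valW_injective ?_)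
    show valW (y.1 * x.1) = valW (x.1 * y.1)
    rw [map_mul, map_mul, e]
    refine Prod.ext ?_ (Prod.ext ?_ ?_) <;> simp
  have hperfΓ := CfsgLib.Schur.Tails.derived_perfect hperf hπ hcen
  let Γ := commutator ↥(Γ0 hω)
  let τ : ↥Γ →* ProjectiveSpecialLinearGroup (Fin 3) F := π.comp Γ.subtype
  have hτ : Function.Surjective τ := fun g => by
    obtain ⟨y, hy, e⟩ := (CfsgLib.Schur.Tails.commutator_mul_ker hperf hπ).ge (Subgroup.mem_top g)
    exact ⟨⟨y, hy⟩, e⟩
  have hτc : τ.ker ≤ Subgroup.center ↥Γ := fun x hx => Subgroup.mem_center_iff.2 fun y =>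
    Subtype.ext (Subgroup.mem_center_iff.1 (hcen (show π x.1 = 1 from hx)) y.1)
  -- determinants of the kernel
  have hdet : ∀ x : ↥Γ, (valW x.1.1).1.det = 1 ∧ (valW x.1.1).2.1.det = 1 := fun x =>
    ⟨det_eq_one ((MonoidHom.fst _ _).comp (Γ0 hω).subtype) x.2,
      det_eq_one (((MonoidHom.fst _ _).comp (MonoidHom.snd _ _)).comp (Γ0 hω).subtype) x.2⟩
  -- central elements
  have hsub : ∀ w : List ℕ, (∀ i ∈ w, i < 2) →
      ∃ y : ↥Γ, valW y.1.1 = mT ω (ev (subst w)) := by
    have hlet : ∀ i < 2, ∃ c : ↥Γ, c.1.1 = wordW hω (words.getD i []) := by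
      intro i hi
      have g : ∀ k : Fin 2, ∃ g : ↥(Γ0 hω), g.1 = gen hω k := fun k =>
        ⟨⟨_, Subgroup.subset_closure ⟨k, rfl⟩⟩, rfl⟩
      obtain ⟨g0, e0⟩ := g 0
      obtain ⟨g1, e1⟩ := g 1
      interval_cases i
      · refine ⟨⟨⁅g0, g1⁆, Subgroup.commutator_mem_commutator (Subgroup.mem_top _) (Subgroup.mem_top _)⟩, ?_⟩
        simp [words_eq, wordW, gLet, commutatorElement_def, e0, e1, mul_assoc]
      · refine ⟨⟨⁅g0, g1 * g1⁆, Subgroup.commutator_mem_commutator (Subgroup.mem_top _) (Subgroup.mem_top _)⟩, ?_⟩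
        simp [words_eq, wordW, gLet, commutatorElement_def, e0, e1, mul_assoc]
    have hw4 : ∀ i < 2, ∀ k ∈ words.getD i [], k < 4 := by
      intro i hi
      interval_cases i <;> simp [words_eq]
    intro w
    induction w with
    | nil => exact fun _ => ⟨1, by simp [subst, ev, mT_oneC]⟩
    | cons i w ih =>
      intro hw
      obtain ⟨y, hy⟩ := ih fun k hk => hw k (List.mem_cons_of_mem _ hk)
      obtain ⟨c, hc⟩ := hlet i (hw i List.mem_cons_self)
      refine ⟨c * y, ?_⟩
      have hlt : ∀ k ∈ subst (i :: w), k < 4 := by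
        intro k hk
        simp only [subst, List.mem_flatMap] at hk
        obtain ⟨a, ha, hka⟩ := hk
        exact hw4 a (hw a ha) k hka
      rw [← valW_word hω hlt, show subst (i :: w) = words.getD i [] ++ subst w by simp [subst],
        wordW, List.map_append, List.prod_append]
      show valW (c.1.1 * y.1.1) = _
      rw [map_mul, map_mul, hy, hc]
      congr 1
      refine (valW_word hω fun k hk => hlt k ?_).symm
      rw [show subst (i :: w) = words.getD i [] ++ subst w by simp [subst]]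
      exact List.mem_append.2 (.inr hk)
  have hmem : ∀ k < 3, ∀ i ∈ central.getD k [], i < 2 := by
    intro k _ i hi
    by_cases hlt : k < central.length
    · rw [List.getD_eq_getElem _ _ hlt] at hi
      exact central_lt _ (List.getElem_mem hlt) i hi
    · rw [List.getD_eq_default _ _ (by omega)] at hi
      exact absurd hi List.not_mem_nil
  obtain ⟨z0, hz0⟩ := hsub _ (hmem 0 (by norm_num))
  obtain ⟨z1, hz1⟩ := hsub _ (hmem 1 (by norm_num))
  obtain ⟨z2, hz2⟩ := hsub _ (hmem 2 (by norm_num))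
  obtain ⟨c0, c1, c2⟩ := central_eq
  rw [c0, val_scalC] at hz0
  rw [c1, val_scalC] at hz1
  rw [c2, val_scalC] at hz2
  have h91 : v9 3 = 1 := by decide
  have h41 : val4 ω (c4 1) = 1 := rfl
  have h4w : val4 ω (c4 2) = ω := rfl
  rw [h91, h41] at hz0 hz1
  rw [h91, h4w] at hz2
  let e : ↥Γ →* M F := valW.comp ((Γ0 hω).subtype.comp Γ.subtype)
  have he : Function.Injective e := fun x y h => Subtype.ext (Subtype.ext (valW_injective h))
  have hw3 : ω ^ 3 = 1 := by
    have h2 : (2 : F) = 0 := CharTwo.two_eq_zero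
    linear_combination (ω + 1) * hω + ω * h2
  have hpow : ∀ a : ZMod 3 × ZMod 4 × ZMod 4,
      e (z2 ^ a.1.val * z0 ^ a.2.1.val * z1 ^ a.2.2.val) = zTriple ω a := by
    intro a
    rw [map_mul, map_mul, map_pow, map_pow, map_pow, show e z0 = _ from hz0, show e z1 = _ from hz1,
      show e z2 = _ from hz2]
    refine Prod.ext ?_ (Prod.ext ?_ ?_) <;> simp [zTriple, smul_pow]
  have hkmem : ∀ z : ↥Γ, (∃ s : F, (e z).2.2 = s • 1 ∧ s ^ 3 = 1) → z ∈ τ.ker := by
    rintro z ⟨s, hs, hs3⟩
    show QuotientGroup.mk' _ z.1.1.2.2 = 1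
    refine (QuotientGroup.eq_one_iff _).2 (Matrix.SpecialLinearGroup.mem_center_iff.2
      ⟨s, by simpa using hs3, ?_⟩)
    rw [scalar_apply, ← smul_one_eq_diagonal]
    exact hs.symm
  let φ : ZMod 3 × ZMod 4 × ZMod 4 → τ.ker := fun a =>
    ⟨z2 ^ a.1.val * z0 ^ a.2.1.val * z1 ^ a.2.2.val, hkmem _ ⟨ω ^ a.1.val, by rw [hpow]; rfl,
      by rw [← pow_mul, mul_comm, pow_mul, hw3, one_pow]⟩⟩
  obtain ⟨iadd, iinj, isurj⟩ := pow_i_facts
  have wadd : ∀ a b : ZMod 3, ω ^ (a + b).val = ω ^ a.val * ω ^ b.val := fun a b => by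
    rw [← pow_add, ZMod.val_add, ← pow_eq_pow_mod _ hw3]
  have hφ : ∀ a, e (φ a).1 = zTriple ω a := hpow
  let φm : Multiplicative (ZMod 3 × ZMod 4 × ZMod 4) →* τ.ker :=
    MonoidHom.mk' (fun a => φ (Multiplicative.toAdd a)) fun a b => Subtype.ext (he (by
      show e (φ (Multiplicative.toAdd (a * b))).1 =
        e ((φ (Multiplicative.toAdd a)).1 * (φ (Multiplicative.toAdd b)).1)
      rw [hφ, toAdd_mul, e.map_mul, hφ, hφ]
      refine Prod.ext ?_ (Prod.ext ?_ ?_) <;> simp [zTriple, iadd, wadd, smul_smul, mul_comm]))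
  have hbij : Function.Bijective φm := by
    constructor
    · intro a b h
      have h' := congrArg (fun z : τ.ker => e z.1) h
      simp only [φm, MonoidHom.mk'_apply, hφ] at h'
      have h0 := smul_one_inj (congrArg (fun z : M F => z.2.2) h')
      have h1 := iinj _ _ (smul_one_inj (congrArg Prod.fst h'))
      have h2 := iinj _ _ (smul_one_inj (congrArg (fun z : M F => z.2.1) h'))
      refine Multiplicative.toAdd.injective (Prod.ext ?_ (Prod.ext h1 h2))
      have hw0 : ω ≠ 0 := fun h => by simp [h] at hω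
      have hw1 : ω ≠ 1 := fun h => by
        have := hb.1 (a₁ := (1 : Fin 4)) (a₂ := 2) (by simp [val4, h])
        exact absurd this (by decide)
      have : ∀ x y : Fin 3, ω ^ x.val = ω ^ y.val → x = y := by
        have hw2 : ω ^ 2 ≠ 1 := fun h => hw1 (by
          calc ω = ω ^ 3 * ω := by rw [hw3, one_mul]
            _ = (ω ^ 2) ^ 2 := by ring
            _ = 1 := by rw [h, one_pow])
        have hw21 : ω ^ 2 ≠ ω := fun h => hw1 (mul_left_cancel₀ hw0 (by rw [mul_one, ← pow_two, h]))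
        intro x y
        fin_cases x <;> fin_cases y <;>
          simp [hw1, Ne.symm hw1, hw2, Ne.symm hw2, hw21, Ne.symm hw21]
      exact this _ _ h0
    · intro x
      obtain ⟨r, r', s, hx, hs⟩ := hker x.1.1 x.2
      obtain ⟨hd, hd'⟩ := hdet x.1
      rw [hx] at hd hd'
      simp only [det_smul, det_one, mul_one, Fintype.card_fin] at hd hd'
      obtain ⟨j, rfl⟩ := isurj r hd
      obtain ⟨k, rfl⟩ := isurj r' hd'
      obtain ⟨i, rfl⟩ : ∃ i : ZMod 3, s = ω ^ i.val := by
        obtain ⟨d, rfl⟩ := hb.2 s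
        fin_cases d
        · simp [val4] at hs
        · exact ⟨0, by simp [val4]⟩
        · exact ⟨1, by simp [val4, ZMod.val_one]⟩
        · exact ⟨2, by simp [val4, show (2 : ZMod 3).val = 2 from rfl, pow_two, hω]⟩
      refine ⟨Multiplicative.ofAdd (i, j, k), Subtype.ext (he ?_)⟩
      exact (hφ _).trans hx.symm
  exact ⟨↥Γ, inferInstance, inferInstance, τ, ⟨hτ, hτc, hperfΓ.ge.trans' le_top⟩,
    ⟨(MulEquiv.ofBijective φm hbij).symm⟩⟩

omit [CharP F 2] in
/-- The field is the tabulated one. -/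
theorem exists_omega (hF : Fintype.card F = 4) :
    CharP F 2 ∧ ∃ ω : F, ω * ω = 1 + ω ∧ Function.Bijective (val4 ω) := by
  have h2 : (2 : F) = 0 := CfsgLib.Classical.PSL34.two_eq_zero hF
  obtain ⟨w, hw0, hw1, hall⟩ := CfsgLib.Schur.L34.exists_omega hF
  have h3 : w ^ 3 = 1 := by
    have := FiniteField.pow_card_sub_one_eq_one w hw0
    rwa [hF] at this
  have hω : w * w = 1 + w := by
    have hq : (w - 1) * (w * w + w + 1) = 0 := by linear_combination h3
    linear_combination (mul_eq_zero.1 hq).resolve_left (sub_ne_zero.2 hw1) - (1 + w) * h2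
  refine ⟨CharTwo.of_one_ne_zero_of_two_eq_zero one_ne_zero h2, w, hω, ?_⟩
  refine (Fintype.bijective_iff_surjective_and_card _).2 ⟨fun a => ?_, by simp [hF]⟩
  rcases hall a with rfl | rfl | rfl | rfl
  exacts [⟨0, rfl⟩, ⟨1, rfl⟩, ⟨2, rfl⟩, ⟨3, rfl⟩]

end CfsgLib.Schur.L34Data
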