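import Cfsg.Agent.Lib.Schur.Hopf
import Mathlib

/-!
Schur multipliers of metacyclic groups: a concrete model and the bound for stem extensions.
-/

namespace CfsgLib.Schur

open Subgroup
open scoped commutatorElement

namespace Meta

variable {M : ℕ}

/-- Multiplication by a unit. -/
def mulBy (u : (ZMod M)ˣ) : MulAut (Multiplicative (ZMod M)) where
  toFun x := Multiplicative.ofAdd ((u : ZMod M) * x.toAdd)
  invFun x := Multiplicative.ofAdd (((u⁻¹ : (ZMod M)ˣ) : ZMod M) * x.toAdd)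
  left_inv x := by simp [← mul_assoc]
  right_inv x := by simp [← mul_assoc]
  map_mul' x y := by simp [mul_add]

/-- The model `⟨A, B : A^M = 1, B^n = A^t, B A B⁻¹ = A^r⟩`. -/
theorem exists_model (M n r t : ℕ) [NeZero M] (hn : 0 < n) (hrn : r ^ n ≡ 1 [MOD M])
    (hrt : r * t ≡ t [MOD M]) :
    ∃ (Γ : Type) (_ : Group Γ) (_ : Finite Γ) (A B : Γ),
      A ^ M = 1 ∧ B ^ n = A ^ t ∧ B * A * B⁻¹ = A ^ r ∧
      (∀ g : Γ, ∃ i j : ℕ, j < n ∧ g = A ^ i * B ^ j) ∧
      (∀ i j : ℕ, j < n → A ^ i * B ^ j = 1 → j = 0 ∧ M ∣ i) ∧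
      ∀ (H : Type) [Group H] (a b : H), a ^ M = 1 → b ^ n = a ^ t → b * a * b⁻¹ = a ^ r →
        ∃ f : Γ →* H, f A = a ∧ f B = b := by
  obtain ⟨u, hu⟩ : ∃ u : (ZMod M)ˣ, (u : ZMod M) = r := by
    have h1 : ((r : ZMod M)) ^ n = 1 := by
      rw [← Nat.cast_pow, ← Nat.cast_one, ZMod.natCast_eq_natCast_iff]; exact hrn
    exact ⟨Units.ofPowEqOne _ n h1 hn.ne', rfl⟩
  have hun : (u : ZMod M) ^ n = 1 := by
    rw [hu, ← Nat.cast_pow, ← Nat.cast_one, ZMod.natCast_eq_natCast_iff]; exact hrn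
  set S := Multiplicative (ZMod M) ⋊[zpowersHom (MulAut (Multiplicative (ZMod M))) (mulBy u)] Multiplicative ℤ
  set A₀ : S := SemidirectProduct.inl (Multiplicative.ofAdd 1)
  set B₀ : S := SemidirectProduct.inr (Multiplicative.ofAdd 1)
  have hA : ∀ k : ℕ, A₀ ^ k = SemidirectProduct.inl (Multiplicative.ofAdd (k : ZMod M)) := fun k => by
    rw [← map_pow, ← ofAdd_nsmul, nsmul_one]
  have hB : ∀ k : ℕ, B₀ ^ k = SemidirectProduct.inr (Multiplicative.ofAdd (k : ℤ)) := fun k => by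
    rw [← map_pow, ← ofAdd_nsmul, nsmul_one]
  have hconj : ∀ (k : ℕ), B₀ * A₀ ^ k * B₀⁻¹ = A₀ ^ (r * k) := fun k => by
    rw [hA, hA, ← map_inv, ← SemidirectProduct.inl_aut, Nat.cast_mul, ← hu]
    congr 1
  have hconj' : ∀ (j k : ℕ), B₀ ^ j * A₀ ^ k * (B₀ ^ j)⁻¹ = A₀ ^ (r ^ j * k) := by
    intro j
    induction j with
    | zero => intro k; simp
    | succ j ih =>
      intro k
      rw [pow_succ', mul_inv_rev]
      calc B₀ * B₀ ^ j * A₀ ^ k * ((B₀ ^ j)⁻¹ * B₀⁻¹) = B₀ * (B₀ ^ j * A₀ ^ k * (B₀ ^ j)⁻¹) * B₀⁻¹ := by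
            group
        _ = _ := by rw [ih, hconj, pow_succ' r, mul_assoc]
  have hAM : ∀ i j : ℕ, i ≡ j [MOD M] → A₀ ^ i = A₀ ^ j := fun i j h => by
    rw [hA, hA, (ZMod.natCast_eq_natCast_iff _ _ _).2 h]
  set w := (A₀ ^ t)⁻¹ * B₀ ^ n
  have hwA : Commute w A₀ := by
    have h1 : B₀ ^ n * A₀ * (B₀ ^ n)⁻¹ = A₀ := by
      have h := hconj' n 1
      rw [pow_one, mul_one, hAM _ _ hrn, pow_one] at h
      exact h
    exact ((Commute.refl A₀).pow_left t).inv_left.mul_left (mul_inv_eq_iff_eq_mul.1 h1)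
  have hwB : Commute w B₀ := by
    have h1 : B₀ * A₀ ^ t * B₀⁻¹ = A₀ ^ t := by rw [hconj, hAM _ _ hrt]
    have h1' : Commute B₀ (A₀ ^ t) := mul_inv_eq_iff_eq_mul.1 h1
    exact h1'.symm.inv_left.mul_left ((Commute.refl B₀).pow_left n)
  have hgen : ∀ g : S, ∃ (i : ℕ) (j : ℤ), g = A₀ ^ i * B₀ ^ j := fun g => by
    refine ⟨(Multiplicative.toAdd g.left).val, Multiplicative.toAdd g.right, ?_⟩
    rw [hA, ← map_zpow, ← ofAdd_zsmul, smul_eq_mul, mul_one, ZMod.natCast_zmod_val, ofAdd_toAdd,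
      ofAdd_toAdd, SemidirectProduct.inl_left_mul_inr_right]
  haveI hN : (zpowers w).Normal := ⟨fun x hx g => by
    obtain ⟨i, j, rfl⟩ := hgen g
    obtain ⟨k, rfl⟩ := hx
    have : Commute (A₀ ^ i * B₀ ^ j) (w ^ k) :=
      ((hwA.symm.pow_left i).mul_left (hwB.symm.zpow_left j)).zpow_right k
    rw [this.eq, mul_inv_cancel_right]
    exact ⟨k, rfl⟩⟩
  set π := QuotientGroup.mk' (zpowers w)
  have hBn : π B₀ ^ n = π A₀ ^ t := by
    have hc : π ((A₀ ^ t)⁻¹ * B₀ ^ n) = 1 := (QuotientGroup.eq_one_iff _).2 (mem_zpowers w)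
    rw [map_mul π, map_inv π, map_pow π A₀ t, map_pow π B₀ n] at hc
    exact (inv_mul_eq_one.1 hc).symm
  have hAM' : π A₀ ^ M = 1 := by
    rw [← map_pow, hAM M 0 ((Nat.modEq_zero_iff_dvd).2 dvd_rfl), pow_zero, map_one]
  have hBA : π B₀ * π A₀ * (π B₀)⁻¹ = π A₀ ^ r := by
    rw [← map_inv, ← map_mul, ← map_mul, ← map_pow]
    have h := hconj 1
    rw [pow_one, mul_one] at h
    rw [h]
  have hnorm : ∀ g : S ⧸ zpowers w, ∃ i j : ℕ, j < n ∧ g = π A₀ ^ i * π B₀ ^ j := by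
    intro g
    obtain ⟨g, rfl⟩ := QuotientGroup.mk'_surjective (zpowers w) g
    obtain ⟨i, j, rfl⟩ := hgen g
    obtain ⟨q, s, hs, rfl⟩ : ∃ (q : ℤ) (s : ℕ), s < n ∧ j = (n : ℤ) * q + s :=
      ⟨j / n, (j % n).toNat, by
        have := Int.emod_lt_of_pos j (show (0 : ℤ) < n by exact_mod_cast hn)
        have := Int.emod_nonneg j (show (n : ℤ) ≠ 0 by exact_mod_cast hn.ne')
        omega, by
        rw [Int.toNat_of_nonneg (Int.emod_nonneg _ (by exact_mod_cast hn.ne'))]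
        exact (Int.mul_ediv_add_emod j n).symm⟩
    refine ⟨(i + ((t : ℤ) * q % M).toNat), s, hs, ?_⟩
    have h1 : π A₀ ^ ((t : ℤ) * q) = π A₀ ^ (((t : ℤ) * q % M).toNat) := by
      rw [← zpow_natCast (π A₀) (((t : ℤ) * q % M).toNat),
        Int.toNat_of_nonneg (Int.emod_nonneg _ (by exact_mod_cast (NeZero.ne M)))]
      conv_lhs => rw [← Int.mul_ediv_add_emod ((t : ℤ) * q) M, zpow_add, zpow_mul, zpow_natCast, hAM',
        one_zpow, one_mul]
    show π (A₀ ^ i * B₀ ^ ((n : ℤ) * q + s)) = _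
    rw [map_mul, map_zpow, zpow_add, zpow_mul, zpow_natCast, hBn, ← zpow_natCast (π A₀) t, ← zpow_mul,
      h1, zpow_natCast, ← mul_assoc, map_pow, ← pow_add]
  have hfin : Finite (S ⧸ zpowers w) := by
    refine Finite.of_surjective (fun z : Fin M × Fin n => π A₀ ^ (z.1 : ℕ) * π B₀ ^ (z.2 : ℕ)) ?_
    intro g
    obtain ⟨i, j, hj, rfl⟩ := hnorm g
    refine ⟨(⟨i % M, Nat.mod_lt _ (Nat.pos_of_ne_zero (NeZero.ne M))⟩, ⟨j, hj⟩), ?_⟩
    show π A₀ ^ (i % M) * π B₀ ^ j = π A₀ ^ i * π B₀ ^ j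
    conv_rhs => rw [← Nat.div_add_mod i M, pow_add, pow_mul, hAM', one_pow, one_mul]
  refine ⟨S ⧸ zpowers w, inferInstance, hfin, π A₀, π B₀, hAM', hBn, hBA, hnorm, ?_, ?_⟩
  · intro i j hj h
    rw [← map_pow π A₀ i, ← map_pow π B₀ j, ← map_mul π] at h
    obtain ⟨k, hk : w ^ k = A₀ ^ i * B₀ ^ j⟩ := (QuotientGroup.eq_one_iff _).1 h
    have hr : (n : ℤ) * k = j := by
      have h1 := congrArg (SemidirectProduct.rightHom : S →* Multiplicative ℤ) hk
      rw [map_zpow, map_mul, map_inv, hA, hA, hB, hB, map_mul, SemidirectProduct.rightHom_inl,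
        SemidirectProduct.rightHom_inl, SemidirectProduct.rightHom_inr, SemidirectProduct.rightHom_inr,
        inv_one, one_mul, one_mul, ← ofAdd_zsmul] at h1
      have := Multiplicative.ofAdd.injective h1
      rw [smul_eq_mul] at this
      linarith
    have hk0 : k = 0 := by
      rcases lt_trichotomy k 0 with h0 | h0 | h0
      · exfalso
        have h2 : (n : ℤ) * k < 0 := mul_neg_of_pos_of_neg (by exact_mod_cast hn) h0
        omega
      · exact h0
      · exfalso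
        have h2 : (n : ℤ) * 1 ≤ (n : ℤ) * k := mul_le_mul_of_nonneg_left h0 (by positivity)
        omega
    have hj0 : j = 0 := by rw [hk0, mul_zero] at hr; exact_mod_cast hr.symm
    refine ⟨hj0, ?_⟩
    rw [hk0, zpow_zero, hj0, pow_zero, mul_one, hA] at hk
    have h3 : Multiplicative.ofAdd ((i : ZMod M)) = 1 :=
      SemidirectProduct.inl_injective (hk.symm.trans (map_one _).symm)
    exact (ZMod.natCast_eq_zero_iff _ _).1 (Multiplicative.ofAdd.injective (h3.trans ofAdd_zero.symm))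
  · intro H _ a b ha hb hab
    let fa : Multiplicative (ZMod M) →* H :=
      { toFun := fun x => a ^ x.toAdd.val
        map_one' := by simp
        map_mul' := fun x y => by
          rw [← pow_add, toAdd_mul, ZMod.val_add]
          conv_rhs => rw [← Nat.div_add_mod (x.toAdd.val + y.toAdd.val) M, pow_add, pow_mul, ha, one_pow,
            one_mul] }
    let fb : Multiplicative ℤ →* H := zpowersHom H b
    have hfa : ∀ k : ℕ, fa (Multiplicative.ofAdd (k : ZMod M)) = a ^ k := fun k => by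
      show a ^ ((k : ZMod M)).val = a ^ k
      rw [ZMod.val_natCast]
      conv_rhs => rw [← Nat.div_add_mod k M, pow_add, pow_mul, ha, one_pow, one_mul]
    have hcomp : ∀ g, fa.comp ((zpowersHom _ (mulBy u)) g).toMonoidHom =
        (MulAut.conj (fb g)).toMonoidHom.comp fa := by
      have hbase : ∀ x, fa (mulBy u x) = b * fa x * b⁻¹ := fun x => by
        obtain ⟨k, hk⟩ : ∃ k : ℕ, x = Multiplicative.ofAdd (k : ZMod M) :=
          ⟨x.toAdd.val, by rw [ZMod.natCast_zmod_val, ofAdd_toAdd]⟩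
        subst hk
        rw [hfa, show mulBy u (Multiplicative.ofAdd (k : ZMod M)) =
          Multiplicative.ofAdd (((r * k : ℕ) : ZMod M)) by simp [mulBy, hu], hfa, pow_mul, ← hab, conj_pow]
      intro g
      obtain ⟨k, rfl⟩ := Multiplicative.ofAdd.surjective g
      refine MonoidHom.ext fun x => ?_
      show fa (((mulBy u) ^ k) x) = b ^ k * fa x * (b ^ k)⁻¹
      induction k using Int.induction_on generalizing x with
      | zero => simp
      | succ k ih =>
        rw [zpow_add_one, MulAut.mul_apply, ih, hbase, zpow_add_one]; group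
      | pred k ih =>
        rw [zpow_sub_one, MulAut.mul_apply, ih]
        have h := hbase ((mulBy u)⁻¹ x)
        rw [MulAut.apply_inv_self] at h
        rw [h, zpow_sub_one]; group
    set f₀ : S →* H := SemidirectProduct.lift fa fb hcomp
    have hfA : f₀ A₀ = a := by
      show f₀ (SemidirectProduct.inl _) = a
      rw [SemidirectProduct.lift_inl]
      have := hfa 1
      rwa [Nat.cast_one, pow_one] at this
    have hfB : f₀ B₀ = b := by
      show f₀ (SemidirectProduct.inr _) = b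
      rw [SemidirectProduct.lift_inr]
      simp [fb]
    have hker : zpowers w ≤ f₀.ker := by
      rw [zpowers_le, MonoidHom.mem_ker, map_mul, map_inv, map_pow, map_pow, hfA, hfB, hb, inv_mul_cancel]
    exact ⟨QuotientGroup.lift (zpowers w) f₀ hker, hfA, hfB⟩

/-- The kernel of a stem extension of a metacyclic group is cyclic, with the expected bounds. -/
theorem stem_ker_bound {m n r t S : ℕ} (hr : 0 < r) (hm : 0 < m)
    (hS : (r - 1) * S + 1 = r ^ n) (hSdef : S = ∑ i ∈ Finset.range n, r ^ i)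
    {G : Type*} [Group G] (a b : G) (hgen : closure {a, b} = ⊤)
    (ha : a ^ m = 1) (hb : b ^ n = a ^ t) (hab : b * a * b⁻¹ = a ^ r) (hao : orderOf a = m)
    {Γ : Type*} [Group Γ] (σ : Γ →* G) (hσ : Cfsg.IsStemExtension σ) :
    ∃ c : Γ, c ^ m = 1 ∧ c ^ t = 1 ∧ c ^ S = 1 ∧ σ.ker ≤ zpowers (c ^ (m / Nat.gcd m (r - 1))) := by
  obtain ⟨hsurj, hcen, hcomm⟩ := hσ
  obtain ⟨A, rfl⟩ := hsurj a
  obtain ⟨B, rfl⟩ := hsurj b
  have hcz : ∀ {z : Γ}, σ z = 1 → ∀ g, Commute g z := fun hz g => mem_center_iff.1 (hcen hz) g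
  set x := A ^ m with hx
  have hxk : σ x = 1 := by rw [hx, map_pow, ha]
  set z := B * A * B⁻¹ * (A ^ r)⁻¹ with hz
  have hzk : σ z = 1 := by
    rw [hz, map_mul, map_mul, map_mul, map_inv, map_inv, map_pow, hab, mul_inv_cancel]
  set y := B ^ n * (A ^ t)⁻¹ with hy
  have hyk : σ y = 1 := by rw [hy, map_mul, map_inv, map_pow, map_pow, hb, mul_inv_cancel]
  have hBA : B * A * B⁻¹ = z * A ^ r := by rw [hz]; group
  have hBAk : ∀ k : ℕ, B * A ^ k * B⁻¹ = z ^ k * A ^ (r * k) := fun k => by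
    rw [← conj_pow, hBA, (hcz hzk (A ^ r)).symm.mul_pow, pow_mul]
  set c := z * A ^ (r - 1) with hc
  have hck : ∀ k, c ^ k = z ^ k * A ^ ((r - 1) * k) := fun k => by
    rw [hc, (hcz hzk _).symm.mul_pow, pow_mul]
  have hbc : B * c * B⁻¹ = c ^ r := by
    rw [hck]
    calc B * (z * A ^ (r - 1)) * B⁻¹ = (B * z) * A ^ (r - 1) * B⁻¹ := by group
      _ = z * (B * A ^ (r - 1) * B⁻¹) := by rw [(hcz hzk B).eq]; group
      _ = z * (z ^ (r - 1) * A ^ (r * (r - 1))) := by rw [hBAk]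
      _ = z ^ r * A ^ ((r - 1) * r) := by
          rw [← mul_assoc, ← pow_succ', Nat.sub_add_cancel hr, mul_comm r]
  have hcm : c ^ m = 1 := by
    rw [hck]
    have h1 : x = z ^ m * A ^ (r * m) := by
      rw [← hBAk, ← hx, ((hcz hxk B)).eq, mul_inv_cancel_right]
    have h2 : A ^ (r * m) = A ^ m * A ^ ((r - 1) * m) := by
      rw [← pow_add]; congr 1
      rw [Nat.sub_mul, one_mul, Nat.add_sub_cancel' (Nat.le_mul_of_pos_left _ hr)]
    rw [h2, ← hx, ← mul_assoc, ← (hcz hxk (z ^ m)).eq.symm, mul_assoc] at h1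
    exact (mul_eq_left.1 h1.symm)
  have hct : c ^ t = 1 := by
    rw [hck]
    have h1 : B * A ^ t * B⁻¹ = A ^ t := by
      have h3 : A ^ t = y⁻¹ * B ^ n := by rw [hy]; group
      have h4 : Commute B (A ^ t) := by
        rw [h3]; exact ((hcz hyk B).inv_right).mul_right ((Commute.refl B).pow_right n)
      rw [h4.eq, mul_inv_cancel_right]
    rw [hBAk] at h1
    have h2 : A ^ (r * t) = A ^ ((r - 1) * t) * A ^ t := by
      rw [← pow_add]; congr 1
      rw [Nat.sub_mul, one_mul, Nat.sub_add_cancel (Nat.le_mul_of_pos_left _ hr)]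
    rw [h2, ← mul_assoc] at h1
    exact mul_eq_right.1 h1
  have hcS : c ^ S = 1 := by
    have hiter : ∀ j, B ^ j * A * (B ^ j)⁻¹ = z ^ (∑ i ∈ Finset.range j, r ^ i) * A ^ (r ^ j) := by
      intro j
      induction j with
      | zero => simp
      | succ j ih =>
        calc B ^ (j + 1) * A * (B ^ (j + 1))⁻¹ = B * (B ^ j * A * (B ^ j)⁻¹) * B⁻¹ := by
              rw [pow_succ']; group
          _ = (B * z ^ (∑ i ∈ Finset.range j, r ^ i)) * A ^ (r ^ j) * B⁻¹ := by rw [ih]; group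
          _ = z ^ (∑ i ∈ Finset.range j, r ^ i) * (B * A ^ (r ^ j) * B⁻¹) := by
              rw [((hcz hzk B).pow_right _).eq]; group
          _ = _ := by
              rw [hBAk, ← mul_assoc, ← pow_add, Finset.sum_range_succ, ← pow_succ']
    have h1 : B ^ n * A * (B ^ n)⁻¹ = A := by
      have h3 : B ^ n = y * A ^ t := by rw [hy]; group
      have h4 : Commute (B ^ n) A := by
        rw [h3]; exact ((hcz hyk A).symm).mul_left ((Commute.refl A).pow_left t)
      rw [h4.eq, mul_inv_cancel_right]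
    rw [hiter, ← hSdef, ← hS, pow_succ, ← mul_assoc, ← hck] at h1
    exact mul_eq_right.1 h1
  -- the derived subgroup is generated by `c`
  have hgenΓ : ∀ g : Γ, ∃ h ∈ closure {A, B}, ∃ k, σ k = 1 ∧ g = h * k := by
    intro g
    have : σ g ∈ (closure {A, B}).map σ := by
      rw [MonoidHom.map_closure, Set.image_pair, hgen]; exact mem_top _
    obtain ⟨h, hh, hhg⟩ := this
    exact ⟨h, hh, h⁻¹ * g, by rw [map_mul, map_inv, hhg, inv_mul_cancel], by group⟩
  have hAc : A * c * A⁻¹ = c := by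
    rw [hc]
    calc A * (z * A ^ (r - 1)) * A⁻¹ = (A * z) * A ^ (r - 1) * A⁻¹ := by group
      _ = _ := by rw [(hcz hzk A).eq]; group
  haveI hN : (zpowers c).Normal := by
    haveI : Finite (zpowers c : Set Γ) :=
      ((isOfFinOrder_iff_pow_eq_one.2 ⟨m, hm, hcm⟩).finite_zpowers).to_subtype
    rw [← normalizer_eq_top_iff, eq_top_iff]
    intro g _
    obtain ⟨h, hh, k, hk, rfl⟩ := hgenΓ g
    refine mul_mem ((closure_le _).2 ?_ hh) ?_
    · rintro u (rfl | rfl) <;> refine mem_normalizer_fintype ?_ <;> rintro _ ⟨e, rfl⟩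
      · exact ⟨e, by show c ^ e = _; rw [← conj_zpow, hAc]⟩
      · exact ⟨(r : ℤ) * e, by show c ^ ((r : ℤ) * e) = _; rw [← conj_zpow, hbc, zpow_mul, zpow_natCast]⟩
    · refine mem_normalizer_fintype ?_
      intro u hu
      rwa [(hcz hk u).eq.symm, mul_inv_cancel_right]
  have hder : commutator Γ ≤ zpowers c := by
    refine Subgroup.Normal.quotient_commutative_iff_commutator_le.1 ⟨⟨fun u v => ?_⟩⟩
    set q := QuotientGroup.mk' (zpowers c)
    have hAB : q B * q A = q A * q B := by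
      have h7 : B * A = c * A * B := by
        have : B * A * B⁻¹ = c * A := by
          rw [hBA, show A ^ r = A ^ (r - 1) * A by rw [← pow_succ, Nat.sub_add_cancel hr], ← mul_assoc]
        calc B * A = B * A * B⁻¹ * B := by group
          _ = _ := by rw [this]
      rw [← map_mul q B A, h7, map_mul q (c * A) B, map_mul q c A,
        show q c = 1 from (QuotientGroup.eq_one_iff c).2 (mem_zpowers c), one_mul]
    have hcen' : ∀ w ∈ closure {A, B}, ∀ v ∈ closure {A, B}, Commute (q w) (q v) := by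
      intro w hw v hv
      have h1 : closure {A, B} ≤ (centralizer ((({A, B} : Set Γ).image q))).comap q := by
        rw [closure_le]
        rintro u (rfl | rfl) <;>
          refine mem_centralizer_iff.2 ?_ <;> rintro _ ⟨u', (rfl | rfl), rfl⟩
        · rfl
        · exact hAB
        · exact hAB.symm
        · rfl
      have h2 : q '' ({A, B} : Set Γ) ⊆ (centralizer ({q w} : Set _) : Set _) := by
        intro u hu
        exact mem_centralizer_singleton_iff.2 (mem_centralizer_iff.1 (h1 hw) u hu)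
      have h3 : closure {A, B} ≤ (centralizer ({q w} : Set _)).comap q :=
        (closure_le _).2 fun u hu => h2 ⟨u, hu, rfl⟩
      exact (mem_centralizer_singleton_iff.1 (h3 hv)).symm
    obtain ⟨u', rfl⟩ := QuotientGroup.mk_surjective u
    obtain ⟨v', rfl⟩ := QuotientGroup.mk_surjective v
    obtain ⟨h₁, hh₁, k₁, hk₁, rfl⟩ := hgenΓ u'
    obtain ⟨h₂, hh₂, k₂, hk₂, rfl⟩ := hgenΓ v'
    show q (h₁ * k₁) * q (h₂ * k₂) = q (h₂ * k₂) * q (h₁ * k₁)
    have e1 : ∀ w : Γ, Commute (q w) (q k₁) := fun w => (hcz hk₁ w).map q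
    have e2 : ∀ w : Γ, Commute (q w) (q k₂) := fun w => (hcz hk₂ w).map q
    rw [map_mul, map_mul]
    exact (((hcen' _ hh₁ _ hh₂).mul_right (e2 h₁)).mul_left
      ((e1 h₂).symm.mul_right (e2 k₁))).eq
  refine ⟨c, hcm, hct, hcS, fun k hk => ?_⟩
  obtain ⟨i, rfl⟩ := hder (hcomm hk)
  set g := Nat.gcd m (r - 1) with hg
  have hσc : σ c = σ A ^ (r - 1) := by rw [hc, map_mul, hzk, one_mul, map_pow]
  have hk' : σ A ^ (((r - 1 : ℕ) : ℤ) * i) = 1 := by
    rw [zpow_mul, zpow_natCast, ← hσc, ← map_zpow]; exact hk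
  rw [← orderOf_dvd_iff_zpow_eq_one, hao] at hk'
  obtain ⟨r₁, hr₁⟩ := Nat.gcd_dvd_right m (r - 1)
  obtain ⟨m₁, hm₁⟩ := Nat.gcd_dvd_left m (r - 1)
  rw [← hg] at hr₁ hm₁
  have hg0 : 0 < g := Nat.gcd_pos_of_pos_left _ hm
  have hmg : m / g = m₁ := Nat.div_eq_of_eq_mul_right hg0 hm₁
  have hcop : Nat.Coprime m₁ r₁ := by
    have h1 : g * Nat.gcd m₁ r₁ = g * 1 := by rw [← Nat.gcd_mul_left, ← hm₁, ← hr₁, mul_one, hg]
    exact Nat.eq_of_mul_eq_mul_left hg0 h1
  have hdvd : (m₁ : ℤ) ∣ i := by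
    rw [hm₁, hr₁] at hk'
    push_cast at hk'
    rw [mul_assoc] at hk'
    exact (Int.isCoprime_iff_nat_coprime.2 (by simpa using hcop)).dvd_of_dvd_mul_left
      (Int.dvd_of_mul_dvd_mul_left (by exact_mod_cast hg0.ne') hk')
  obtain ⟨e, rfl⟩ := hdvd
  refine ⟨e, ?_⟩
  show (c ^ (m / g)) ^ e = c ^ ((m₁ : ℤ) * e)
  rw [hmg, zpow_mul, zpow_natCast]

end Meta

end CfsgLib.Schur
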