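import Cfsg.Agent.Lib.Schur.Hopf
import Mathlib

/-!
The Schur multiplier of a direct product.
-/

namespace CfsgLib.Schur

open Subgroup
open scoped commutatorElement TensorProduct

universe u v w

/-- If `σ ∘ Φ` is surjective and `σ` is a stem extension, its kernel consists of images of products of
commutators. -/
theorem ker_le_map_commutator {E : Type u} {Γ : Type v} {Q : Type w} [Group E] [Group Γ] [Group Q]
    {σ : Γ →* Q} (hσ : Cfsg.IsStemExtension σ) (Φ : E →* Γ) (hΦ : Function.Surjective (σ.comp Φ)) :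
    σ.ker ≤ (commutator E).map Φ := by
  refine le_trans hσ.2.2 ?_
  rw [_root_.commutator_def Γ, commutator_le]
  intro a _ b _
  have key : ∀ c : Γ, ∃ z ∈ center Γ, ∃ e, c = z * Φ e := fun c => by
    obtain ⟨e, he⟩ := hΦ (σ c)
    refine ⟨c * (Φ e)⁻¹, hσ.2.1 ?_, e, by group⟩
    rw [MonoidHom.mem_ker, map_mul, map_inv, ← MonoidHom.comp_apply, he, mul_inv_cancel]
  obtain ⟨z, hz, e, rfl⟩ := key a
  obtain ⟨w, hw, f, rfl⟩ := key b
  refine ⟨⁅e, f⁆, commutator_mem_commutator (mem_top e) (mem_top f), ?_⟩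
  rw [map_commutatorElement, commutatorElement_def, commutatorElement_def]
  calc Φ e * Φ f * (Φ e)⁻¹ * (Φ f)⁻¹ = (z * w) * (Φ e * Φ f * (Φ e)⁻¹ * (Φ f)⁻¹) * (z * w)⁻¹ := by
        rw [← mem_center_iff.1 (mul_mem hz hw), mul_inv_cancel_right]
    _ = z * (w * Φ e) * Φ f * (Φ e)⁻¹ * (Φ f)⁻¹ * w⁻¹ * z⁻¹ := by group
    _ = z * (Φ e * w) * Φ f * (Φ e)⁻¹ * (w * Φ f)⁻¹ * z⁻¹ := by rw [← mem_center_iff.1 hw (Φ e)]; group
    _ = z * Φ e * (w * Φ f) * (Φ e)⁻¹ * ((w * Φ f)⁻¹ * z⁻¹) := by group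
    _ = z * Φ e * (w * Φ f) * (Φ e)⁻¹ * (z⁻¹ * (w * Φ f)⁻¹) := by
        rw [mem_center_iff.1 (inv_mem hz) (w * Φ f)⁻¹]
    _ = z * Φ e * (w * Φ f) * (z * Φ e)⁻¹ * (w * Φ f)⁻¹ := by group

variable {E₁ : Type u} {E₂ : Type v} [Group E₁] [Group E₂] {M₁ M₂ : Type*} [AddCommGroup M₁]
  [AddCommGroup M₂]

/-- The central extension of `E₁ × E₂` by `M₁ ⊗ M₂` given by two additive characters. -/
@[ext] structure TwProd (h₁ : Additive E₁ →+ M₁) (h₂ : Additive E₂ →+ M₂) where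
  /-- first coordinate -/
  fst : E₁
  /-- second coordinate -/
  snd : E₂
  /-- central coordinate -/
  t : M₁ ⊗[ℤ] M₂

namespace TwProd

variable {h₁ : Additive E₁ →+ M₁} {h₂ : Additive E₂ →+ M₂}

/-- The bilinear cocycle. -/
def beta (h₁ : Additive E₁ →+ M₁) (h₂ : Additive E₂ →+ M₂) (a : E₁) (b : E₂) : M₁ ⊗[ℤ] M₂ :=
  h₁ (Additive.ofMul a) ⊗ₜ[ℤ] h₂ (Additive.ofMul b)

theorem beta_mul_left (a a' : E₁) (b : E₂) :
    beta h₁ h₂ (a * a') b = beta h₁ h₂ a b + beta h₁ h₂ a' b := by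
  simp [beta, ofMul_mul, TensorProduct.add_tmul]

theorem beta_mul_right (a : E₁) (b b' : E₂) :
    beta h₁ h₂ a (b * b') = beta h₁ h₂ a b + beta h₁ h₂ a b' := by
  simp [beta, ofMul_mul, TensorProduct.tmul_add]

theorem beta_one_left (b : E₂) : beta h₁ h₂ 1 b = 0 := by simp [beta]

theorem beta_one_right (a : E₁) : beta h₁ h₂ a 1 = 0 := by simp [beta]

theorem beta_inv_left (a : E₁) (b : E₂) : beta h₁ h₂ a⁻¹ b = - beta h₁ h₂ a b := by
  simp [beta, ofMul_inv, TensorProduct.neg_tmul]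

theorem beta_inv_right (a : E₁) (b : E₂) : beta h₁ h₂ a b⁻¹ = - beta h₁ h₂ a b := by
  simp [beta, ofMul_inv, TensorProduct.tmul_neg]

instance : Mul (TwProd h₁ h₂) :=
  ⟨fun x y => ⟨x.fst * y.fst, x.snd * y.snd, x.t + y.t + beta h₁ h₂ y.fst x.snd⟩⟩
instance : One (TwProd h₁ h₂) := ⟨⟨1, 1, 0⟩⟩
instance : Inv (TwProd h₁ h₂) :=
  ⟨fun x => ⟨x.fst⁻¹, x.snd⁻¹, -x.t + beta h₁ h₂ x.fst x.snd⟩⟩

@[simp] theorem mul_fst (x y : TwProd h₁ h₂) : (x * y).fst = x.fst * y.fst := rfl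
@[simp] theorem mul_snd (x y : TwProd h₁ h₂) : (x * y).snd = x.snd * y.snd := rfl
@[simp] theorem mul_t (x y : TwProd h₁ h₂) :
    (x * y).t = x.t + y.t + beta h₁ h₂ y.fst x.snd := rfl
@[simp] theorem one_fst : (1 : TwProd h₁ h₂).fst = 1 := rfl
@[simp] theorem one_snd : (1 : TwProd h₁ h₂).snd = 1 := rfl
@[simp] theorem one_t : (1 : TwProd h₁ h₂).t = 0 := rfl
@[simp] theorem inv_fst (x : TwProd h₁ h₂) : x⁻¹.fst = x.fst⁻¹ := rfl
@[simp] theorem inv_snd (x : TwProd h₁ h₂) : x⁻¹.snd = x.snd⁻¹ := rfl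
@[simp] theorem inv_t (x : TwProd h₁ h₂) : x⁻¹.t = -x.t + beta h₁ h₂ x.fst x.snd := rfl

instance : Group (TwProd h₁ h₂) where
  mul_assoc x y z := by
    refine TwProd.ext (mul_assoc _ _ _) (mul_assoc _ _ _) ?_
    simp only [mul_t, mul_fst, mul_snd, beta_mul_left, beta_mul_right]
    abel
  one_mul x := by
    refine TwProd.ext (one_mul _) (one_mul _) ?_
    simp [beta_one_right]
  mul_one x := by
    refine TwProd.ext (mul_one _) (mul_one _) ?_
    simp [beta_one_left]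
  inv_mul_cancel x := by
    refine TwProd.ext (inv_mul_cancel _) (inv_mul_cancel _) ?_
    simp only [mul_t, inv_t, inv_snd, beta_inv_right, one_t]
    abel

/-- Underlying product. -/
def equivProd (h₁ : Additive E₁ →+ M₁) (h₂ : Additive E₂ →+ M₂) :
    TwProd h₁ h₂ ≃ E₁ × E₂ × (M₁ ⊗[ℤ] M₂) where
  toFun x := (x.fst, x.snd, x.t)
  invFun x := ⟨x.1, x.2.1, x.2.2⟩
  left_inv _ := rfl
  right_inv _ := rfl

/-- First coordinate. -/
def fstHom : TwProd h₁ h₂ →* E₁ := MonoidHom.mk' TwProd.fst fun _ _ => rfl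
/-- Second coordinate. -/
def sndHom : TwProd h₁ h₂ →* E₂ := MonoidHom.mk' TwProd.snd fun _ _ => rfl
/-- First embedding. -/
def inl : E₁ →* TwProd h₁ h₂ := MonoidHom.mk' (fun a => ⟨a, 1, 0⟩) fun a a' => by
  refine TwProd.ext rfl (mul_one 1).symm ?_
  simp [beta_one_right]
/-- Second embedding. -/
def inr : E₂ →* TwProd h₁ h₂ := MonoidHom.mk' (fun b => ⟨1, b, 0⟩) fun b b' => by
  refine TwProd.ext (mul_one 1).symm rfl ?_
  simp [beta_one_left]

theorem commutator_inr_inl (a : E₁) (b : E₂) :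
    ⁅(inr b : TwProd h₁ h₂), (inl a : TwProd h₁ h₂)⁆ = ⟨1, 1, beta h₁ h₂ a b⟩ := by
  rw [commutatorElement_def, ← map_inv, ← map_inv]
  refine TwProd.ext (by simp [inl, inr]) (by simp [inl, inr]) ?_
  simp [inl, inr, beta_one_left, beta_one_right, beta_inv_left]

end TwProd

/-- The additive character of `E` through `Eᵃᵇ → Qᵃᵇ`. -/
def abChar {E : Type u} {Q : Type v} [Group E] [Group Q] (σ : E →* Q) :
    Additive E →+ Additive (Abelianization Q) :=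
  MonoidHom.toAdditive (Abelianization.of.comp σ)

/-- A tensor product of finite abelian groups is finite. -/
theorem finite_tensor (A B : Type*) [CommGroup A] [CommGroup B] [Finite A] [Finite B] :
    Finite (Additive A ⊗[ℤ] Additive B) := by
  haveI : AddGroup.FG (Additive A ⊗[ℤ] Additive B) := by
    refine AddGroup.fg_iff.2 ⟨Set.range fun z : Additive A × Additive B => z.1 ⊗ₜ[ℤ] z.2, ?_,
      Set.finite_range _⟩
    refine eq_top_iff.2 fun t _ => ?_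
    induction t using TensorProduct.induction_on with
    | zero => exact zero_mem _
    | tmul x y => exact AddSubgroup.subset_closure ⟨(x, y), rfl⟩
    | add x y hx hy => exact add_mem (hx (AddSubgroup.mem_top _)) (hy (AddSubgroup.mem_top _))
  refine AddCommGroup.finite_of_fg_torsion _ fun t => ?_
  refine (isOfFinAddOrder_iff_nsmul_eq_zero).2 ⟨Nat.card A, Nat.card_pos, ?_⟩
  induction t using TensorProduct.induction_on with
  | zero => simp
  | tmul x y =>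
    rw [TensorProduct.smul_tmul', show Nat.card A • x = 0 from by
      rw [show Nat.card A = Nat.card (Additive A) from Nat.card_congr Additive.ofMul]
      exact card_nsmul_eq_zero', TensorProduct.zero_tmul]
  | add x y hx hy => rw [smul_add, hx, hy, add_zero]

section main

variable {Q₁ : Type u} {Q₂ : Type v} [Group Q₁] [Group Q₂]

/-- The projection of the twisted product onto `Q₁ × Q₂`. -/
def twProj {E₁ : Type*} {E₂ : Type*} [Group E₁] [Group E₂] (σ₁ : E₁ →* Q₁) (σ₂ : E₂ →* Q₂) :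
    TwProd (abChar σ₁) (abChar σ₂) →* Q₁ × Q₂ :=
  (σ₁.comp TwProd.fstHom).prod (σ₂.comp TwProd.sndHom)

/-- The twisted product of covers. -/
theorem exists_stem_twProd [Finite Q₁] [Finite Q₂] {Γ₁ : Type u} {Γ₂ : Type v} [Group Γ₁] [Group Γ₂]
    [Finite Γ₁] [Finite Γ₂] (σ₁ : Γ₁ →* Q₁) (σ₂ : Γ₂ →* Q₂) (h₁ : Cfsg.IsStemExtension σ₁)
    (h₂ : Cfsg.IsStemExtension σ₂) {A B : Type w} [CommGroup A] [CommGroup B] (e₁ : σ₁.ker ≃* A)
    (e₂ : σ₂.ker ≃* B) :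
    Finite (TwProd (abChar σ₁) (abChar σ₂)) ∧ Cfsg.IsStemExtension (twProj σ₁ σ₂) ∧
      Nonempty ((twProj σ₁ σ₂).ker ≃* A × B × Multiplicative (TensorProduct ℤ
        (Additive (Abelianization Q₁)) (Additive (Abelianization Q₂)))) := by
  haveI : Finite (Additive (Abelianization Q₁) ⊗[ℤ] Additive (Abelianization Q₂)) :=
    finite_tensor (Abelianization Q₁) (Abelianization Q₂)
  refine ⟨Finite.of_equiv _ (TwProd.equivProd _ _).symm, ⟨?_, ?_, ?_⟩, ?_⟩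
  · rintro ⟨q₁, q₂⟩
    obtain ⟨a, rfl⟩ := h₁.1 q₁
    obtain ⟨b, rfl⟩ := h₂.1 q₂
    exact ⟨⟨a, b, 0⟩, rfl⟩
  · intro x hx
    have hx1 : σ₁ x.fst = 1 := congrArg Prod.fst hx
    have hx2 : σ₂ x.snd = 1 := congrArg Prod.snd hx
    have hb1 : ∀ b, TwProd.beta (abChar σ₁) (abChar σ₂) x.fst b = 0 := fun b => by
      have : abChar σ₁ (Additive.ofMul x.fst) = 0 := by simp [abChar, hx1]
      simp [TwProd.beta, this]
    have hb2 : ∀ a, TwProd.beta (abChar σ₁) (abChar σ₂) a x.snd = 0 := fun a => by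
      have : abChar σ₂ (Additive.ofMul x.snd) = 0 := by simp [abChar, hx2]
      simp [TwProd.beta, this]
    rw [mem_center_iff]
    intro y
    refine TwProd.ext (mem_center_iff.1 (h₁.2.1 hx1) _) (mem_center_iff.1 (h₂.2.1 hx2) _) ?_
    simp [hb1, hb2, add_comm]
  · intro x hx
    have hx1 : x.fst ∈ commutator Γ₁ := h₁.2.2 (congrArg Prod.fst hx)
    have hx2 : x.snd ∈ commutator Γ₂ := h₂.2.2 (congrArg Prod.snd hx)
    set S : Subgroup (TwProd (abChar σ₁) (abChar σ₂)) := commutator _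
    have hT : ∀ t, (⟨1, 1, t⟩ : TwProd (abChar σ₁) (abChar σ₂)) ∈ S := by
      intro t
      induction t using TensorProduct.induction_on with
      | zero => exact one_mem S
      | tmul x y =>
        obtain ⟨q₁, hq₁⟩ := QuotientGroup.mk_surjective (Additive.toMul x)
        obtain ⟨q₂, hq₂⟩ := QuotientGroup.mk_surjective (Additive.toMul y)
        obtain ⟨a, rfl⟩ := h₁.1 q₁
        obtain ⟨b, rfl⟩ := h₂.1 q₂
        have h : TwProd.beta (abChar σ₁) (abChar σ₂) a b = x ⊗ₜ[ℤ] y := by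
          show Additive.ofMul (Abelianization.of (σ₁ a)) ⊗ₜ[ℤ] Additive.ofMul (Abelianization.of (σ₂ b)) = _
          rw [show Abelianization.of (σ₁ a) = Additive.toMul x from hq₁,
            show Abelianization.of (σ₂ b) = Additive.toMul y from hq₂]
          rfl
        rw [← h, ← TwProd.commutator_inr_inl]
        exact commutator_mem_commutator (mem_top _) (mem_top _)
      | add x y hx hy =>
        have h := mul_mem hx hy
        rwa [show (⟨1, 1, x⟩ : TwProd (abChar σ₁) (abChar σ₂)) * ⟨1, 1, y⟩ = ⟨1, 1, x + y⟩ from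
          TwProd.ext (mul_one 1) (mul_one 1) (by simp [TwProd.beta_one_left])] at h
    have ha : TwProd.inl x.fst ∈ S := by
      have h := mem_map_of_mem (TwProd.inl (h₁ := abChar σ₁) (h₂ := abChar σ₂)) hx1
      rw [_root_.commutator_def, map_commutator] at h
      exact commutator_mono le_top le_top h
    have hb : TwProd.inr x.snd ∈ S := by
      have h := mem_map_of_mem (TwProd.inr (h₁ := abChar σ₁) (h₂ := abChar σ₂)) hx2
      rw [_root_.commutator_def, map_commutator] at h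
      exact commutator_mono le_top le_top h
    rw [show x = TwProd.inl x.fst * TwProd.inr x.snd * ⟨1, 1, x.t⟩ from TwProd.ext
      (by simp [TwProd.inl, TwProd.inr]) (by simp [TwProd.inl, TwProd.inr])
      (by simp [TwProd.inl, TwProd.inr, TwProd.beta_one_left])]
    exact mul_mem (mul_mem ha hb) (hT _)
  · refine ⟨
      { toFun := fun x => (e₁ ⟨x.1.fst, congrArg Prod.fst x.2⟩, e₂ ⟨x.1.snd, congrArg Prod.snd x.2⟩,
          Multiplicative.ofAdd x.1.t)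
        invFun := fun z => ⟨⟨e₁.symm z.1, e₂.symm z.2.1, z.2.2.toAdd⟩,
          Prod.ext (e₁.symm z.1).2 (e₂.symm z.2.1).2⟩
        left_inv := fun x => Subtype.ext (TwProd.ext
          (congrArg Subtype.val (e₁.symm_apply_apply _)) (congrArg Subtype.val (e₂.symm_apply_apply _)) rfl)
        right_inv := fun z => Prod.ext (e₁.apply_symm_apply z.1) (Prod.ext (e₂.apply_symm_apply z.2.1) rfl)
        map_mul' := fun x y => ?_ }⟩
    refine Prod.ext ?_ (Prod.ext ?_ ?_)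
    · exact map_mul e₁ ⟨x.1.fst, congrArg Prod.fst x.2⟩ ⟨y.1.fst, congrArg Prod.fst y.2⟩
    · exact map_mul e₂ ⟨x.1.snd, congrArg Prod.snd x.2⟩ ⟨y.1.snd, congrArg Prod.snd y.2⟩
    · show Multiplicative.ofAdd (x.1 * y.1).t = _
      have : abChar σ₁ (Additive.ofMul y.1.fst) = 0 := by
        simp [abChar, show σ₁ y.1.fst = 1 from congrArg Prod.fst y.2]
      simp [TwProd.beta, this]

/-- The Schur multiplier of a direct product. -/
theorem hasSchurMultiplier_prod [Finite Q₁] [Finite Q₂] {A B : Type w} [CommGroup A] [CommGroup B]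
    (hA : Cfsg.HasSchurMultiplier Q₁ A) (hB : Cfsg.HasSchurMultiplier Q₂ B) :
    Cfsg.HasSchurMultiplier (Q₁ × Q₂) (A × B × Multiplicative (TensorProduct ℤ
      (Additive (Abelianization Q₁)) (Additive (Abelianization Q₂)))) := by
  refine ⟨?_, fun Γ _ _ σ hσ => ?_⟩
  · obtain ⟨Γ₁, _, _, σ₁, h₁, ⟨e₁⟩⟩ := hA.1
    obtain ⟨Γ₂, _, _, σ₂, h₂, ⟨e₂⟩⟩ := hB.1
    obtain ⟨hfin, hst, he⟩ := exists_stem_twProd σ₁ σ₂ h₁ h₂ e₁ e₂
    exact ⟨_, inferInstance, hfin, twProj σ₁ σ₂, hst, he⟩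
  classical
  have hπ₁ := taut_surjective Q₁
  have hπ₂ := taut_surjective Q₂
  set p₁ := proj (taut Q₁)
  set p₂ := proj (taut Q₂)
  -- lifts of the factors
  set W₁ := ((MonoidHom.snd Q₁ Q₂).comp σ).ker
  set W₂ := ((MonoidHom.fst Q₁ Q₂).comp σ).ker
  set s₁ : W₁ →* Q₁ := ((MonoidHom.fst Q₁ Q₂).comp σ).comp W₁.subtype
  set s₂ : W₂ →* Q₂ := ((MonoidHom.snd Q₁ Q₂).comp σ).comp W₂.subtype
  have hs₁ : Function.Surjective s₁ := fun q => by
    obtain ⟨c, hc⟩ := hσ.1 (q, 1)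
    exact ⟨⟨c, congrArg Prod.snd hc⟩, congrArg Prod.fst hc⟩
  have hs₂ : Function.Surjective s₂ := fun q => by
    obtain ⟨c, hc⟩ := hσ.1 (1, q)
    exact ⟨⟨c, congrArg Prod.fst hc⟩, congrArg Prod.snd hc⟩
  have hcen : ∀ c : Γ, σ c = 1 → ∀ g, g * c = c * g := fun c hc => mem_center_iff.1 (hσ.2.1 hc)
  obtain ⟨φ₁', hφ₁'⟩ := exists_lift (taut Q₁) s₁ hs₁ fun z hz => mem_center_iff.2 fun g =>
    Subtype.ext (hcen _ (Prod.ext hz z.2) _)
  obtain ⟨φ₂', hφ₂'⟩ := exists_lift (taut Q₂) s₂ hs₂ fun z hz => mem_center_iff.2 fun g =>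
    Subtype.ext (hcen _ (Prod.ext z.2 hz) _)
  set φ₁ : Ext (taut Q₁) →* Γ := W₁.subtype.comp φ₁'
  set φ₂ : Ext (taut Q₂) →* Γ := W₂.subtype.comp φ₂'
  have hσ₁ : ∀ e, σ (φ₁ e) = (p₁ e, 1) := fun e =>
    Prod.ext (DFunLike.congr_fun hφ₁' e) (φ₁' e).2
  have hσ₂ : ∀ e, σ (φ₂ e) = (1, p₂ e) := fun e =>
    Prod.ext (φ₂' e).2 (DFunLike.congr_fun hφ₂' e)
  letI : CommGroup σ.ker := { (inferInstance : Group σ.ker) with
    mul_comm := fun a b => Subtype.ext ((mem_center_iff.1 (hσ.2.1 b.2)) a) }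
  -- the commutator pairing
  choose l₁ hl₁ using proj_surjective hπ₁
  choose l₂ hl₂ using proj_surjective hπ₂
  have hcommem : ∀ a b, ⁅φ₂ b, φ₁ a⁆ ∈ σ.ker := fun a b => by
    rw [MonoidHom.mem_ker, map_commutatorElement, hσ₁, hσ₂, commutatorElement_def]
    simp
  have hindep : ∀ a a' b b', p₁ a = p₁ a' → p₂ b = p₂ b' → ⁅φ₂ b, φ₁ a⁆ = ⁅φ₂ b', φ₁ a'⁆ := by
    intro a a' b b' ha hb
    have hz : σ ((φ₁ a) * (φ₁ a')⁻¹) = 1 := by rw [map_mul, map_inv, hσ₁, hσ₁, ha, mul_inv_cancel]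
    have hw : σ ((φ₂ b) * (φ₂ b')⁻¹) = 1 := by rw [map_mul, map_inv, hσ₂, hσ₂, hb, mul_inv_cancel]
    obtain ⟨z, hz', hza⟩ : ∃ z, σ z = 1 ∧ φ₁ a = z * φ₁ a' := ⟨_, hz, by group⟩
    obtain ⟨w, hw', hwb⟩ : ∃ w, σ w = 1 ∧ φ₂ b = w * φ₂ b' := ⟨_, hw, by group⟩
    rw [hza, hwb, commutatorElement_def, commutatorElement_def]
    calc w * φ₂ b' * (z * φ₁ a') * (w * φ₂ b')⁻¹ * (z * φ₁ a')⁻¹
        = w * φ₂ b' * (z * φ₁ a') * (φ₂ b')⁻¹ * (w⁻¹ * (z * φ₁ a')⁻¹) := by group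
      _ = w * φ₂ b' * (z * φ₁ a') * (φ₂ b')⁻¹ * ((z * φ₁ a')⁻¹ * w⁻¹) := by
          rw [hcen w⁻¹ (by rw [map_inv, hw', inv_one])]
      _ = w * (φ₂ b' * z) * φ₁ a' * (φ₂ b')⁻¹ * (φ₁ a')⁻¹ * z⁻¹ * w⁻¹ := by group
      _ = w * (z * φ₂ b') * φ₁ a' * (φ₂ b')⁻¹ * (φ₁ a')⁻¹ * z⁻¹ * w⁻¹ := by rw [hcen z hz' (φ₂ b')]
      _ = w * z * (φ₂ b' * φ₁ a' * (φ₂ b')⁻¹ * (φ₁ a')⁻¹) * (w * z)⁻¹ := by group
      _ = _ := by rw [← hcen (w * z) (by rw [map_mul, hz', hw', mul_one]), mul_inv_cancel_right]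
  set B' : Q₁ → Q₂ → σ.ker := fun q₁ q₂ => ⟨_, hcommem (l₁ q₁) (l₂ q₂)⟩ with hB'
  have hBval : ∀ a b, (B' (p₁ a) (p₂ b) : Γ) = ⁅φ₂ b, φ₁ a⁆ := fun a b =>
    hindep _ _ _ _ (hl₁ _) (hl₂ _)
  have hBl : ∀ q q' r, B' (q * q') r = B' q r * B' q' r := by
    intro q q' r
    obtain ⟨a, rfl⟩ := proj_surjective hπ₁ q
    obtain ⟨a', rfl⟩ := proj_surjective hπ₁ q'
    obtain ⟨b, rfl⟩ := proj_surjective hπ₂ r
    refine Subtype.ext ?_
    rw [Subgroup.coe_mul, ← map_mul, hBval, hBval, hBval, map_mul φ₁]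
    have h := hcen _ (hcommem a' b) (φ₁ a)
    calc ⁅φ₂ b, φ₁ a * φ₁ a'⁆ = ⁅φ₂ b, φ₁ a⁆ * (φ₁ a * ⁅φ₂ b, φ₁ a'⁆) * (φ₁ a)⁻¹ := by
          rw [commutatorElement_def, commutatorElement_def, commutatorElement_def]; group
      _ = _ := by rw [h]; group
  have hBr : ∀ q r r', B' q (r * r') = B' q r * B' q r' := by
    intro q r r'
    obtain ⟨a, rfl⟩ := proj_surjective hπ₁ q
    obtain ⟨b, rfl⟩ := proj_surjective hπ₂ r
    obtain ⟨b', rfl⟩ := proj_surjective hπ₂ r'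
    refine Subtype.ext ?_
    rw [Subgroup.coe_mul, ← map_mul, hBval, hBval, hBval, map_mul φ₂]
    have h := hcen _ (hcommem a b') (φ₂ b)
    calc ⁅φ₂ b * φ₂ b', φ₁ a⁆ = (φ₂ b * ⁅φ₂ b', φ₁ a⁆) * (φ₂ b)⁻¹ * ⁅φ₂ b, φ₁ a⁆ := by
          rw [commutatorElement_def, commutatorElement_def, commutatorElement_def]; group
      _ = ⁅φ₂ b', φ₁ a⁆ * ⁅φ₂ b, φ₁ a⁆ := by rw [h, mul_inv_cancel_right]
      _ = _ := (hcen _ (hcommem a b') _).symm
  let Bh : Q₁ →* (Abelianization Q₂ →* σ.ker) := MonoidHom.mk'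
    (fun q => Abelianization.lift (MonoidHom.mk' (B' q) (hBr q))) fun q q' =>
    Abelianization.hom_ext _ _ (MonoidHom.ext fun r => hBl q q' r)
  let Bl : Additive (Abelianization Q₁) →ₗ[ℤ] Additive (Abelianization Q₂) →ₗ[ℤ] Additive σ.ker :=
    AddMonoidHom.toIntLinearMap
      { toFun := fun x => (MonoidHom.toAdditive (Abelianization.lift Bh (Additive.toMul x))).toIntLinearMap
        map_zero' := LinearMap.ext fun y => by simp
        map_add' := fun x y => LinearMap.ext fun z => by simp }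
  set γ : Additive (Abelianization Q₁) ⊗[ℤ] Additive (Abelianization Q₂) →ₗ[ℤ] Additive σ.ker :=
    TensorProduct.lift Bl
  have hγ : ∀ a b, ((Additive.toMul (γ (TwProd.beta (abChar p₁) (abChar p₂) a b)) : σ.ker) : Γ) =
      ⁅φ₂ b, φ₁ a⁆ := fun a b => hBval a b
  let Φ : TwProd (abChar p₁) (abChar p₂) →* Γ :=
    MonoidHom.mk' (fun x => φ₁ x.fst * φ₂ x.snd * (Additive.toMul (γ x.t) : σ.ker)) fun x y => by
      have hz : ∀ (t : σ.ker) g, g * (t : Γ) = t * g := fun t => hcen _ t.2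
      simp only [TwProd.mul_fst, TwProd.mul_snd, TwProd.mul_t, map_mul, map_add, toMul_add,
        Subgroup.coe_mul, hγ]
      set u : Γ := ((Additive.toMul (γ x.t) : σ.ker) : Γ)
      set v : Γ := ((Additive.toMul (γ y.t) : σ.ker) : Γ)
      set c := ⁅φ₂ x.snd, φ₁ y.fst⁆
      have hu : ∀ g, g * u = u * g := hz _
      have hc : ∀ g, g * c = c * g := hcen _ (hcommem y.fst x.snd)
      symm
      calc φ₁ x.fst * φ₂ x.snd * u * (φ₁ y.fst * φ₂ y.snd * v)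
          = φ₁ x.fst * φ₂ x.snd * (u * (φ₁ y.fst * φ₂ y.snd)) * v := by simp only [mul_assoc]
        _ = φ₁ x.fst * φ₂ x.snd * (φ₁ y.fst * φ₂ y.snd * u) * v := by rw [hu (φ₁ y.fst * φ₂ y.snd)]
        _ = φ₁ x.fst * (c * (φ₁ y.fst * φ₂ x.snd * φ₂ y.snd)) * u * v := by
            simp only [c, commutatorElement_def]; group
        _ = φ₁ x.fst * ((φ₁ y.fst * φ₂ x.snd * φ₂ y.snd) * c) * u * v := by rw [hc]
        _ = φ₁ x.fst * φ₁ y.fst * (φ₂ x.snd * φ₂ y.snd) * (c * (u * v)) := by simp only [mul_assoc]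
        _ = _ := by rw [← hc (u * v)]
  have hσΦ : ∀ x, σ (Φ x) = (p₁ x.fst, p₂ x.snd) := fun x => by
    show σ (φ₁ x.fst * φ₂ x.snd * (Additive.toMul (γ x.t) : σ.ker)) = _
    rw [map_mul, map_mul, hσ₁, hσ₂, MonoidHom.mem_ker.1 (Additive.toMul (γ x.t)).2]
    simp
  have hΦs : Function.Surjective (σ.comp Φ) := by
    rintro ⟨q₁, q₂⟩
    exact ⟨⟨l₁ q₁, l₂ q₂, 0⟩, by rw [MonoidHom.comp_apply, hσΦ, hl₁, hl₂]⟩
  -- the surjection
  obtain ⟨eA⟩ := nonempty_mult_equiv hπ₁ hA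
  obtain ⟨eB⟩ := nonempty_mult_equiv hπ₂ hB
  have hm₁ : ∀ m : mult (taut Q₁), φ₁ m ∈ σ.ker := fun m => by
    rw [MonoidHom.mem_ker, hσ₁]
    exact Prod.ext (mult_le_ker _ m.2) rfl
  have hm₂ : ∀ m : mult (taut Q₂), φ₂ m ∈ σ.ker := fun m => by
    rw [MonoidHom.mem_ker, hσ₂]
    exact Prod.ext rfl (mult_le_ker _ m.2)
  set a₁ : A →* σ.ker := ((φ₁.comp (mult (taut Q₁)).subtype).codRestrict σ.ker hm₁).comp eA.symm.toMonoidHom
  set a₂ : B →* σ.ker := ((φ₂.comp (mult (taut Q₂)).subtype).codRestrict σ.ker hm₂).comp eB.symm.toMonoidHom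
  refine ⟨a₁.coprod (a₂.coprod
    (MonoidHom.mk' (fun t => Additive.toMul (γ (Multiplicative.toAdd t))) fun t t' => by simp)), ?_⟩
  rintro ⟨c, hc⟩
  obtain ⟨x, hx, rfl⟩ := ker_le_map_commutator hσ Φ hΦs hc
  have h1 : p₁ x.fst = 1 := (congrArg Prod.fst ((hσΦ x).symm.trans hc) :)
  have h2 : p₂ x.snd = 1 := (congrArg Prod.snd ((hσΦ x).symm.trans hc) :)
  have h3 : x.fst ∈ mult (taut Q₁) := Subgroup.mem_inf.2 ⟨h1, by
    have h := mem_map_of_mem (TwProd.fstHom (h₁ := abChar p₁) (h₂ := abChar p₂)) hx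
    rw [_root_.commutator_def, map_commutator] at h
    exact commutator_mono le_top le_top h⟩
  have h4 : x.snd ∈ mult (taut Q₂) := Subgroup.mem_inf.2 ⟨h2, by
    have h := mem_map_of_mem (TwProd.sndHom (h₁ := abChar p₁) (h₂ := abChar p₂)) hx
    rw [_root_.commutator_def, map_commutator] at h
    exact commutator_mono le_top le_top h⟩
  refine ⟨(eA ⟨_, h3⟩, eB ⟨_, h4⟩, Multiplicative.ofAdd x.t), Subtype.ext ?_⟩
  simp [a₁, a₂, Φ, mul_assoc]
  rfl

end main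

end CfsgLib.Schur
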