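import Cfsg.Agent.Lib.Schur.Trivial

/-!
Projective representations and Schur covers.
-/

namespace CfsgLib.Schur

open Subgroup
open scoped commutatorElement

universe u v w

local notation "Zc" n => Subgroup.center (GL (Fin n) ℂ)

/-- Every projective representation lifts to `F / [R, F]`. -/
theorem exists_lift_rep {Q : Type u} [Group Q] {α : Type u} (π : FreeGroup α →* Q) (n : ℕ)
    (γ : Q →* (GL (Fin n) ℂ ⧸ Zc n)) :
    ∃ ρ : Ext π →* GL (Fin n) ℂ, (QuotientGroup.mk' (Zc n)).comp ρ = γ.comp (proj π) := by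
  set P : Subgroup (Q × GL (Fin n) ℂ) :=
    (γ.comp (MonoidHom.fst _ _)).eqLocus ((QuotientGroup.mk' (Zc n)).comp (MonoidHom.snd _ _))
  set σ : P →* Q := (MonoidHom.fst _ _).comp P.subtype
  have hσ : Function.Surjective σ := fun q => by
    obtain ⟨g, hg⟩ := QuotientGroup.mk'_surjective (Zc n) (γ q)
    exact ⟨⟨(q, g), hg.symm⟩, rfl⟩
  have hker : σ.ker ≤ center P := fun z hz => by
    have h1 : (z : Q × GL (Fin n) ℂ).1 = 1 := hz
    have h2 : (z : Q × GL (Fin n) ℂ).2 ∈ Zc n := by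
      refine (QuotientGroup.eq_one_iff _).1 ?_
      have : γ (z : Q × GL (Fin n) ℂ).1 = QuotientGroup.mk' (Zc n) (z : Q × GL (Fin n) ℂ).2 := z.2
      rw [h1, map_one] at this
      exact this.symm
    rw [mem_center_iff]
    intro g
    refine Subtype.ext (Prod.ext ?_ (mem_center_iff.1 h2 _))
    show (g : Q × GL (Fin n) ℂ).1 * (z : Q × GL (Fin n) ℂ).1 =
      (z : Q × GL (Fin n) ℂ).1 * (g : Q × GL (Fin n) ℂ).1
    rw [h1, mul_one, one_mul]
  obtain ⟨φ, hφ⟩ := exists_lift π σ hσ hker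
  refine ⟨(MonoidHom.snd _ _).comp (P.subtype.comp φ), MonoidHom.ext fun e => ?_⟩
  have h1 : γ (φ e : Q × GL (Fin n) ℂ).1 = QuotientGroup.mk' (Zc n) (φ e : Q × GL (Fin n) ℂ).2 :=
    (φ e).2
  rw [show (φ e : Q × GL (Fin n) ℂ).1 = proj π e from DFunLike.congr_fun hφ e] at h1
  exact h1.symm

/-- A scalar matrix. -/
noncomputable def scalar (n : ℕ) : ℂˣ →* GL (Fin n) ℂ :=
  Units.map (algebraMap ℂ (Matrix (Fin n) (Fin n) ℂ)).toMonoidHom

theorem scalar_mem_center (n : ℕ) (c : ℂˣ) : scalar n c ∈ Zc n :=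
  mem_center_iff.2 fun g => Units.ext ((Algebra.commutes (c : ℂ) (g : Matrix (Fin n) (Fin n) ℂ)).symm)

theorem center_eq_range_scalar (n : ℕ) : (Zc n) = (scalar n).range := by
  refine le_antisymm (fun z hz => ?_) fun z ⟨c, hc⟩ => hc ▸ scalar_mem_center n c
  rw [Matrix.GeneralLinearGroup.center_eq_range_scalar] at hz
  obtain ⟨c, rfl⟩ := hz
  exact ⟨c, Units.ext (by simp [scalar, Matrix.GeneralLinearGroup.scalar, Matrix.scalar_apply,
    Algebra.algebraMap_eq_smul_one, Matrix.smul_one_eq_diagonal])⟩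

/-- Lifting projective representations to a Schur cover. -/
theorem exists_lift_to_cover {Q : Type u} [Group Q] [Finite Q] {A : Type v} [CommGroup A]
    (hA : Cfsg.HasSchurMultiplier Q A) {Γ : Type w} [Group Γ] (σ : Γ →* Q)
    (hσ : Cfsg.IsStemExtension σ) (hk : Nonempty (σ.ker ≃* A)) (n : ℕ)
    (γ : Q →* (GL (Fin n) ℂ ⧸ Zc n)) :
    ∃ ρ : Γ →* GL (Fin n) ℂ, (QuotientGroup.mk' (Zc n)).comp ρ = γ.comp σ := by
  have hπ := taut_surjective Q
  set π := taut Q
  haveI := finite_mult hπ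
  obtain ⟨φ, hφ⟩ := exists_lift π σ hσ.1 hσ.2.1
  have hφs := surjective_of_stem hπ hσ hφ
  obtain ⟨ρ₀, hρ₀⟩ := exists_lift_rep π n γ
  rcases Nat.eq_zero_or_pos n with hn | hn
  · subst hn
    haveI : Subsingleton (GL (Fin 0) ℂ) := ⟨fun a b => Units.ext (Matrix.ext fun i => i.elim0)⟩
    refine ⟨1, MonoidHom.ext fun c => ?_⟩
    obtain ⟨g, hg⟩ := QuotientGroup.mk'_surjective (Zc 0) ((γ.comp σ) c)
    rw [MonoidHom.comp_apply, ← hg, Subsingleton.elim g 1, MonoidHom.one_apply]
  -- the kernel of the lift meets the multiplier trivially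
  set K := φ.ker
  have hKker : K ≤ (proj π).ker := fun k hk' => by
    rw [MonoidHom.mem_ker, ← hφ, MonoidHom.comp_apply, MonoidHom.mem_ker.1 hk', map_one]
  have hKab : Function.Injective ((abMap π).comp K.subtype) := by
    refine (injective_iff_map_eq_one _).2 fun k hk' => ?_
    have h1 : (k : Ext π) ∈ mult π :=
      Subgroup.mem_inf.2 ⟨hKker k.2, (ker_abMap π).le hk'⟩
    obtain ⟨e⟩ := hk
    obtain ⟨e'⟩ := nonempty_mult_equiv hπ hA
    have hbij : Function.Bijective (φ.subgroupMap (mult π)) := by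
      refine (Nat.bijective_iff_surjective_and_card _).2 ⟨φ.subgroupMap_surjective _, ?_⟩
      rw [map_mult_eq_ker hπ hσ hφ, Nat.card_congr (e.trans e'.symm).toEquiv]
    have h2 : (⟨(k : Ext π), h1⟩ : mult π) = 1 := hbij.1 (by
      rw [map_one]; exact Subtype.ext k.2)
    have h3 : (k : Ext π) = 1 := congrArg (fun t : mult π => (t : Ext π)) h2
    exact Subtype.ext h3
  letI : CommGroup K := { (inferInstance : Group K) with
    mul_comm := fun a b => Subtype.ext ((mem_center_iff.1 (ker_proj_le_center π (hKker b.2))) a) }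
  have hscal : Function.Injective (scalar n) := by
    haveI : Nonempty (Fin n) := ⟨⟨0, hn⟩⟩
    exact Units.map_injective (RingHom.injective _)
  have hKmem : ∀ k : K, ρ₀ k ∈ (scalar n).range := fun k => by
    rw [← center_eq_range_scalar, ← QuotientGroup.eq_one_iff]
    have h := DFunLike.congr_fun hρ₀ (k : Ext π)
    rw [MonoidHom.comp_apply, MonoidHom.comp_apply, MonoidHom.mem_ker.1 (hKker k.2), map_one] at h
    exact h
  set e₀ : ℂˣ ≃* (scalar n).range := MonoidHom.ofInjective hscal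
  set lam : K →* ℂˣ := e₀.symm.toMonoidHom.comp ((ρ₀.comp K.subtype).codRestrict _ hKmem)
  obtain ⟨g, hg⟩ := exists_hom_extend ((abMap π).comp K.subtype) hKab lam⁻¹
  set ρ₁ : Ext π →* GL (Fin n) ℂ :=
    { toFun := fun e => ρ₀ e * scalar n (g (abMap π e))
      map_one' := by simp
      map_mul' := fun a b => by
        rw [map_mul, map_mul (abMap π), map_mul g, map_mul]
        calc ρ₀ a * ρ₀ b * (scalar n (g (abMap π a)) * scalar n (g (abMap π b)))
            = ρ₀ a * (ρ₀ b * scalar n (g (abMap π a))) * scalar n (g (abMap π b)) := by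
              simp only [mul_assoc]
          _ = ρ₀ a * (scalar n (g (abMap π a)) * ρ₀ b) * scalar n (g (abMap π b)) := by
              rw [mem_center_iff.1 (scalar_mem_center n _) (ρ₀ b)]
          _ = _ := by simp only [mul_assoc] }
  have hKρ : K ≤ ρ₁.ker := fun k hk' => by
    have h1 : g (abMap π k) = (lam ⟨k, hk'⟩)⁻¹ := DFunLike.congr_fun hg ⟨k, hk'⟩
    have h2 : scalar n (lam ⟨k, hk'⟩) = ρ₀ k := congrArg Subtype.val
      (e₀.apply_symm_apply (((ρ₀.comp K.subtype).codRestrict _ hKmem) ⟨k, hk'⟩))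
    show ρ₀ k * scalar n (g (abMap π k)) = 1
    rw [h1, map_inv, h2, mul_inv_cancel]
  refine ⟨(QuotientGroup.lift K ρ₁ hKρ).comp
    (QuotientGroup.quotientKerEquivOfSurjective φ hφs).symm.toMonoidHom, MonoidHom.ext fun c => ?_⟩
  obtain ⟨x, rfl⟩ := hφs c
  have h1 : (QuotientGroup.quotientKerEquivOfSurjective φ hφs).symm (φ x) = QuotientGroup.mk x :=
    (QuotientGroup.quotientKerEquivOfSurjective φ hφs).symm_apply_eq.2 rfl
  show QuotientGroup.mk' (Zc n) (QuotientGroup.lift K ρ₁ hKρ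
    ((QuotientGroup.quotientKerEquivOfSurjective φ hφs).symm (φ x))) = γ (σ (φ x))
  rw [h1, QuotientGroup.lift_mk, show σ (φ x) = proj π x from DFunLike.congr_fun hφ x]
  show QuotientGroup.mk' (Zc n) (ρ₀ x * scalar n (g (abMap π x))) = _
  rw [map_mul, show QuotientGroup.mk' (Zc n) (scalar n (g (abMap π x))) = 1 from
    (QuotientGroup.eq_one_iff _).2 (scalar_mem_center n _), mul_one]
  exact DFunLike.congr_fun hρ₀ x

/-- A character of a central subgroup is the scalar part of some representation. -/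
theorem exists_rep_scalar {Δ : Type u} [Group Δ] [Finite Δ] (Z : Subgroup Δ) (hZ : Z ≤ center Δ)
    (χ : Z →* ℂˣ) : ∃ (d : ℕ) (R : Δ →* GL (Fin d) ℂ), 0 < d ∧ ∀ z : Z, R z = scalar d (χ z) := by
  classical
  let W : Submodule ℂ (Δ → ℂ) :=
    { carrier := {f | ∀ (x : Δ) (a : Z), f ((a : Δ) * x) = (χ a : ℂ) * f x}
      zero_mem' := fun x a => by simp
      add_mem' := fun {f g} hf hg x a => by simp [hf x a, hg x a, mul_add]
      smul_mem' := fun c f hf x a => by simp [hf x a]; ring }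
  let rep : Δ →* Module.End ℂ W :=
    { toFun := fun d =>
        { toFun := fun f => ⟨fun x => (f : Δ → ℂ) (x * d), fun x a => by
            show (f : Δ → ℂ) ((a : Δ) * x * d) = (χ a : ℂ) * (f : Δ → ℂ) (x * d)
            rw [mul_assoc]; exact f.2 (x * d) a⟩
          map_add' := fun f g => rfl
          map_smul' := fun c f => rfl }
      map_one' := LinearMap.ext fun f => Subtype.ext (funext fun x => by
        show (f : Δ → ℂ) (x * 1) = (f : Δ → ℂ) x
        rw [mul_one])
      map_mul' := fun a b => LinearMap.ext fun f => Subtype.ext (funext fun x => by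
        show (f : Δ → ℂ) (x * (a * b)) = (f : Δ → ℂ) (x * a * b)
        rw [mul_assoc]) }
  have hscalar : ∀ a : Z, rep (a : Δ) = (χ a : ℂ) • LinearMap.id := fun a =>
    LinearMap.ext fun f => Subtype.ext (funext fun x => by
      show (f : Δ → ℂ) (x * a) = (χ a : ℂ) * (f : Δ → ℂ) x
      rw [mem_center_iff.1 (hZ a.2) x]; exact f.2 x a)
  refine ⟨Module.finrank ℂ W, ((LinearMap.toMatrixAlgEquiv
    (Module.finBasis ℂ W)).toMonoidHom.comp rep).toHomUnits, ?_, fun a => Units.ext ?_⟩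
  · refine Module.finrank_pos_iff.2 ?_
    let f₀ : Δ → ℂ := fun x => if h : x ∈ Z then (χ ⟨x, h⟩ : ℂ) else 0
    have hf₀ : f₀ ∈ W := fun x a => by
      by_cases hx : x ∈ Z
      · simp only [f₀, dif_pos hx, dif_pos (mul_mem a.2 hx)]
        rw [← Units.val_mul, ← map_mul]
        rfl
      · have : ¬ (a : Δ) * x ∈ Z := fun h => hx ((mul_mem_cancel_left a.2).1 h)
        simp [f₀, dif_neg hx, dif_neg this]
    refine ⟨⟨⟨f₀, hf₀⟩, 0, fun h => ?_⟩⟩
    have := congrFun (congrArg Subtype.val h) 1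
    simp [f₀, one_mem] at this
  · show LinearMap.toMatrixAlgEquiv (Module.finBasis ℂ W) (rep (a : Δ)) = algebraMap ℂ _ (χ a : ℂ)
    rw [hscalar, map_smul, show (LinearMap.id : W →ₗ[ℂ] W) = 1 from rfl, map_one,
      Algebra.algebraMap_eq_smul_one]

set_option maxHeartbeats 1000000 in
/-- A finite stem extension to which all projective representations lift is a Schur cover. -/
theorem surjective_of_all_lift {Q : Type u} [Group Q] [Finite Q] {Γ : Type v} [Group Γ]
    (σ : Γ →* Q) (hσ : Cfsg.IsStemExtension σ)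
    (hlift : ∀ (n : ℕ) (γ : Q →* (GL (Fin n) ℂ ⧸ Zc n)),
      ∃ ρ : Γ →* GL (Fin n) ℂ, (QuotientGroup.mk' (Zc n)).comp ρ = γ.comp σ) :
    Nonempty (mult (taut Q) ≃* σ.ker) := by
  classical
  have hπ := taut_surjective Q
  set π := taut Q
  haveI := finite_mult hπ
  obtain ⟨φ, hφ⟩ := exists_lift π σ hσ.1 hσ.2.1
  suffices hinj : Function.Injective (φ.subgroupMap (mult π)) from
    ⟨(MulEquiv.ofBijective _ ⟨hinj, φ.subgroupMap_surjective _⟩).trans
      (MulEquiv.subgroupCongr (map_mult_eq_ker hπ hσ hφ))⟩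
  refine (injective_iff_map_eq_one _).2 fun m hm => ?_
  by_contra hm1
  -- a cover, and a character of its kernel separating `m`
  obtain ⟨D, hle, hinf, hsup⟩ := exists_complement π
  haveI : D.Normal := ⟨fun d hd g => by
    rw [mem_center_iff.1 (ker_proj_le_center π (hle hd)) g, mul_inv_cancel_right]; exact hd⟩
  obtain ⟨τ, hτc, hfin, hτ, -⟩ := exists_cover_of_complement hπ D hle hinf hsup
  set mk := QuotientGroup.mk' D
  have hmker : mk (m : Ext π) ∈ τ.ker := by
    rw [MonoidHom.mem_ker, ← MonoidHom.comp_apply, hτc]; exact mult_le_ker π m.2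
  have hm2 : mk (m : Ext π) ≠ 1 := fun h => hm1 (by
    have h1 : (m : Ext π) ∈ D ⊓ mult π := Subgroup.mem_inf.2 ⟨(QuotientGroup.eq_one_iff _).1 h, m.2⟩
    rw [hinf, mem_bot] at h1
    exact Subtype.ext h1)
  letI : CommGroup τ.ker := { (inferInstance : Group τ.ker) with
    mul_comm := fun a b => Subtype.ext ((mem_center_iff.1 (hτ.2.1 b.2)) a) }
  haveI : NeZero (Monoid.exponent τ.ker) := ⟨Monoid.exponent_ne_zero_of_finite⟩
  haveI : HasEnoughRootsOfUnity ℂ (Monoid.exponent τ.ker) := inferInstance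
  obtain ⟨χ, hχ⟩ := CommGroup.exists_apply_ne_one_of_hasEnoughRootsOfUnity τ.ker ℂ
    (show (⟨mk (m : Ext π), hmker⟩ : τ.ker) ≠ 1 from fun h => hm2 (congrArg Subtype.val h))
  set Δ := Ext π ⧸ D
  obtain ⟨d, R, hd, hRscal⟩ := exists_rep_scalar τ.ker hτ.2.1 χ
  have hτker : τ.ker ≤ ((QuotientGroup.mk' (Zc d)).comp R).ker := fun a ha => by
    rw [MonoidHom.mem_ker, MonoidHom.comp_apply]
    exact (QuotientGroup.eq_one_iff _).2 (hRscal ⟨a, ha⟩ ▸ scalar_mem_center d _)
  set γ : Q →* (GL (Fin d) ℂ ⧸ Zc d) :=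
    (QuotientGroup.lift τ.ker ((QuotientGroup.mk' (Zc d)).comp R) hτker).comp
      (QuotientGroup.quotientKerEquivOfSurjective τ hτ.1).symm.toMonoidHom
  have hγ : ∀ x : Δ, γ (τ x) = QuotientGroup.mk' (Zc d) (R x) := fun x => by
    have h1 : (QuotientGroup.quotientKerEquivOfSurjective τ hτ.1).symm (τ x) = QuotientGroup.mk x :=
      (QuotientGroup.quotientKerEquivOfSurjective τ hτ.1).symm_apply_eq.2 rfl
    simp only [γ, MonoidHom.comp_apply, MulEquiv.coe_toMonoidHom]
    rw [h1]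
    rfl
  obtain ⟨ρ, hρ⟩ := hlift d γ
  -- the two lifts to `F / [R, F]` differ by a central character, trivial on the multiplier
  have hdiff : ∀ e : Ext π, (ρ (φ e))⁻¹ * R (mk e) ∈ Zc d := fun e => by
    refine QuotientGroup.eq.1 ?_
    have h1 := DFunLike.congr_fun hρ (φ e)
    rw [MonoidHom.comp_apply, MonoidHom.comp_apply,
      show σ (φ e) = proj π e from DFunLike.congr_fun hφ e,
      ← show τ (mk e) = proj π e from DFunLike.congr_fun hτc e, hγ] at h1
    exact h1
  let δ : Ext π →* (Zc d) :=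
    { toFun := fun e => ⟨_, hdiff e⟩
      map_one' := Subtype.ext (by simp)
      map_mul' := fun a b => Subtype.ext (by
        show (ρ (φ (a * b)))⁻¹ * R (mk (a * b)) =
          (ρ (φ a))⁻¹ * R (mk a) * ((ρ (φ b))⁻¹ * R (mk b))
        calc (ρ (φ (a * b)))⁻¹ * R (mk (a * b))
            = (ρ (φ b))⁻¹ * ((ρ (φ a))⁻¹ * R (mk a)) * R (mk b) := by
              simp only [map_mul, mul_inv_rev, mul_assoc]
          _ = (ρ (φ a))⁻¹ * R (mk a) * (ρ (φ b))⁻¹ * R (mk b) := by
              rw [mem_center_iff.1 (hdiff a) (ρ (φ b))⁻¹]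
          _ = _ := by simp only [mul_assoc]) }
  have hδ : δ (m : Ext π) = 1 :=
    MonoidHom.mem_ker.1 ((show commutator (Ext π) ≤ δ.ker from (commutator_le).2 fun a _ b _ => by
      rw [MonoidHom.mem_ker, map_commutatorElement, commutatorElement_eq_one_iff_mul_comm]
      exact Subtype.ext (mem_center_iff.1 (δ b).2 (δ a : GL (Fin d) ℂ))) (Subgroup.mem_inf.1 m.2).2)
  have h2 : (ρ (φ m))⁻¹ * R (mk m) = 1 := congrArg Subtype.val hδ
  rw [show φ m = 1 from congrArg Subtype.val hm, map_one, inv_one, one_mul,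
    show mk (m : Ext π) = ((⟨mk (m : Ext π), hmker⟩ : τ.ker) : Δ) from rfl, hRscal] at h2
  haveI : Nonempty (Fin d) := ⟨⟨0, hd⟩⟩
  exact hχ ((Units.map_injective (RingHom.injective (algebraMap ℂ (Matrix (Fin d) (Fin d) ℂ)))
    (h2.trans (map_one _).symm)))

end CfsgLib.Schur
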