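/-
Codes for the field with eight elements.
-/
import Mathlib

set_option autoImplicit false

namespace CfsgLib.Schur.Sz8

open Polynomial

variable {F : Type*} [Field F] [CharP F 2]

/-- The element of a three-bit code. -/
def f8 (ω : F) (k : ℕ) : F :=
  ((k % 2 : ℕ) : F) + ((k / 2 % 2 : ℕ) : F) * ω + ((k / 4 % 2 : ℕ) : F) * ω ^ 2

theorem cast_mod_two (n : ℕ) : ((n % 2 : ℕ) : F) = (n : F) := (CharP.cast_eq_mod F 2 n).symm

theorem xor_div (x y : ℕ) : (x ^^^ y) / 2 = x / 2 ^^^ y / 2 := Nat.xor_div_two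

theorem f8_xor (ω : F) (x y : ℕ) : f8 ω (x ^^^ y) = f8 ω x + f8 ω y := by
  have h4 : ∀ z : ℕ, z / 4 = z / 2 / 2 := fun z => (Nat.div_div_eq_div_mul z 2 2).symm
  rw [f8, f8, f8, h4, h4, h4, xor_div, xor_div]
  simp only [Nat.xor_mod_two_eq, cast_mod_two, Nat.cast_add]
  ring

/-- Multiplication of a code by the root. -/
def shl (x : ℕ) : ℕ := ([0, 2, 4, 6, 3, 1, 7, 5] : List ℕ).getD (x % 8) 0

theorem f8_mod (ω : F) (x : ℕ) : f8 ω x = f8 ω (x % 8) := by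
  rw [f8, f8, show x % 8 % 2 = x % 2 by omega, show x % 8 / 2 % 2 = x / 2 % 2 by omega,
    show x % 8 / 4 % 2 = x / 4 % 2 by omega]

theorem f8_shl {ω : F} (hω : ω ^ 3 = ω + 1) (x : ℕ) : f8 ω (shl x) = ω * f8 ω x := by
  rw [f8_mod ω x, shl]
  have := Nat.mod_lt x (show 0 < 8 by norm_num)
  have h2 : (2 : F) = 0 := CharTwo.two_eq_zero
  interval_cases (x % 8) <;> simp [f8] <;> grind

/-- Multiplication of codes. -/
def mul8 (x y : ℕ) : ℕ := y % 2 * x ^^^ (y / 2 % 2 * shl x) ^^^ (y / 4 % 2 * shl (shl x))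

theorem f8_bit (ω : F) (b x : ℕ) : f8 ω (b % 2 * x) = ((b % 2 : ℕ) : F) * f8 ω x := by
  rcases Nat.mod_two_eq_zero_or_one b with h | h <;> simp [h, f8]

theorem f8_mul {ω : F} (hω : ω ^ 3 = ω + 1) (x y : ℕ) :
    f8 ω (mul8 x y) = f8 ω x * f8 ω y := by
  simp only [mul8, f8_xor, f8_bit, f8_shl hω]
  conv_rhs => rw [show f8 ω y = ((y % 2 : ℕ) : F) + ((y / 2 % 2 : ℕ) : F) * ω +
    ((y / 4 % 2 : ℕ) : F) * ω ^ 2 from rfl]
  ring

theorem f8_one (ω : F) : f8 ω 1 = 1 := by simp [f8]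

theorem f8_zero (ω : F) : f8 ω 0 = 0 := by simp [f8]

theorem f8_two (ω : F) : f8 ω 2 = ω := by simp [f8]

theorem f8_four (ω : F) : f8 ω 4 = ω ^ 2 := by simp [f8]

theorem f8_eq_zero {ω : F} (hω : ω ^ 3 = ω + 1) {x : ℕ} (hx : x < 8) (h : f8 ω x = 0) : x = 0 := by
  have h2 : (2 : F) = 0 := CharTwo.two_eq_zero
  have h01 : (1 : F) ≠ 0 := one_ne_zero
  interval_cases x
  · rfl
  all_goals
    exfalso
    simp [f8] at h <;> grind

theorem f8_injective {ω : F} (hω : ω ^ 3 = ω + 1) {x y : ℕ} (hx : x < 8) (hy : y < 8)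
    (h : f8 ω x = f8 ω y) : x = y := by
  have hlt : x ^^^ y < 2 ^ 3 := Nat.xor_lt_two_pow hx hy
  have := f8_eq_zero hω hlt (by rw [f8_xor, h, CharTwo.add_self_eq_zero])
  exact Nat.xor_eq_zero_iff.1 this

theorem exists_root [Fintype F] (hF : Fintype.card F = 8) :
    ∃ ω : F, ω ^ 3 = ω + 1 ∧ ∀ x : F, ∃ k < 8, f8 ω k = x := by
  have h2 : (2 : F) = 0 := CharTwo.two_eq_zero
  obtain ⟨ω, hω⟩ : ∃ ω : F, ω ^ 3 = ω + 1 := by
    set P : F[X] := (X * (X + 1)) * (X ^ 3 + X ^ 2 + 1) with hP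
    have hd : P.natDegree = 5 := by rw [hP]; compute_degree!
    have hne : P ≠ 0 := fun h => by rw [h, natDegree_zero] at hd; omega
    by_contra hall
    refine hne (eq_zero_of_natDegree_lt_card_of_eval_eq_zero P (f := id) Function.injective_id
      (fun x => ?_) (by rw [hd, hF]; norm_num))
    have hx : x ^ 8 = x := hF ▸ FiniteField.pow_card x
    have hprod : (x * (x + 1)) * (x ^ 3 + x ^ 2 + 1) * (x ^ 3 + x + 1) = 0 := by
      grind
    have hx3 : x ^ 3 + x + 1 ≠ 0 := fun h => hall ⟨x, by grind⟩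
    simpa [hP] using (mul_eq_zero.1 hprod).resolve_right hx3
  refine ⟨ω, hω, fun x => ?_⟩
  have hbij : Function.Bijective fun k : Fin 8 => f8 ω k :=
    (Fintype.bijective_iff_injective_and_card _).2
      ⟨fun a b h => Fin.ext (f8_injective hω a.2 b.2 h), by rw [Fintype.card_fin, hF]⟩
  obtain ⟨k, hk⟩ := hbij.2 x
  exact ⟨k, k.2, hk⟩

end CfsgLib.Schur.Sz8
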