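/-
The multiplier of `Sz(8)` is generated by two involutions: the pairing between the unipotent
radical and its centre is a function on the field modulo the prime field.
-/
import Mathlib
import Cfsg.Agent.Lib.Recognition.Suzuki.Multiplier
import Cfsg.Agent.Lib.Schur.Sz8Field

set_option autoImplicit false

namespace CfsgLib.Schur.Sz8

open Cfsg.Lie CfsgLib.Spectrum CfsgLib.SuzukiLaws CfsgLib.Suzuki CfsgLib.Recognition

variable {F : Type*} [Field F] [Fintype F] [CharP F 2]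
  (hF : Fintype.card F = 2 ^ (2 * 1 + 1))
  {Γ : Type*} [Group Γ] [Finite Γ] {σ : Γ →* Sz F (2 ^ (1 + 1))}

include hF in
/-- The kernel of a stem extension is a `2`-group. -/
theorem isPGroup_ker (hσ : Cfsg.IsStemExtension σ) : IsPGroup 2 σ.ker := by
  obtain ⟨hsurj, hc, h'⟩ := hσ
  refine IsPGroup.of_card (n := (Nat.card σ.ker).primeFactorsList.length) ?_
  refine Nat.eq_prime_pow_of_unique_prime_dvd Nat.card_pos.ne' fun {d} hd hdvd => ?_
  by_contra hd2
  haveI := Fact.mk hd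
  obtain ⟨P⟩ : Nonempty (Sylow d Γ) := inferInstance
  refine CoverKernel.not_dvd_of_abelian_sylow hc h' P ?_ hdvd
  intro x hx y hy
  haveI : IsCyclic ((P : Subgroup Γ).map σ) := sylow_cyclic hF le_rfl hd2 (P.mapSurjective hsurj)
  set g : ↥(P : Subgroup Γ) →* ↥((P : Subgroup Γ).map σ) :=
    (σ.comp (P : Subgroup Γ).subtype).codRestrict _ fun u => ⟨u, u.2, rfl⟩
  have hg : g.ker ≤ Subgroup.center _ := fun u hu => Subgroup.mem_center_iff.2 fun v =>
    Subtype.ext (Subgroup.mem_center_iff.1 (hc (congrArg Subtype.val (MonoidHom.mem_ker.1 hu))) v)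
  exact congrArg Subtype.val (commutative_of_cyclic_center_quotient g hg ⟨x, hx⟩ ⟨y, hy⟩)

include hF in
/-- The multiplier of `Sz(8)` is an image of a four-group. -/
theorem exists_surjection (hσ : Cfsg.IsStemExtension σ) :
    ∃ π : Multiplicative (ZMod 2 × ZMod 2) →* σ.ker, Function.Surjective π := by
  obtain ⟨hsurj, hc, h'⟩ := hσ
  have hF8 : Fintype.card F = 8 := hF
  obtain ⟨ω, hω, hall⟩ := exists_root hF8
  choose L hL using hsurj
  set z : F → F → Γ := fun a b => SzMult.cm (L (U hF a 0)) (L (U hF 0 b)) with hz_def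
  have hcen : ∀ k ∈ σ.ker, ∀ g : Γ, g * k = k * g := fun k hk g => Subgroup.mem_center_iff.1 (hc hk) g
  have hcm : ∀ x x' y y' : Γ, σ x = σ x' → σ y = σ y' → SzMult.cm x y = SzMult.cm x' y' := by
    intro x x' y y' ex ey
    obtain ⟨c, hcm', rfl⟩ : ∃ c ∈ σ.ker, x = c * x' :=
      ⟨x * x'⁻¹, by rw [MonoidHom.mem_ker, map_mul, map_inv, ex, mul_inv_cancel],
        by rw [inv_mul_cancel_right]⟩
    obtain ⟨d, hdm, rfl⟩ : ∃ d ∈ σ.ker, y = d * y' :=
      ⟨y * y'⁻¹, by rw [MonoidHom.mem_ker, map_mul, map_inv, ey, mul_inv_cancel],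
        by rw [inv_mul_cancel_right]⟩
    have c1 : ∀ g, Commute g c := hcen c hcm'
    have d1 : ∀ g, Commute g d := hcen d hdm
    unfold SzMult.cm
    simp only [mul_inv_rev]
    calc c * x' * (d * y') * (x'⁻¹ * c⁻¹) * (y'⁻¹ * d⁻¹)
        = c * (x' * d) * y' * x'⁻¹ * c⁻¹ * y'⁻¹ * d⁻¹ := by group
      _ = c * (d * x') * y' * x'⁻¹ * c⁻¹ * y'⁻¹ * d⁻¹ := by rw [(d1 x').eq]
      _ = (c * d) * (x' * y' * x'⁻¹ * c⁻¹) * y'⁻¹ * d⁻¹ := by group
      _ = (c * d) * (c⁻¹ * (x' * y' * x'⁻¹)) * y'⁻¹ * d⁻¹ := by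
        rw [((c1 (x' * y' * x'⁻¹)).inv_right).eq]
      _ = d * c * c⁻¹ * (x' * y' * x'⁻¹ * y'⁻¹) * d⁻¹ := by rw [(d1 c).eq]; group
      _ = d * (x' * y' * x'⁻¹ * y'⁻¹) * d⁻¹ := by group
      _ = _ := by rw [← (d1 (x' * y' * x'⁻¹ * y'⁻¹)).eq, mul_inv_cancel_right]
  have hzker : ∀ a b, z a b ∈ σ.ker := fun a b => by
    show σ (SzMult.cm _ _) = 1
    unfold SzMult.cm
    rw [map_mul, map_mul, map_mul, map_inv, map_inv, hL, hL, mul_inv_eq_one, mul_inv_eq_iff_eq_mul,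
      U_mul, U_mul]
    congr 1 <;> simp [add_comm]
  -- invariance under the torus
  have hzT : ∀ (s : Fˣ) a b, z ((s : F) ^ 4 * a) ((s : F) ^ 6 * b) = z a b := fun s a b => by
    set t := L (T hF s)
    have e : ∀ a b, σ (t * L (U hF a b) * t⁻¹) =
        σ (L (U hF ((s : F) ^ 4 * a) ((s : F) ^ 6 * b))) := fun a b => by
      rw [map_mul, map_mul, map_inv, hL, hL, hL, T_mul_U, mul_inv_cancel_right]
      rfl
    show SzMult.cm _ _ = SzMult.cm _ _
    have e1 := e a 0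
    have e2 := e 0 b
    rw [mul_zero] at e1 e2
    rw [← hcm _ _ _ _ e1 e2]
    have e3 : SzMult.cm (t * L (U hF a 0) * t⁻¹) (t * L (U hF 0 b) * t⁻¹) =
        t * SzMult.cm (L (U hF a 0)) (L (U hF 0 b)) * t⁻¹ := by unfold SzMult.cm; group
    rw [e3, hcen _ (hzker a b) t, mul_inv_cancel_right]
  have hzadd : ∀ a b b', z a (b + b') = z a b * z a b' := fun a b b' => by
    show SzMult.cm _ _ = _
    rw [hcm _ (L (U hF a 0)) _ (L (U hF 0 b) * L (U hF 0 b')) rfl
      (by rw [map_mul, hL, hL, hL, U_mul]; simp)]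
    have e : SzMult.cm (L (U hF a 0)) (L (U hF 0 b) * L (U hF 0 b')) =
        z a b * (L (U hF 0 b) * z a b' * (L (U hF 0 b))⁻¹) := by
      simp only [hz_def, SzMult.cm]; group
    rw [e, hcen _ (hzker a b') _, mul_inv_cancel_right]
  have hz0r : ∀ a, z a 0 = 1 := fun a => by
    have := hzadd a 0 0
    rw [add_zero] at this
    exact left_eq_mul.1 this
  have hz0l : ∀ b, z 0 b = 1 := fun b => by
    show SzMult.cm _ _ = 1
    rw [hcm _ 1 _ (L (U hF 0 b)) (by rw [hL, U_zero, map_one]) rfl]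
    simp [SzMult.cm]
  have hz11 : z 1 1 = 1 := by
    show SzMult.cm _ _ = 1
    rw [hcm _ (L (U hF 1 0)) _ (L (U hF 1 0) * L (U hF 1 0)) rfl (by
      rw [map_mul, hL, hL, U_mul]; simp [CharTwo.add_self_eq_zero])]
    unfold SzMult.cm
    group
  have hzval : ∀ a b, ∃ b', z a b = z 1 b' := fun a b => by
    rcases eq_or_ne a 0 with rfl | ha
    · exact ⟨0, by rw [hz0l, hz0r]⟩
    · have h7 : a ^ 7 = 1 := by
        have := FiniteField.pow_card_sub_one_eq_one a ha
        rwa [hF8] at this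
      refine ⟨a ^ 2 * b, ?_⟩
      have := hzT (Units.mk0 (a ^ 5) (pow_ne_zero _ ha)) a b
      rw [Units.val_mk0] at this
      rw [← this]
      congr 1
      · linear_combination (a ^ 14 + a ^ 7 + 1) * h7
      · linear_combination b * a ^ 2 * (a ^ 21 + a ^ 14 + a ^ 7 + 1) * h7
  have hsq : ∀ a b, z a b * z a b = 1 := fun a b => by
    rw [← hzadd, CharTwo.add_self_eq_zero, hz0r]
  -- the subgroup of values of the pairing
  set z1 : Γ := z 1 ω
  set z2 : Γ := z 1 (ω ^ 2)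
  set A : Subgroup Γ := Subgroup.closure {z1, z2}
  have hA : A ≤ σ.ker := (Subgroup.closure_le _).2 (by
    rintro x (rfl | rfl) <;> exact hzker _ _)
  haveI : A.Normal := ⟨fun k hk g => by rwa [hcen k (hA hk) g, mul_inv_cancel_right]⟩
  have hzA : ∀ a b, z a b ∈ A := fun a b => by
    obtain ⟨b', e⟩ := hzval a b
    rw [e]
    obtain ⟨k, hk, rfl⟩ := hall b'
    have hcast : ∀ (n : ℕ) (c : F), z 1 (((n % 2 : ℕ) : F) * c) ∈ Subgroup.zpowers (z 1 c) :=
      fun n c => by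
        rcases Nat.mod_two_eq_zero_or_one n with h | h
        · rw [h, Nat.cast_zero, zero_mul, hz0r]; exact one_mem _
        · rw [h, Nat.cast_one, one_mul]; exact Subgroup.mem_zpowers _
    rw [f8, hzadd, hzadd]
    refine mul_mem (mul_mem ?_ ?_) ?_
    · rcases Nat.mod_two_eq_zero_or_one k with h | h
      · rw [h, Nat.cast_zero, hz0r]; exact one_mem _
      · rw [h, Nat.cast_one, hz11]; exact one_mem _
    · exact (Subgroup.zpowers_le (g := z1) (H := A)).2 (Subgroup.subset_closure (Or.inl rfl)) (hcast _ _)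
    · exact (Subgroup.zpowers_le (g := z2) (H := A)).2 (Subgroup.subset_closure (Or.inr rfl)) (hcast _ _)
  -- the quotient has trivial kernel
  set σ' : Γ ⧸ A →* Sz F (2 ^ (1 + 1)) := QuotientGroup.lift A σ hA
  have hσ' : ∀ g, σ' (QuotientGroup.mk g) = σ g := fun g => rfl
  have hkerA : σ'.ker = ⊥ := by
    refine SzMult.kernel_two_eq_bot' hF σ' le_rfl (Or.inr ?_)
      (fun q => ⟨QuotientGroup.mk (L q), (hσ' _).trans (hL q)⟩) ?_ ?_ ?_
    · intro x y a b hx hy
      obtain ⟨x, rfl⟩ := QuotientGroup.mk_surjective x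
      obtain ⟨y, rfl⟩ := QuotientGroup.mk_surjective y
      rw [hσ'] at hx hy
      show QuotientGroup.mk' A (SzMult.cm x y) = 1
      rw [QuotientGroup.mk'_apply, QuotientGroup.eq_one_iff,
        hcm x _ y _ (hx.trans (hL _).symm) (hy.trans (hL _).symm)]
      exact hzA a b
    · intro q hq
      obtain ⟨g, rfl⟩ := QuotientGroup.mk_surjective q
      refine Subgroup.mem_center_iff.2 fun r => ?_
      obtain ⟨g', rfl⟩ := QuotientGroup.mk_surjective r
      rw [← QuotientGroup.mk_mul, ← QuotientGroup.mk_mul, hcen g hq g']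
    · intro q hq
      obtain ⟨g, rfl⟩ := QuotientGroup.mk_surjective q
      have := Subgroup.mem_map_of_mem (QuotientGroup.mk' A) (h' hq)
      rw [_root_.commutator_def, Subgroup.map_commutator] at this
      exact Subgroup.commutator_mono le_top le_top this
    · intro q
      obtain ⟨g, hg⟩ := QuotientGroup.mk_surjective (q : Γ ⧸ A)
      have hgk : g ∈ σ.ker := by
        have := q.2
        rwa [← hg] at this
      obtain ⟨n, hn⟩ := isPGroup_ker hF ⟨fun q => ⟨L q, hL q⟩, hc, h'⟩ ⟨g, hgk⟩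
      exact ⟨n, Subtype.ext (by
        rw [SubmonoidClass.coe_pow, ← hg, ← QuotientGroup.mk_pow,
          show g ^ 2 ^ n = 1 from congrArg Subtype.val hn, QuotientGroup.mk_one]; rfl)⟩
  have hk1 : z1 * z1 = 1 := hsq _ _
  have hk2 : z2 * z2 = 1 := hsq _ _
  set p1 : σ.ker := ⟨z1, hzker _ _⟩
  set p2 : σ.ker := ⟨z2, hzker _ _⟩
  have hp1 : p1 ^ 2 = 1 := (pow_two p1).trans (Subtype.ext hk1)
  have hp2 : p2 ^ 2 = 1 := (pow_two p2).trans (Subtype.ext hk2)
  have hcomm : ∀ x y : σ.ker, x * y = y * x := fun x y => Subtype.ext (hcen y y.2 x)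
  let π : Multiplicative (ZMod 2 × ZMod 2) →* σ.ker := MonoidHom.mk'
    (fun t => p1 ^ (Multiplicative.toAdd t).1.val * p2 ^ (Multiplicative.toAdd t).2.val) fun s t => by
    simp only [toAdd_mul, Prod.fst_add, Prod.snd_add, ZMod.val_add]
    rw [← pow_eq_pow_mod _ hp1, ← pow_eq_pow_mod _ hp2, pow_add p1, pow_add p2]
    rw [mul_assoc, mul_assoc, ← mul_assoc (p1 ^ _) (p2 ^ _), hcomm (p1 ^ (Multiplicative.toAdd t).1.val)
      (p2 ^ _), mul_assoc]
  have hrange : A ≤ π.range.map σ.ker.subtype := (Subgroup.closure_le _).2 (by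
    rintro x (rfl | rfl)
    · exact ⟨p1, ⟨Multiplicative.ofAdd (1, 0), by show p1 ^ 1 * p2 ^ 0 = p1; simp⟩, rfl⟩
    · exact ⟨p2, ⟨Multiplicative.ofAdd (0, 1), by show p1 ^ 0 * p2 ^ 1 = p2; simp⟩, rfl⟩)
  refine ⟨π, fun k => ?_⟩
  have hkA : (k : Γ) ∈ A := by
    rw [← QuotientGroup.eq_one_iff (N := A), ← Subgroup.mem_bot, ← hkerA, MonoidHom.mem_ker, hσ']
    exact k.2
  obtain ⟨q, ⟨t, rfl⟩, hq⟩ := hrange hkA
  exact ⟨t, Subtype.ext hq⟩

end CfsgLib.Schur.Sz8
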