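/-
Tables for the double covers of `Sz(8)`: signed permutations of eight points, the Weyl matrices,
and the Bruhat relations.
-/

set_option autoImplicit false

namespace CfsgLib.Schur.Sz8

/-- The lifts of the unipotent radical in the two covers. -/
def tblL : List (List (List Nat)) :=
  [
    [[0, 1, 2, 3, 4, 5, 6, 7],
     [1, 0, 3, 2, 13, 4, 15, 6],
     [2, 3, 0, 9, 6, 7, 4, 13],
     [3, 10, 1, 0, 7, 6, 5, 12],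
     [4, 5, 6, 7, 0, 9, 10, 3],
     [5, 4, 15, 14, 1, 0, 3, 2],
     [6, 7, 12, 5, 2, 11, 0, 1],
     [7, 14, 5, 4, 11, 2, 1, 0],
     [0, 1, 2, 3, 12, 13, 14, 15],
     [1, 0, 3, 2, 5, 12, 7, 14],
     [2, 3, 0, 9, 14, 15, 12, 5],
     [3, 10, 1, 0, 15, 14, 13, 4],
     [4, 5, 6, 7, 8, 1, 2, 11],
     [5, 4, 15, 14, 9, 8, 11, 10],
     [6, 7, 12, 5, 10, 3, 8, 9],
     [7, 14, 5, 4, 3, 10, 9, 8],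
     [0, 9, 10, 3, 12, 5, 6, 15],
     [1, 8, 11, 2, 5, 4, 15, 14],
     [2, 11, 8, 9, 14, 7, 4, 5],
     [3, 2, 9, 0, 15, 6, 5, 4],
     [4, 13, 14, 7, 8, 9, 10, 11],
     [5, 12, 7, 14, 9, 0, 3, 10],
     [6, 15, 4, 5, 10, 11, 0, 9],
     [7, 6, 13, 4, 3, 2, 1, 8],
     [0, 9, 10, 3, 4, 13, 14, 7],
     [1, 8, 11, 2, 13, 12, 7, 6],
     [2, 11, 8, 9, 6, 15, 12, 13],
     [3, 2, 9, 0, 7, 14, 13, 12],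
     [4, 13, 14, 7, 0, 1, 2, 3],
     [5, 12, 7, 14, 1, 8, 11, 2],
     [6, 15, 4, 5, 2, 3, 8, 1],
     [7, 6, 13, 4, 11, 10, 9, 0],
     [0, 1, 10, 11, 4, 5, 14, 15],
     [1, 0, 11, 10, 13, 4, 7, 14],
     [2, 3, 8, 1, 6, 7, 12, 5],
     [3, 10, 9, 8, 7, 6, 13, 4],
     [4, 5, 14, 15, 0, 9, 2, 11],
     [5, 4, 7, 6, 1, 0, 11, 10],
     [6, 7, 4, 13, 2, 11, 8, 9],
     [7, 14, 13, 12, 11, 2, 9, 8],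
     [0, 1, 10, 11, 12, 13, 6, 7],
     [1, 0, 11, 10, 5, 12, 15, 6],
     [2, 3, 8, 1, 14, 15, 4, 13],
     [3, 10, 9, 8, 15, 14, 5, 12],
     [4, 5, 14, 15, 8, 1, 10, 3],
     [5, 4, 7, 6, 9, 8, 3, 2],
     [6, 7, 4, 13, 10, 3, 0, 1],
     [7, 14, 13, 12, 3, 10, 1, 0],
     [0, 9, 2, 11, 12, 5, 14, 7],
     [1, 8, 3, 10, 5, 4, 7, 6],
     [2, 11, 0, 1, 14, 7, 12, 13],
     [3, 2, 1, 8, 15, 6, 13, 12],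
     [4, 13, 6, 15, 8, 9, 2, 3],
     [5, 12, 15, 6, 9, 0, 11, 2],
     [6, 15, 12, 13, 10, 11, 8, 1],
     [7, 6, 5, 12, 3, 2, 9, 0],
     [0, 9, 2, 11, 4, 13, 6, 15],
     [1, 8, 3, 10, 13, 12, 15, 14],
     [2, 11, 0, 1, 6, 15, 4, 5],
     [3, 2, 1, 8, 7, 14, 5, 4],
     [4, 13, 6, 15, 0, 1, 10, 11],
     [5, 12, 15, 6, 1, 8, 3, 10],
     [6, 15, 12, 13, 2, 3, 0, 9],
     [7, 6, 5, 12, 11, 10, 1, 8]],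
    [[0, 1, 2, 3, 4, 5, 6, 7],
     [1, 0, 11, 2, 5, 4, 15, 6],
     [2, 3, 0, 1, 14, 7, 4, 13],
     [3, 10, 1, 0, 7, 6, 13, 4],
     [4, 5, 6, 15, 0, 9, 2, 3],
     [5, 12, 7, 14, 1, 0, 3, 2],
     [6, 7, 12, 5, 2, 3, 0, 9],
     [7, 6, 5, 4, 11, 10, 1, 0],
     [0, 1, 10, 11, 4, 5, 14, 15],
     [1, 0, 3, 10, 5, 4, 7, 14],
     [2, 3, 8, 9, 14, 7, 12, 5],
     [3, 10, 9, 8, 7, 6, 5, 12],
     [4, 5, 14, 7, 0, 9, 10, 11],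
     [5, 12, 15, 6, 1, 0, 11, 10],
     [6, 7, 4, 13, 2, 3, 8, 1],
     [7, 6, 13, 12, 11, 10, 9, 8],
     [0, 9, 10, 3, 4, 13, 14, 7],
     [1, 8, 3, 2, 5, 12, 7, 6],
     [2, 11, 8, 1, 14, 15, 12, 13],
     [3, 2, 9, 0, 7, 14, 5, 4],
     [4, 13, 14, 15, 0, 1, 10, 3],
     [5, 4, 15, 14, 1, 8, 11, 2],
     [6, 15, 4, 5, 2, 11, 8, 9],
     [7, 14, 13, 4, 11, 2, 9, 0],
     [0, 9, 2, 11, 4, 13, 6, 15],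
     [1, 8, 11, 10, 5, 12, 15, 14],
     [2, 11, 0, 9, 14, 15, 4, 5],
     [3, 2, 1, 8, 7, 14, 13, 12],
     [4, 13, 6, 7, 0, 1, 2, 11],
     [5, 4, 7, 6, 1, 8, 3, 10],
     [6, 15, 12, 13, 2, 11, 0, 1],
     [7, 14, 5, 12, 11, 2, 1, 8],
     [0, 9, 2, 11, 12, 5, 14, 7],
     [1, 8, 11, 10, 13, 4, 7, 6],
     [2, 11, 0, 9, 6, 7, 12, 13],
     [3, 2, 1, 8, 15, 6, 5, 4],
     [4, 13, 6, 7, 8, 9, 10, 3],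
     [5, 4, 7, 6, 9, 0, 11, 2],
     [6, 15, 12, 13, 10, 3, 8, 9],
     [7, 14, 5, 12, 3, 10, 9, 0],
     [0, 9, 10, 3, 12, 5, 6, 15],
     [1, 8, 3, 2, 13, 4, 15, 14],
     [2, 11, 8, 1, 6, 7, 4, 5],
     [3, 2, 9, 0, 15, 6, 13, 12],
     [4, 13, 14, 15, 8, 9, 2, 11],
     [5, 4, 15, 14, 9, 0, 3, 10],
     [6, 15, 4, 5, 10, 3, 0, 1],
     [7, 14, 13, 4, 3, 10, 1, 8],
     [0, 1, 10, 11, 12, 13, 6, 7],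
     [1, 0, 3, 10, 13, 12, 15, 6],
     [2, 3, 8, 9, 6, 15, 4, 13],
     [3, 10, 9, 8, 15, 14, 13, 4],
     [4, 5, 14, 7, 8, 1, 2, 3],
     [5, 12, 15, 6, 9, 8, 3, 2],
     [6, 7, 4, 13, 10, 11, 0, 9],
     [7, 6, 13, 12, 3, 2, 1, 0],
     [0, 1, 2, 3, 12, 13, 14, 15],
     [1, 0, 11, 2, 13, 12, 7, 14],
     [2, 3, 0, 1, 6, 15, 12, 5],
     [3, 10, 1, 0, 15, 14, 5, 12],
     [4, 5, 6, 15, 8, 1, 10, 11],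
     [5, 12, 7, 14, 9, 8, 11, 10],
     [6, 7, 12, 5, 10, 11, 8, 1],
     [7, 6, 5, 4, 3, 2, 9, 8]]]

/-- The lift of the torus generator. -/
def tblT : List Nat := [0, 6, 7, 1, 5, 3, 2, 4]

/-- The lifts of the Weyl element. -/
def tblW : List (List (List Nat)) :=
  [[[3, 4, 4, 4, 4, 4, 4, 4], [4, 2, 0, 2, 2, 4, 1, 1], [4, 0, 2, 1, 2, 2, 1, 4], [4, 2, 1, 4, 1, 2, 2, 0], [4, 2, 2, 1, 1, 0, 4, 2], [4, 4, 2, 2, 0, 1, 2, 1], [4, 1, 1, 2, 4, 2, 0, 2], [4, 1, 4, 0, 2, 1, 2, 2]],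
   [[3, 4, 4, 4, 4, 4, 4, 4], [4, 2, 1, 1, 0, 2, 2, 4], [4, 1, 0, 2, 1, 2, 4, 2], [4, 1, 2, 2, 4, 0, 2, 1], [4, 0, 1, 4, 2, 1, 2, 2], [4, 2, 2, 0, 1, 4, 1, 2], [4, 2, 4, 2, 2, 1, 1, 0], [4, 4, 2, 1, 2, 2, 0, 1]]]

/-- The relations `w u w = u₁ t w u₂`. -/
def tblB : List (Nat × Nat × Nat) :=
  [(0, 0, 0), (1, 0, 8), (5, 3, 32), (6, 2, 40), (7, 6, 48), (2, 4, 56), (3, 5, 16),
   (4, 1, 24), (9, 0, 1), (8, 0, 9), (57, 2, 51), (42, 1, 23), (25, 4, 21),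
   (60, 2, 35), (41, 1, 39), (30, 4, 53), (46, 2, 6), (62, 3, 20), (34, 6, 27),
   (40, 2, 46), (53, 4, 17), (63, 3, 12), (54, 4, 25), (38, 6, 11), (55, 6, 7),
   (12, 3, 22), (33, 1, 42), (39, 1, 18), (48, 6, 55), (31, 0, 43), (15, 3, 62),
   (29, 0, 59), (58, 4, 2), (26, 6, 38), (18, 1, 41), (50, 5, 13), (52, 5, 45),
   (56, 4, 58), (23, 1, 33), (27, 6, 14), (19, 5, 3), (14, 6, 34), (11, 6, 26),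
   (47, 0, 29), (49, 2, 60), (51, 2, 36), (16, 5, 19), (43, 0, 61), (28, 1, 4),
   (44, 5, 50), (35, 2, 49), (45, 5, 10), (36, 2, 57), (20, 3, 15), (22, 3, 63),
   (24, 1, 28), (37, 3, 5), (10, 5, 52), (32, 3, 37), (61, 0, 31), (13, 5, 44),
   (59, 0, 47), (17, 4, 30), (21, 4, 54)]

end CfsgLib.Schur.Sz8
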