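/-
Signed permutations and matrices given by codes, and the checks on the double covers of `Sz(8)`.
-/
import Mathlib
import Cfsg.Agent.Lib.Schur.Sz8Field
import Cfsg.Agent.Lib.Schur.Sz8Data

set_option autoImplicit false
set_option maxRecDepth 100000

namespace CfsgLib.Schur.Sz8

open Matrix

/-- The ring of entries. -/
abbrev Mat := Matrix (Fin 8) (Fin 8) (ZMod 5)

/-- An entry of a code of a signed permutation. -/
def ent (c i : ℕ) : ℕ := if c % 8 = i then (if c / 8 % 2 = 1 then 4 else 1) else 0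

/-- The matrix of a code of a signed permutation. -/
def mon (x : List ℕ) : Mat := Matrix.of fun i j => (ent (x.getD j.val 0) i.val : ZMod 5)

/-- The code of a composite. -/
def comp (x y : List ℕ) : List ℕ :=
  (List.range 8).map fun j => x.getD (y.getD j 0 % 8) 0 % 8 +
    8 * ((x.getD (y.getD j 0 % 8) 0 / 8 + y.getD j 0 / 8) % 2)

theorem sign_mul (a b : ℕ) :
    ((if (a + b) % 2 = 1 then 4 else 1 : ℕ) : ZMod 5) =
      ((if a % 2 = 1 then 4 else 1 : ℕ) : ZMod 5) * ((if b % 2 = 1 then 4 else 1 : ℕ) : ZMod 5) := by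
  rw [Nat.add_mod]
  rcases Nat.mod_two_eq_zero_or_one a with h | h <;>
    rcases Nat.mod_two_eq_zero_or_one b with h' | h' <;> rw [h, h'] <;> decide

theorem getD_range_map {α : Type*} (f : ℕ → α) (n i : ℕ) (d : α) (hi : i < n) :
    ((List.range n).map f).getD i d = f i := by
  rw [List.getD_eq_getElem _ _ (by simpa using hi), List.getElem_map, List.getElem_range]

theorem mon_comp (x y : List ℕ) : mon (comp x y) = mon x * mon y := by
  ext i j : 1
  set d := y.getD j.val 0 with hd
  set d' : Fin 8 := ⟨d % 8, Nat.mod_lt _ (by norm_num)⟩ with hd'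
  have e : (comp x y).getD j.val 0 =
      x.getD (d % 8) 0 % 8 + 8 * ((x.getD (d % 8) 0 / 8 + d / 8) % 2) := by
    rw [comp, getD_range_map _ _ _ _ j.2]
  rw [Matrix.mul_apply, Finset.sum_eq_single d']
  · show ((ent _ _ : ℕ) : ZMod 5) = (ent (x.getD (d % 8) 0) i.val : ZMod 5) * (ent d (d % 8) : ZMod 5)
    set c := x.getD (d % 8) 0
    rw [e, ent, ent, ent, if_pos (rfl : d % 8 = d % 8),
      show (c % 8 + 8 * ((c / 8 + d / 8) % 2)) % 8 = c % 8 by omega,
      show (c % 8 + 8 * ((c / 8 + d / 8) % 2)) / 8 % 2 = (c / 8 + d / 8) % 2 by omega]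
    by_cases h1 : c % 8 = i.val
    · rw [if_pos h1, if_pos h1]; exact sign_mul (c / 8) (d / 8)
    · rw [if_neg h1, if_neg h1, Nat.cast_zero, zero_mul]
  · intro k _ hk
    have : ¬ d % 8 = k.val := fun h => hk (Fin.ext h.symm)
    show _ * ((ent d k.val : ℕ) : ZMod 5) = 0
    rw [ent, if_neg this, Nat.cast_zero, mul_zero]
  · simp

/-- The code of the identity. -/
def oneM : List ℕ := [0, 1, 2, 3, 4, 5, 6, 7]

/-- The code of the negative. -/
def negM (x : List ℕ) : List ℕ := comp [8, 9, 10, 11, 12, 13, 14, 15] x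

/-- The matrix of a table. -/
def dns (A : List (List ℕ)) : Mat := Matrix.of fun i j => ((A.getD i.val []).getD j.val 0 : ZMod 5)

/-- The table of a signed permutation. -/
def monD (x : List ℕ) : List (List ℕ) :=
  (List.range 8).map fun i => (List.range 8).map fun j => ent (x.getD j 0) i

theorem dns_monD (x : List ℕ) : dns (monD x) = mon x := by
  ext i j : 1
  simp only [dns, monD, Matrix.of_apply]
  rw [getD_range_map _ _ _ _ i.2, getD_range_map _ _ _ _ j.2]
  rfl

/-- The code of a product of tables. -/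
def mulD (A B : List (List ℕ)) : List (List ℕ) :=
  (List.range 8).map fun i => (List.range 8).map fun j =>
    ((A.getD i []).getD 0 0 * (B.getD 0 []).getD j 0 + (A.getD i []).getD 1 0 * (B.getD 1 []).getD j 0
      + (A.getD i []).getD 2 0 * (B.getD 2 []).getD j 0 + (A.getD i []).getD 3 0 * (B.getD 3 []).getD j 0
      + (A.getD i []).getD 4 0 * (B.getD 4 []).getD j 0 + (A.getD i []).getD 5 0 * (B.getD 5 []).getD j 0
      + (A.getD i []).getD 6 0 * (B.getD 6 []).getD j 0
      + (A.getD i []).getD 7 0 * (B.getD 7 []).getD j 0) % 5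

theorem dns_mulD (A B : List (List ℕ)) : dns (mulD A B) = dns A * dns B := by
  ext i j : 1
  simp only [dns, mulD, Matrix.of_apply, Matrix.mul_apply, Fin.sum_univ_eight]
  rw [getD_range_map _ _ _ _ i.2, getD_range_map _ _ _ _ j.2, ZMod.natCast_mod]
  push_cast
  rfl

/-- The lift of an element of the radical. -/
def cL (e k : ℕ) : List ℕ := (tblL.getD e []).getD k []

/-- The powers of the lift of the torus generator. -/
def cT : ℕ → List ℕ
  | 0 => oneM
  | n + 1 => comp (cT n) tblT

/-- The lift of the Weyl element. -/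
def cW (e : ℕ) : List (List ℕ) := tblW.getD e []

/-- The fourth power of a code. -/
def pow4 (a : ℕ) : ℕ := mul8 (mul8 a a) (mul8 a a)

/-- The code of a product in the radical. -/
def mulU (k l : ℕ) : ℕ :=
  (k % 8 ^^^ l % 8) + 8 * (k / 8 ^^^ l / 8 ^^^ mul8 (k % 8) (pow4 (l % 8)))

/-- The code of a conjugate by the torus generator. -/
def conjU (k : ℕ) : ℕ := mul8 6 (k % 8) + 8 * mul8 5 (k / 8)

/-- Equality up to sign. -/
def eqS (x y : List ℕ) : Bool := decide (x = y) || decide (x = negM y)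

/-- Equality of tables up to sign. -/
def eqD (A B : List (List ℕ)) : Bool :=
  decide (A = B) || decide (A = B.map fun r => r.map fun c => 4 * c % 5)

/-- The generators of the radical. -/
def genU (j : ℕ) : ℕ := if j < 8 then j else 8 * (j - 8)

theorem checkSplit : ∀ e < 2, ∀ k < 64, comp (cL e (k % 8)) (cL e (8 * (k / 8))) = cL e k := by
  decide +kernel

theorem checkMul : ∀ e < 2, ∀ k < 64, ∀ j < 16,
    eqS (comp (cL e k) (cL e (genU j))) (cL e (mulU k (genU j))) = true := by
  decide +kernel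

theorem checkTorus : ∀ e < 2, ∀ k < 64,
    eqS (comp tblT (cL e k)) (comp (cL e (conjU k)) tblT) = true := by
  decide +kernel

theorem checkOne : ∀ e < 2, cL e 0 = oneM ∧ cT 7 = oneM := by
  decide +kernel

theorem checkWeyl : ∀ e < 2, mulD (cW e) (cW e) = monD oneM ∧
    mulD (cW e) (monD tblT) = mulD (monD (cT 6)) (cW e) := by
  decide +kernel

/-- The code of the matrix of an element of the radical. -/
def cU (k : ℕ) : List ℕ :=
  let a := k % 8
  let b := k / 8
  let a4 := pow4 a
  [1, a, b, mul8 a b ^^^ mul8 (mul8 a a) a4 ^^^ pow4 b,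
   0, 1, a4, b ^^^ mul8 a a4,
   0, 0, 1, a,
   0, 0, 0, 1]

/-- The code of a power of the root. -/
def cPow : ℕ → ℕ
  | 0 => 1
  | n + 1 => mul8 (cPow n) 2

/-- The code of the matrix of a torus element. -/
def cD (i : ℕ) : List ℕ :=
  [cPow (5 * i), 0, 0, 0, 0, cPow i, 0, 0, 0, 0, cPow (6 * i), 0, 0, 0, 0, cPow (30 * i)]

/-- The code of the Weyl element. -/
def cJ : List ℕ := [0, 0, 0, 1, 0, 0, 1, 0, 0, 1, 0, 0, 1, 0, 0, 0]

/-- The code of a product of four by four matrices. -/
def mul4C (A B : List ℕ) : List ℕ :=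
  (List.range 16).map fun k =>
    mul8 (A.getD (4 * (k / 4)) 0) (B.getD (k % 4) 0) ^^^
    mul8 (A.getD (4 * (k / 4) + 1) 0) (B.getD (4 + k % 4) 0) ^^^
    mul8 (A.getD (4 * (k / 4) + 2) 0) (B.getD (8 + k % 4) 0) ^^^
    mul8 (A.getD (4 * (k / 4) + 3) 0) (B.getD (12 + k % 4) 0)

theorem checkSz : ∀ v < 64, v = 0 ∨
    ((tblB.getD v (0, 0, 0)).1 < 64 ∧ (tblB.getD v (0, 0, 0)).2.2 < 64 ∧
      mul4C (mul4C cJ (cU v)) cJ = mul4C (mul4C (mul4C (cU (tblB.getD v (0, 0, 0)).1)
        (cD (tblB.getD v (0, 0, 0)).2.1)) cJ) (cU (tblB.getD v (0, 0, 0)).2.2)) := by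
  decide +kernel

theorem checkRange : (∀ k < 64, ∀ j < 16, mulU k (genU j) < 64) ∧ (∀ k < 64, conjU k < 64) ∧
    (∀ j < 16, genU j < 64) := by
  decide +kernel

/-- The pairs whose commutators separate the two covers. -/
theorem checkComm :
    comp (cL 0 1) (cL 0 48) = negM (comp (cL 0 48) (cL 0 1)) ∧
    comp (cL 1 1) (cL 1 48) = comp (cL 1 48) (cL 1 1) ∧
    comp (cL 1 1) (cL 1 32) = negM (comp (cL 1 32) (cL 1 1)) ∧
    comp (cL 0 1) (cL 0 32) = comp (cL 0 32) (cL 0 1) := by
  decide +kernel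

theorem checkBruhat : ∀ e < 2, ∀ v < 64, v = 0 ∨
    eqD (mulD (mulD (cW e) (monD (cL e v))) (cW e))
      (mulD (mulD (monD (comp (cL e (tblB.getD v (0, 0, 0)).1) (cT (tblB.getD v (0, 0, 0)).2.1))) (cW e))
        (monD (cL e (tblB.getD v (0, 0, 0)).2.2))) = true := by
  decide +kernel

end CfsgLib.Schur.Sz8
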