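/-
The two double covers of `Sz(8)`, as groups of pairs, and their fibre product: a stem extension
with a four-group as kernel.
-/
import Mathlib
import Cfsg.Prelude.Def_KGroupFacts
import Cfsg.Agent.Lib.Recognition.Suzuki.Borel
import Cfsg.Agent.Lib.Schur.Sz8Codes

set_option autoImplicit false
set_option maxRecDepth 10000

namespace CfsgLib.Schur.Sz8

open Matrix Cfsg.Lie CfsgLib.Spectrum CfsgLib.SuzukiLaws CfsgLib.Suzuki CfsgLib.Recognition

universe u

/-! ### Interpretation of the codes -/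

theorem mon_oneM : mon oneM = 1 := by decide +kernel

theorem mon_negM (x : List ℕ) : mon (negM x) = - mon x := by
  rw [negM, mon_comp, show mon [8, 9, 10, 11, 12, 13, 14, 15] = (-1 : Mat) by decide +kernel,
    neg_mul, one_mul]

theorem mon_of_eqS {x y : List ℕ} (h : eqS x y = true) : mon x = mon y ∨ mon x = - mon y := by
  simp only [eqS, Bool.or_eq_true, decide_eq_true_eq] at h
  rcases h with h | h
  · exact Or.inl (by rw [h])
  · exact Or.inr (by rw [h, mon_negM])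

theorem dns_neg (B : List (List ℕ)) :
    dns (B.map fun r => r.map fun c => 4 * c % 5) = - dns B := by
  ext i j : 1
  show ((((B.map fun r => r.map fun c => 4 * c % 5).getD i.val []).getD j.val 0 : ℕ) : ZMod 5) =
    -(((B.getD i.val []).getD j.val 0 : ℕ) : ZMod 5)
  rw [show ([] : List ℕ) = ([] : List ℕ).map fun c => 4 * c % 5 from rfl, List.getD_map,
    show (0 : ℕ) = (fun c => 4 * c % 5) 0 from rfl, List.getD_map]
  simp only [List.map_nil, ZMod.natCast_mod, Nat.cast_mul]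
  rw [show ((4 : ℕ) : ZMod 5) = -1 from rfl, neg_one_mul]

theorem dns_of_eqD {A B : List (List ℕ)} (h : eqD A B = true) : dns A = dns B ∨ dns A = - dns B := by
  simp only [eqD, Bool.or_eq_true, decide_eq_true_eq] at h
  rcases h with h | h
  · exact Or.inl (by rw [h])
  · exact Or.inr (by rw [h, dns_neg])

variable {F : Type u} [Field F] [CharP F 2] {ω : F}

/-- The matrix of a code. -/
def f4 (ω : F) (A : List ℕ) : Matrix (Fin 4) (Fin 4) F :=
  Matrix.of fun i j => f8 ω (A.getD (4 * i.val + j.val) 0)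

theorem f4_mul (hω : ω ^ 3 = ω + 1) (A B : List ℕ) : f4 ω (mul4C A B) = f4 ω A * f4 ω B := by
  ext i j : 1
  have hk : 4 * i.val + j.val < 16 := by omega
  simp only [f4, mul4C, Matrix.of_apply, Matrix.mul_apply, Fin.sum_univ_four]
  rw [getD_range_map _ _ _ _ hk, show (4 * i.val + j.val) / 4 = i.val by omega,
    show (4 * i.val + j.val) % 4 = j.val by omega, f8_xor, f8_xor, f8_xor, f8_mul hω, f8_mul hω,
    f8_mul hω, f8_mul hω]
  simp

theorem f8_pow4 (hω : ω ^ 3 = ω + 1) (a : ℕ) : f8 ω (pow4 a) = f8 ω a ^ 4 := by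
  rw [pow4, f8_mul hω, f8_mul hω]; ring

theorem f8_cPow (hω : ω ^ 3 = ω + 1) : ∀ n, f8 ω (cPow n) = ω ^ n
  | 0 => by rw [cPow, f8_one, pow_zero]
  | n + 1 => by rw [cPow, f8_mul hω, f8_cPow hω n, f8_two, pow_succ]

theorem f4_cU (hω : ω ^ 3 = ω + 1) (k : ℕ) :
    f4 ω (cU k) = uMat 1 (f8 ω (k % 8)) (f8 ω (k / 8)) := by
  ext i j : 1
  fin_cases i <;> fin_cases j <;>
    simp [f4, cU, uMat, f8_zero, f8_one, f8_xor, f8_mul hω, f8_pow4 hω]

theorem f4_cJ : f4 ω cJ = antiJ := by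
  ext i j : 1
  fin_cases i <;> fin_cases j <;> simp [f4, cJ, antiJ, f8_zero, f8_one]

/-- The root as a unit. -/
noncomputable def wu (hω : ω ^ 3 = ω + 1) : Fˣ := Units.mk0 ω fun h => by simp [h] at hω

theorem wu_pow_seven (hω : ω ^ 3 = ω + 1) : wu hω ^ 7 = 1 := by
  have h2 : (2 : F) = 0 := CharTwo.two_eq_zero
  refine Units.ext ?_
  rw [Units.val_pow_eq_pow_val, Units.val_one]
  show ω ^ 7 = 1
  grind

theorem orderOf_wu (hω : ω ^ 3 = ω + 1) : orderOf (wu hω) = 7 := by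
  haveI : Fact (Nat.Prime 7) := ⟨by norm_num⟩
  refine orderOf_eq_prime (wu_pow_seven hω) fun h => ?_
  have h1 : ω = 1 := congrArg Units.val h
  simp [h1] at hω

theorem f4_cD (hω : ω ^ 3 = ω + 1) (i : ℕ) :
    f4 ω (cD i) = diagonal ![((wu hω ^ i : Fˣ) : F) ^ 5, ((wu hω ^ i : Fˣ) : F),
      (((wu hω ^ i)⁻¹ : Fˣ) : F), (((wu hω ^ i)⁻¹ : Fˣ) : F) ^ 5] := by
  have hinv : (((wu hω ^ i)⁻¹ : Fˣ) : F) = ω ^ (6 * i) := by
    have : (wu hω ^ i)⁻¹ = wu hω ^ (6 * i) := inv_eq_of_mul_eq_one_right (by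
      rw [← pow_add, show i + 6 * i = 7 * i by ring, pow_mul, wu_pow_seven, one_pow])
    rw [this, Units.val_pow_eq_pow_val]; rfl
  have hval : ((wu hω ^ i : Fˣ) : F) = ω ^ i := by rw [Units.val_pow_eq_pow_val]; rfl
  rw [hinv, hval]
  ext p r : 1
  fin_cases p <;> fin_cases r <;> simp [f4, cD, f8_zero, f8_cPow hω, ← pow_mul] <;> ring

/-! ### The double covers -/

section Cover

variable [Fintype F] (hF : Fintype.card F = 2 ^ (2 * 1 + 1)) (hω : ω ^ 3 = ω + 1)

/-- The ambient group of pairs. -/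
abbrev Amb (F : Type u) [Field F] : Type u := Matˣ × Sz F (2 ^ (1 + 1))

/-- A unit with the given value, when the value is invertible. -/
noncomputable def toUnit (A : Mat) : Matˣ := Classical.epsilon fun u : Matˣ => (u : Mat) = A

theorem toUnit_val {A : Mat} (h : IsUnit A) : ((toUnit A : Matˣ) : Mat) = A :=
  Classical.epsilon_spec (p := fun u : Matˣ => (u : Mat) = A) h

theorem isUnit_tblT : IsUnit (mon tblT) :=
  IsUnit.of_mul_eq_one (mon (cT 6)) (by rw [← mon_comp, ← mon_oneM]; exact congrArg mon (by decide +kernel))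

/-- The inverse codes of the lifts. -/
theorem isUnit_cL : ∀ e < 2, ∀ k < 64, IsUnit (mon (cL e k)) := by
  intro e he k hk
  have hN : ∀ e < 2, ∀ k < 64, eqS (comp (cL e k) (comp (cL e k) (comp (cL e k) (cL e k)))) oneM = true := by
    decide +kernel
  rcases mon_of_eqS (hN e he k hk) with h | h <;> rw [mon_comp, mon_oneM] at h
  · exact IsUnit.of_mul_eq_one _ h
  · exact IsUnit.of_mul_eq_one (-mon (comp (cL e k) (comp (cL e k) (cL e k)))) (by rw [mul_neg, h, neg_neg])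

theorem isUnit_cW : ∀ e < 2, IsUnit (dns (cW e)) := fun e he =>
  IsUnit.of_mul_eq_one _ (by rw [← dns_mulD, (checkWeyl e he).1, dns_monD, mon_oneM])

/-- The lift of an element of the radical. -/
noncomputable def gL (_hω : ω ^ 3 = ω + 1) (e k : ℕ) : Amb F :=
  (toUnit (mon (cL e k)), U hF (f8 ω (k % 8)) (f8 ω (k / 8)))

/-- The lift of the torus generator. -/
noncomputable def gT : Amb F := (toUnit (mon tblT), T hF (wu hω))

/-- The lift of the Weyl element. -/
noncomputable def gW (e : ℕ) : Amb F := (toUnit (dns (cW e)), W hF)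

/-- The non-trivial central element over the identity. -/
def gZ : Amb F := (-1, 1)

theorem gZ_ne_one : (gZ : Amb F) ≠ 1 := fun h => by
  have h1 : ((-1 : Matˣ) : Mat) 0 0 = (1 : Mat) 0 0 := congrArg (fun g : Amb F => (g.1 : Mat) 0 0) h
  rw [Units.val_neg, Units.val_one, Matrix.neg_apply, Matrix.one_apply_eq] at h1
  exact absurd h1 (by decide)

/-- Membership of the group of two signs. -/
def IsSign (z : Amb F) : Prop := z = 1 ∨ z = gZ

theorem isSign_mul {y z : Amb F} (hy : IsSign y) (hz : IsSign z) : IsSign (y * z) := by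
  rcases hy with rfl | rfl <;> rcases hz with rfl | rfl
  · exact Or.inl (one_mul _)
  · exact Or.inr (one_mul _)
  · exact Or.inr (mul_one _)
  · exact Or.inl (Prod.ext (by simp [gZ]) (one_mul _))

theorem isSign_comm {z : Amb F} (hz : IsSign z) (g : Amb F) : g * z = z * g := by
  rcases hz with rfl | rfl
  · rw [one_mul, mul_one]
  · exact Prod.ext (by simp [gZ]) (by simp [gZ])

theorem exists_sign {x y : Amb F} (h1 : (x.1 : Mat) = y.1 ∨ (x.1 : Mat) = - (y.1 : Mat))
    (h2 : x.2 = y.2) : ∃ z, IsSign z ∧ x = z * y := by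
  rcases h1 with h | h
  · exact ⟨1, Or.inl rfl, by rw [one_mul]; exact Prod.ext (Units.ext h) h2⟩
  · refine ⟨gZ, Or.inr rfl, Prod.ext (Units.ext ?_) (by simp [gZ, h2])⟩
    simp [gZ, h]

theorem gT_val : (gT hF hω).1.1 = mon tblT := toUnit_val isUnit_tblT

theorem gL_val {e k : ℕ} (he : e < 2) (hk : k < 64) : (gL hF hω e k).1.1 = mon (cL e k) :=
  toUnit_val (isUnit_cL e he k hk)

theorem gW_val {e : ℕ} (he : e < 2) : (gW hF e).1.1 = dns (cW e) := toUnit_val (isUnit_cW e he)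

theorem gT_pow_val : ∀ n : ℕ, ((gT hF hω ^ n).1 : Mat) = mon (cT n) ∧
    (gT hF hω ^ n).2 = T hF (wu hω ^ n)
  | 0 => ⟨by rw [pow_zero, cT, mon_oneM]; rfl, by rw [pow_zero, pow_zero, T_one]; rfl⟩
  | n + 1 => by
    obtain ⟨h1, h2⟩ := gT_pow_val n
    refine ⟨?_, ?_⟩
    · rw [pow_succ (gT hF hω), Prod.fst_mul, Units.val_mul, h1, gT_val, cT, mon_comp]
    · rw [pow_succ (gT hF hω), Prod.snd_mul, h2, pow_succ (wu hω), ← T_mul]; rfl

theorem gT_pow_seven : gT hF hω ^ 7 = 1 := by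
  obtain ⟨h1, h2⟩ := gT_pow_val hF hω 7
  refine Prod.ext (Units.ext ?_) ?_
  · rw [h1, (checkOne 0 two_pos).2, mon_oneM]; rfl
  · rw [h2, wu_pow_seven, T_one]; rfl

variable {e : ℕ} (he : e < 2)
include he

theorem gL_zero : gL hF hω e 0 = 1 := by
  refine Prod.ext (Units.ext ?_) ?_
  · rw [gL_val hF hω he (by norm_num), (checkOne e he).1, mon_oneM]; rfl
  · show U hF _ _ = _
    rw [Nat.zero_mod, Nat.zero_div, f8_zero, U_zero]; rfl

theorem gL_split {k : ℕ} (hk : k < 64) :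
    gL hF hω e k = gL hF hω e (k % 8) * gL hF hω e (8 * (k / 8)) := by
  refine Prod.ext (Units.ext ?_) ?_
  · rw [Prod.fst_mul, Units.val_mul, gL_val hF hω he hk, gL_val hF hω he (by omega),
      gL_val hF hω he (by omega), ← mon_comp, checkSplit e he k hk]
  · show U hF _ _ = U hF _ _ * U hF _ _
    rw [U_mul, Nat.mod_mod, show k % 8 / 8 = 0 by omega, show 8 * (k / 8) % 8 = 0 by omega,
      show 8 * (k / 8) / 8 = k / 8 by omega, f8_zero, add_zero, zero_add, zero_pow (by norm_num),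
      mul_zero, add_zero]

theorem gL_gen {k : ℕ} (hk : k < 64) {j : ℕ} (hj : j < 16) :
    ∃ z, IsSign z ∧ gL hF hω e k * gL hF hω e (genU j) = z * gL hF hω e (mulU k (genU j)) := by
  refine exists_sign ?_ ?_
  · rw [Prod.fst_mul, Units.val_mul, gL_val hF hω he hk, gL_val hF hω he (checkRange.2.2 j hj),
      gL_val hF hω he (checkRange.1 k hk j hj), ← mon_comp]
    exact mon_of_eqS (checkMul e he k hk j hj)
  · show U hF _ _ * U hF _ _ = U hF _ _
    set l := genU j
    have hx : k % 8 ^^^ l % 8 < 8 := Nat.xor_lt_two_pow (n := 3) (by omega) (by omega)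
    rw [U_mul, mulU, show ((k % 8 ^^^ l % 8) + 8 * (k / 8 ^^^ l / 8 ^^^ mul8 (k % 8) (pow4 (l % 8)))) % 8
        = k % 8 ^^^ l % 8 by omega,
      show ((k % 8 ^^^ l % 8) + 8 * (k / 8 ^^^ l / 8 ^^^ mul8 (k % 8) (pow4 (l % 8)))) / 8
        = k / 8 ^^^ l / 8 ^^^ mul8 (k % 8) (pow4 (l % 8)) by omega,
      f8_xor, f8_xor, f8_xor, f8_mul hω, f8_pow4 hω]
    rfl

theorem gL_mul {k l : ℕ} (hk : k < 64) (hl : l < 64) :
    ∃ z, IsSign z ∧ ∃ n < 64, gL hF hω e k * gL hF hω e l = z * gL hF hω e n := by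
  have g1 : genU (l % 8) = l % 8 := by rw [genU, if_pos (by omega)]
  have g2 : genU (l / 8 + 8) = 8 * (l / 8) := by rw [genU, if_neg (by omega), Nat.add_sub_cancel]
  obtain ⟨z, hz, h⟩ := gL_gen hF hω he hk (j := l % 8) (by omega)
  have hn := checkRange.1 k hk (l % 8) (by omega)
  obtain ⟨z', hz', h'⟩ := gL_gen hF hω he hn (j := l / 8 + 8) (by omega)
  refine ⟨z * z', isSign_mul hz hz', _, checkRange.1 _ hn (l / 8 + 8) (by omega), ?_⟩
  rw [gL_split hF hω he hl, ← mul_assoc]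
  rw [g1] at h h'
  rw [g2] at h'
  rw [h, mul_assoc z, h', g1, g2, ← mul_assoc]

theorem gT_gL {k : ℕ} (hk : k < 64) :
    ∃ z, IsSign z ∧ gT hF hω * gL hF hω e k = z * (gL hF hω e (conjU k) * gT hF hω) := by
  refine exists_sign ?_ ?_
  · rw [Prod.fst_mul, Units.val_mul, Prod.fst_mul, Units.val_mul, gT_val, gL_val hF hω he hk,
      gL_val hF hω he (checkRange.2.1 k hk), ← mon_comp, ← mon_comp]
    exact mon_of_eqS (checkTorus e he k hk)
  · show T hF _ * U hF _ _ = U hF _ _ * T hF _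
    rw [T_mul_U]
    have key : ∀ x < 8, mul8 6 x < 8 ∧ mul8 5 x < 8 := by decide
    have h1 := (key (k % 8) (by omega)).1
    have h2 := (key (k / 8) (by omega)).2
    rw [conjU, show (mul8 6 (k % 8) + 8 * mul8 5 (k / 8)) % 8 = mul8 6 (k % 8) by omega,
      show (mul8 6 (k % 8) + 8 * mul8 5 (k / 8)) / 8 = mul8 5 (k / 8) by omega, f8_mul hω, f8_mul hω]
    congr 2 <;>
      · show ω ^ _ * _ = _
        congr 1
        simp [f8]
        grind

theorem gTpow_gL : ∀ (n : ℕ) {k : ℕ}, k < 64 →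
    ∃ z, IsSign z ∧ ∃ l < 64, gT hF hω ^ n * gL hF hω e k = z * (gL hF hω e l * gT hF hω ^ n)
  | 0, k, hk => ⟨1, Or.inl rfl, k, hk, by simp⟩
  | n + 1, k, hk => by
    obtain ⟨z, hz, h⟩ := gT_gL hF hω he hk
    obtain ⟨z', hz', l, hl, h'⟩ := gTpow_gL n (checkRange.2.1 k hk)
    refine ⟨z * z', isSign_mul hz hz', l, hl, ?_⟩
    rw [pow_succ (gT hF hω), mul_assoc, h, ← mul_assoc, isSign_comm hz, mul_assoc, ← mul_assoc (_ ^ n) _ _, h']
    simp only [mul_assoc]

theorem gW_sq : gW hF e * gW hF e = (1 : Amb F) := by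
  refine Prod.ext (Units.ext ?_) (W_mul_W hF)
  rw [Prod.fst_mul, Units.val_mul, gW_val hF he, ← dns_mulD, (checkWeyl e he).1, dns_monD, mon_oneM]
  rfl

theorem gW_gT : gW hF e * gT hF hω = gT hF hω ^ 6 * gW hF e := by
  obtain ⟨h1, h2⟩ := gT_pow_val hF hω 6
  refine Prod.ext (Units.ext ?_) ?_
  · rw [Prod.fst_mul, Units.val_mul, Prod.fst_mul, Units.val_mul, h1, gW_val hF he, gT_val,
      ← dns_monD, ← dns_monD, ← dns_mulD, ← dns_mulD, (checkWeyl e he).2]
  · rw [Prod.snd_mul, Prod.snd_mul, h2]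
    show W hF * T hF (wu hω) = T hF (wu hω ^ 6) * W hF
    rw [show wu hω ^ 6 = (wu hω)⁻¹ from eq_inv_of_mul_eq_one_left (by rw [← pow_succ, wu_pow_seven]),
      ← W_mul_T hF (wu hω), mul_assoc _ (W hF) (W hF), W_mul_W, mul_one]

theorem gW_gL_gW {v : ℕ} (hv : v < 64) (h0 : v ≠ 0) :
    ∃ z, IsSign z ∧ ∃ k < 64, ∃ i, ∃ l < 64,
      gW hF e * gL hF hω e v * gW hF e = z * (gL hF hω e k * gT hF hω ^ i * gW hF e * gL hF hω e l) := by
  obtain h | ⟨hk, hl, hm⟩ := checkSz v hv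
  · exact absurd h h0
  have hB := (checkBruhat e he v hv).resolve_left h0
  set k := (tblB.getD v (0, 0, 0)).1
  set i := (tblB.getD v (0, 0, 0)).2.1
  set l := (tblB.getD v (0, 0, 0)).2.2
  obtain ⟨h1, h2⟩ := gT_pow_val hF hω i
  suffices h : ∃ z, IsSign z ∧ gW hF e * gL hF hω e v * gW hF e =
      z * (gL hF hω e k * gT hF hω ^ i * gW hF e * gL hF hω e l) by
    obtain ⟨z, hz, h⟩ := h
    exact ⟨z, hz, k, hk, i, l, hl, h⟩
  refine exists_sign ?_ ?_
  · simp only [Prod.fst_mul, Units.val_mul, h1, gW_val hF he, gL_val hF hω he hv, gL_val hF hω he hk,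
      gL_val hF hω he hl]
    rw [← mon_comp]
    simp only [← dns_monD, ← dns_mulD]
    exact dns_of_eqD hB
  · simp only [Prod.snd_mul, h2]
    refine Subtype.ext (Units.ext ?_)
    have hm' := congrArg (f4 ω) hm
    simp only [f4_mul hω, f4_cU hω, f4_cJ, f4_cD hω] at hm'
    simp only [Subgroup.coe_mul, Units.val_mul]
    exact hm'

/-- The Borel part. -/
def InB (g : Amb F) : Prop :=
  ∃ z, IsSign z ∧ ∃ k < 64, ∃ i : ℕ, g = z * (gL hF hω e k * gT hF hω ^ i)

omit he in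
/-- The other cell. -/
def InC (e : ℕ) (g : Amb F) : Prop :=
  ∃ b, InB hF hω (e := e) b ∧ ∃ v < 64, g = b * gW hF e * gL hF hω e v

theorem inB_mul {a b : Amb F} (ha : InB hF hω (e := e) a) (hb : InB hF hω (e := e) b) :
    InB hF hω (e := e) (a * b) := by
  obtain ⟨y, hy, k, hk, i, rfl⟩ := ha
  obtain ⟨z, hz, l, hl, j, rfl⟩ := hb
  obtain ⟨x, hx, l', hl', h1⟩ := gTpow_gL hF hω he i hl
  obtain ⟨w, hw, n, hn, h2⟩ := gL_mul hF hω he hk hl'
  refine ⟨y * z * x * w, isSign_mul (isSign_mul (isSign_mul hy hz) hx) hw, n, hn, i + j, ?_⟩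
  calc y * (gL hF hω e k * gT hF hω ^ i) * (z * (gL hF hω e l * gT hF hω ^ j))
      = y * ((gL hF hω e k * gT hF hω ^ i) * z) * gL hF hω e l * gT hF hω ^ j := by simp only [mul_assoc]
    _ = y * z * gL hF hω e k * (gT hF hω ^ i * gL hF hω e l) * gT hF hω ^ j := by
      rw [isSign_comm hz]; simp only [mul_assoc]
    _ = y * z * (gL hF hω e k * x) * gL hF hω e l' * gT hF hω ^ i * gT hF hω ^ j := by
      rw [h1]; simp only [mul_assoc]
    _ = y * z * x * (gL hF hω e k * gL hF hω e l') * gT hF hω ^ i * gT hF hω ^ j := by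
      rw [isSign_comm hx]; simp only [mul_assoc]
    _ = _ := by rw [h2, pow_add (gT hF hω)]; simp only [mul_assoc]

theorem inB_sign {z : Amb F} (hz : IsSign z) : InB hF hω (e := e) z :=
  ⟨z, hz, 0, by norm_num, 0, by rw [gL_zero hF hω he, pow_zero, mul_one, mul_one]⟩

theorem inB_gL {k : ℕ} (hk : k < 64) : InB hF hω (e := e) (gL hF hω e k) :=
  ⟨1, Or.inl rfl, k, hk, 0, by rw [pow_zero, mul_one, one_mul]⟩

theorem inB_gT (i : ℕ) : InB hF hω (e := e) (gT hF hω ^ i) :=
  ⟨1, Or.inl rfl, 0, by norm_num, i, by rw [gL_zero hF hω he, one_mul, one_mul]⟩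

/-- The generators. -/
def gens (e : ℕ) : Set (Amb F) :=
  {g | g = gT hF hω ∨ g = gW hF e ∨ ∃ k < 64, g = gL hF hω e k}

omit he in
/-- The double cover. -/
def cov (e : ℕ) : Subgroup (Amb F) := Subgroup.closure (gens hF hω e)

theorem cells {g : Amb F} (hg : g ∈ cov hF hω e) : InB hF hω (e := e) g ∨ InC hF hω e g := by
  rw [cov, ← Subgroup.mem_toSubmonoid, Subgroup.closure_toSubmonoid_of_finite] at hg
  induction hg using Submonoid.closure_induction_right with
  | one => exact Or.inl (inB_sign hF hω he (Or.inl rfl))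
  | mul_right x _ y hy ih =>
    rcases ih with hb | ⟨b, hb, v, hv, rfl⟩
    · rcases hy with rfl | rfl | ⟨k, hk, rfl⟩
      · exact Or.inl (inB_mul hF hω he hb (pow_one (gT hF hω) ▸ inB_gT hF hω he 1))
      · exact Or.inr ⟨x, hb, 0, by norm_num, by rw [gL_zero hF hω he, mul_one]⟩
      · exact Or.inl (inB_mul hF hω he hb (inB_gL hF hω he hk))
    · rcases hy with rfl | rfl | ⟨k, hk, rfl⟩
      · obtain ⟨z, hz, l, hl, h⟩ := gTpow_gL hF hω he 6 hv
        refine Or.inr ⟨b * (z * gT hF hω ^ 6), inB_mul hF hω he hb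
          (inB_mul hF hω he (inB_sign hF hω he hz) (inB_gT hF hω he 6)), l, hl, ?_⟩
        have e1 : gL hF hω e v * gT hF hω = gT hF hω * (z * gL hF hω e l) :=
          calc gL hF hω e v * gT hF hω = gT hF hω ^ 7 * gL hF hω e v * gT hF hω := by
                rw [gT_pow_seven, one_mul]
            _ = gT hF hω * (gT hF hω ^ 6 * gL hF hω e v) * gT hF hω := by
                rw [pow_succ' (gT hF hω) 6]; simp only [mul_assoc]
            _ = gT hF hω * (z * gL hF hω e l) * (gT hF hω ^ 6 * gT hF hω) := by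
                rw [h]; simp only [mul_assoc]
            _ = _ := by rw [← pow_succ, gT_pow_seven, mul_one]
        calc b * gW hF e * gL hF hω e v * gT hF hω = b * gW hF e * (gL hF hω e v * gT hF hω) := by
              simp only [mul_assoc]
          _ = b * (gW hF e * gT hF hω) * z * gL hF hω e l := by rw [e1]; simp only [mul_assoc]
          _ = b * ((gT hF hω ^ 6 * gW hF e) * z) * gL hF hω e l := by
              rw [gW_gT hF hω he]; simp only [mul_assoc]
          _ = b * (z * (gT hF hω ^ 6 * gW hF e)) * gL hF hω e l := by rw [isSign_comm hz]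
          _ = _ := by simp only [mul_assoc]
      · rcases eq_or_ne v 0 with rfl | h0
        · refine Or.inl ?_
          rw [gL_zero hF hω he, mul_one, mul_assoc, gW_sq hF he, mul_one]
          exact hb
        · obtain ⟨z, hz, k, hk, i, l, hl, h⟩ := gW_gL_gW hF hω he hv h0
          refine Or.inr ⟨b * (z * (gL hF hω e k * gT hF hω ^ i)), inB_mul hF hω he hb
            ⟨z, hz, k, hk, i, rfl⟩, l, hl, ?_⟩
          rw [mul_assoc b, mul_assoc b, h]
          simp only [mul_assoc]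
      · obtain ⟨z, hz, n, hn, h⟩ := gL_mul hF hω he hv hk
        refine Or.inr ⟨b * z, inB_mul hF hω he hb (inB_sign hF hω he hz), n, hn, ?_⟩
        rw [mul_assoc _ (gL hF hω e v), h, ← mul_assoc, mul_assoc b (gW hF e) z, isSign_comm hz]
        simp only [mul_assoc]

/-- The kernel of the projection consists of two signs. -/
theorem sign_of_snd {g : Amb F} (hg : g ∈ cov hF hω e) (h1 : g.2 = 1) : IsSign g := by
  have hB : ∀ {b : Amb F}, InB hF hω (e := e) b → ∃ z, IsSign z ∧ ∃ k < 64, ∃ i : ℕ,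
      b = z * (gL hF hω e k * gT hF hω ^ i) ∧
      b.2 = U hF (f8 ω (k % 8)) (f8 ω (k / 8)) * T hF (wu hω ^ i) := by
    rintro b ⟨z, hz, k, hk, i, rfl⟩
    refine ⟨z, hz, k, hk, i, rfl, ?_⟩
    have : z.2 = 1 := by rcases hz with rfl | rfl <;> rfl
    rw [Prod.snd_mul, Prod.snd_mul, this, one_mul, (gT_pow_val hF hω i).2]
    rfl
  rcases cells hF hω he hg with hb | ⟨b, hb, v, hv, rfl⟩
  · obtain ⟨z, hz, k, hk, i, rfl, h2⟩ := hB hb
    rw [h1, eq_comm, mul_eq_one_iff_eq_inv] at h2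
    have e1 : T hF 1 * U hF (f8 ω (k % 8)) (f8 ω (k / 8)) = T hF (wu hω ^ i)⁻¹ * U hF 0 0 := by
      rw [T_one, one_mul, U_zero, mul_one, h2]
      exact inv_eq_of_mul_eq_one_right (by rw [T_mul, mul_inv_cancel, T_one])
    obtain ⟨hs, ha, hb'⟩ := TU_injective hF e1
    have hk0 : k = 0 := by
      have a := f8_eq_zero hω (Nat.mod_lt k (by norm_num : 0 < 8)) ha
      have b := f8_eq_zero hω (by omega : k / 8 < 8) hb'
      omega
    obtain ⟨j, rfl⟩ : 7 ∣ i := by
      rw [← orderOf_wu hω]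
      exact orderOf_dvd_of_pow_eq_one (inv_eq_one.1 hs.symm)
    rw [hk0, gL_zero hF hω he, one_mul, pow_mul, gT_pow_seven, one_pow, mul_one]
    exact hz
  · exfalso
    obtain ⟨z, hz, k, hk, i, rfl, h2⟩ := hB hb
    set p := f8 ω (k % 8)
    set p' := f8 ω (k / 8)
    have e1 : U hF p p' * T hF (wu hω ^ i) * W hF * U hF (f8 ω (v % 8)) (f8 ω (v / 8)) = 1 := by
      rw [← h2, ← h1]; rfl
    have e2 := congrArg (fun g => toSL hF g • (inf : Cfsg.suzukiOvoid F 1)) e1
    simp only [map_mul, map_one, one_smul, mul_smul, U_smul_inf, W_smul_inf, T_smul_zero] at e2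
    have e3 : toSL hF (U hF p p') • Suzuki.zero = toSL hF (U hF p p') • (inf : Cfsg.suzukiOvoid F 1) :=
      e2.trans (U_smul_inf hF p p').symm
    exact inf_ne_zero (MulAction.injective _ e3).symm

theorem gZ_mem_of_comm {k l : ℕ} (hk : k < 64) (hl : l < 64)
    (h : comp (cL e k) (cL e l) = negM (comp (cL e l) (cL e k)))
    (hU : U hF (f8 ω (k % 8)) (f8 ω (k / 8)) * U hF (f8 ω (l % 8)) (f8 ω (l / 8)) =
      U hF (f8 ω (l % 8)) (f8 ω (l / 8)) * U hF (f8 ω (k % 8)) (f8 ω (k / 8))) :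
    gL hF hω e k * gL hF hω e l = gZ * (gL hF hω e l * gL hF hω e k) := by
  refine Prod.ext (Units.ext ?_) ?_
  · simp only [Prod.fst_mul, Units.val_mul, gL_val hF hω he hk, gL_val hF hω he hl]
    rw [← mon_comp, h, mon_negM, mon_comp]
    simp [gZ]
  · show U hF _ _ * U hF _ _ = 1 * (U hF _ _ * U hF _ _)
    rw [one_mul, hU]

end Cover

end CfsgLib.Schur.Sz8
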