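/-
The fibre product of two double covers of `Sz(8)` is a stem extension with a four-group as kernel.
-/
import Mathlib
import Cfsg.Prelude.Def_KGroupFacts
import Cfsg.Agent.Lib.Schur.Sz8Cover

set_option autoImplicit false

namespace CfsgLib.Schur.Sz8

open Cfsg.Lie CfsgLib.Spectrum CfsgLib.SuzukiLaws CfsgLib.Suzuki CfsgLib.Recognition
open scoped commutatorElement

universe u

variable {F : Type u} [Field F] [CharP F 2] {ω : F} [Fintype F]
  (hF : Fintype.card F = 2 ^ (2 * 1 + 1)) (hω : ω ^ 3 = ω + 1)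

/-- The image of a double cover is everything. -/
theorem cov_snd_surjective (hb : ∀ x : F, ∃ k < 8, f8 ω k = x) {e : ℕ} (g : Sz F (2 ^ (1 + 1))) :
    ∃ x ∈ cov hF hω e, x.2 = g := by
  set R : Subgroup (Sz F (2 ^ (1 + 1))) := (cov hF hω e).map (MonoidHom.snd _ _) with hR
  have hmem : ∀ x ∈ gens hF hω e, x.2 ∈ R := fun x hx => ⟨x, Subgroup.subset_closure hx, rfl⟩
  have hU : ∀ a b, U hF a b ∈ R := fun a b => by
    obtain ⟨i, hi, rfl⟩ := hb a
    obtain ⟨j, hj, rfl⟩ := hb b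
    have := hmem (gL hF hω e (i + 8 * j)) (Or.inr (Or.inr ⟨_, by omega, rfl⟩))
    simpa [gL, show (i + 8 * j) % 8 = i by omega, show (i + 8 * j) / 8 = j by omega] using this
  have hT : ∀ s : Fˣ, T hF s ∈ R := fun s => by
    have h7 : Nat.card Fˣ = 7 := by rw [Nat.card_units, Nat.card_eq_fintype_card, hF]; rfl
    have htop : Subgroup.zpowers (wu hω) = ⊤ := by
      refine Subgroup.eq_top_of_card_eq _ ?_
      rw [Nat.card_zpowers, orderOf_wu hω, h7]
    obtain ⟨n, rfl⟩ := mem_powers_iff_mem_zpowers.2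
      (show s ∈ Subgroup.zpowers (wu hω) from htop ▸ Subgroup.mem_top s)
    show T hF (wu hω ^ n) ∈ R
    rw [← (gT_pow_val hF hω n).2]
    exact ⟨_, pow_mem (show gT hF hω ∈ cov hF hω e from Subgroup.subset_closure (Or.inl rfl)) n, rfl⟩
  have hW : W hF ∈ R := hmem (gW hF e) (Or.inr (Or.inl rfl))
  have hle : SzBorel.borel hF ≤ R := fun h hh => by
    obtain ⟨s, a, b, rfl⟩ := (stab_inf hF h).1 hh
    exact mul_mem (hT s) (hU a b)
  have hlt : SzBorel.borel hF < R := by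
    refine lt_of_le_of_ne hle fun h => ?_
    have hW' : W hF ∈ SzBorel.borel hF := by rw [h]; exact hW
    rw [SzBorel.mem_borel, W_smul_inf] at hW'
    exact inf_ne_zero hW'.symm
  obtain ⟨x, hx, hxg⟩ : g ∈ R := (SzBorel.isCoatom_borel hF le_rfl).2 R hlt ▸ Subgroup.mem_top g
  exact ⟨x, hx, hxg⟩

/-- The fibre product of the two double covers. -/
def joinCov : Subgroup (Amb F × Amb F) where
  carrier := {x | x.1 ∈ cov hF hω 0 ∧ x.2 ∈ cov hF hω 1 ∧ x.1.2 = x.2.2}
  one_mem' := ⟨one_mem _, one_mem _, rfl⟩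
  mul_mem' := fun {x y} hx hy => ⟨mul_mem hx.1 hy.1, mul_mem hx.2.1 hy.2.1, by
    show x.1.2 * y.1.2 = x.2.2 * y.2.2
    rw [hx.2.2, hy.2.2]⟩
  inv_mem' := fun {x} hx => ⟨inv_mem hx.1, inv_mem hx.2.1, by
    show x.1.2⁻¹ = x.2.2⁻¹
    rw [hx.2.2]⟩

/-- The projection of the fibre product. -/
def joinProj : joinCov hF hω →* Sz F (2 ^ (1 + 1)) :=
  ((MonoidHom.snd _ _).comp (MonoidHom.fst _ _)).comp (joinCov hF hω).subtype

/-- The pairs of lifts of an element of the radical. -/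
noncomputable def pairL (k : ℕ) (hk : k < 64) : joinCov hF hω :=
  ⟨(gL hF hω 0 k, gL hF hω 1 k), Subgroup.subset_closure (Or.inr (Or.inr ⟨k, hk, rfl⟩)),
    Subgroup.subset_closure (Or.inr (Or.inr ⟨k, hk, rfl⟩)), rfl⟩

theorem comm_of_mul {G : Type*} [Group G] {a b z : G} (h : a * b = z * (b * a)) : ⁅a, b⁆ = z := by
  rw [commutatorElement_def, h]; group

set_option maxHeartbeats 800000 in
include hF hω in
theorem exists_cover (hb : ∀ x : F, ∃ k < 8, f8 ω k = x) :
    ∃ (Γ : Type u) (_ : Group Γ) (_ : Finite Γ) (σ : Γ →* Sz F (2 ^ (1 + 1))),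
      Cfsg.IsStemExtension σ ∧ Nonempty (σ.ker ≃* Multiplicative (ZMod 2 × ZMod 2)) := by
  haveI : Finite (Amb F) := inferInstance
  set σ := joinProj hF hω
  have hUc : ∀ l, l % 8 = 0 →
      U hF (f8 ω (1 % 8)) (f8 ω (1 / 8)) * U hF (f8 ω (l % 8)) (f8 ω (l / 8)) =
        U hF (f8 ω (l % 8)) (f8 ω (l / 8)) * U hF (f8 ω (1 % 8)) (f8 ω (1 / 8)) := fun l hl => by
    rw [hl, show (1 / 8 : ℕ) = 0 from rfl, f8_zero, U_mul, U_mul]
    congr 1 <;> simp [add_comm]
  obtain ⟨c1, c2, c3, c4⟩ := checkComm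
  have hpos : ∀ e < 2, ∀ l < 64, l % 8 = 0 → comp (cL e 1) (cL e l) = comp (cL e l) (cL e 1) →
      gL hF hω e 1 * gL hF hω e l = 1 * (gL hF hω e l * gL hF hω e 1) := fun e he l hl hl8 h => by
    rw [one_mul]
    refine Prod.ext (Units.ext ?_) (hUc l hl8)
    simp only [Prod.fst_mul, Units.val_mul, gL_val hF hω he (by norm_num : 1 < 64), gL_val hF hω he hl]
    rw [← mon_comp, h, mon_comp]
  have k1 : ((gZ, 1) : Amb F × Amb F) ∈ (commutator (joinCov hF hω)).map (joinCov hF hω).subtype := by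
    refine ⟨⁅pairL hF hω 1 (by norm_num), pairL hF hω 48 (by norm_num)⁆,
      Subgroup.commutator_mem_commutator (Subgroup.mem_top _) (Subgroup.mem_top _), ?_⟩
    rw [map_commutatorElement]
    refine comm_of_mul (Prod.ext ?_ ?_)
    · exact gZ_mem_of_comm hF hω (e := 0) two_pos (k := 1) (l := 48) (by norm_num) (by norm_num) c1
        (hUc 48 rfl)
    · exact hpos 1 one_lt_two 48 (by norm_num) rfl c2
  have k2 : ((1, gZ) : Amb F × Amb F) ∈ (commutator (joinCov hF hω)).map (joinCov hF hω).subtype := by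
    refine ⟨⁅pairL hF hω 1 (by norm_num), pairL hF hω 32 (by norm_num)⁆,
      Subgroup.commutator_mem_commutator (Subgroup.mem_top _) (Subgroup.mem_top _), ?_⟩
    rw [map_commutatorElement]
    refine comm_of_mul (Prod.ext ?_ ?_)
    · exact hpos 0 two_pos 32 (by norm_num) rfl c4
    · exact gZ_mem_of_comm hF hω (e := 1) one_lt_two (k := 1) (l := 32) (by norm_num) (by norm_num) c3
        (hUc 32 rfl)
  obtain ⟨z1, hz1, e1⟩ := k1
  obtain ⟨z2, hz2, e2⟩ := k2
  have e1' : (z1 : Amb F × Amb F) = (gZ, 1) := e1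
  have e2' : (z2 : Amb F × Amb F) = (1, gZ) := e2
  have hk1 : z1 ∈ σ.ker := by
    show (z1 : Amb F × Amb F).1.2 = 1
    rw [e1']; rfl
  have hk2 : z2 ∈ σ.ker := by
    show (z2 : Amb F × Amb F).1.2 = 1
    rw [e2']; rfl
  have hker : ∀ x : joinCov hF hω, x ∈ σ.ker → IsSign (x : Amb F × Amb F).1 ∧ IsSign (x : Amb F × Amb F).2 :=
    fun x hx => by
      obtain ⟨hx1, hx2, hx3⟩ := x.2
      have h1 : (x : Amb F × Amb F).1.2 = 1 := hx
      exact ⟨sign_of_snd hF hω two_pos hx1 h1, sign_of_snd hF hω one_lt_two hx2 (hx3.symm.trans h1)⟩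
  have hsq : ∀ x : σ.ker, x * x = 1 := fun x => by
    obtain ⟨h1, h2⟩ := hker x x.2
    refine Subtype.ext (Subtype.ext (Prod.ext ?_ ?_))
    · show (x.1 : Amb F × Amb F).1 * (x.1 : Amb F × Amb F).1 = 1
      rcases h1 with h | h <;> rw [h]
      · exact one_mul _
      · exact Prod.ext (by simp [gZ]) (one_mul _)
    · show (x.1 : Amb F × Amb F).2 * (x.1 : Amb F × Amb F).2 = 1
      rcases h2 with h | h <;> rw [h]
      · exact one_mul _
      · exact Prod.ext (by simp [gZ]) (one_mul _)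
  have hcomm : ∀ x y : σ.ker, x * y = y * x := fun x y => by
    obtain ⟨h1, h2⟩ := hker x x.2
    refine Subtype.ext (Subtype.ext (Prod.ext ?_ ?_))
    · exact (isSign_comm h1 _).symm
    · exact (isSign_comm h2 _).symm
  refine ⟨joinCov hF hω, inferInstance, inferInstance, σ, ⟨?_, ?_, ?_⟩, ?_⟩
  · intro g
    obtain ⟨x, hx, hx'⟩ := cov_snd_surjective hF hω hb (e := 0) g
    obtain ⟨y, hy, hy'⟩ := cov_snd_surjective hF hω hb (e := 1) g
    exact ⟨⟨(x, y), hx, hy, hx'.trans hy'.symm⟩, hx'⟩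
  · intro x hx
    obtain ⟨h1, h2⟩ := hker x hx
    exact Subgroup.mem_center_iff.2 fun y => Subtype.ext (Prod.ext (isSign_comm h1 _) (isSign_comm h2 _))
  · intro x hx
    obtain ⟨h1, h2⟩ := hker x hx
    rcases h1 with h1 | h1 <;> rcases h2 with h2 | h2
    · have : x = 1 := Subtype.ext (Prod.ext h1 h2)
      exact this ▸ one_mem _
    · have : x = z2 := Subtype.ext (e2' ▸ Prod.ext h1 h2)
      exact this ▸ hz2
    · have : x = z1 := Subtype.ext (e1' ▸ Prod.ext h1 h2)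
      exact this ▸ hz1
    · have : x = z1 * z2 := by
        refine Subtype.ext ?_
        rw [Subgroup.coe_mul, e1', e2']
        exact Prod.ext (h1.trans (mul_one _).symm) (h2.trans (one_mul _).symm)
      exact this ▸ mul_mem hz1 hz2
  · set p1 : σ.ker := ⟨z1, hk1⟩
    set p2 : σ.ker := ⟨z2, hk2⟩
    have hp1 : p1 ^ 2 = 1 := (pow_two p1).trans (hsq p1)
    have hp2 : p2 ^ 2 = 1 := (pow_two p2).trans (hsq p2)
    let π : Multiplicative (ZMod 2 × ZMod 2) →* σ.ker := MonoidHom.mk'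
      (fun t => p1 ^ (Multiplicative.toAdd t).1.val * p2 ^ (Multiplicative.toAdd t).2.val) fun s t => by
      simp only [toAdd_mul, Prod.fst_add, Prod.snd_add, ZMod.val_add]
      rw [← pow_eq_pow_mod _ hp1, ← pow_eq_pow_mod _ hp2, pow_add p1, pow_add p2]
      rw [mul_assoc, mul_assoc, ← mul_assoc (p1 ^ _) (p2 ^ _), hcomm (p1 ^ (Multiplicative.toAdd t).1.val)
        (p2 ^ _), mul_assoc]
    have hval : ∀ a b : ZMod 2, (((π (Multiplicative.ofAdd (a, b)) : σ.ker) : joinCov hF hω) : Amb F × Amb F) =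
        (gZ ^ a.val, gZ ^ b.val) := fun a b => by
      show ((z1 ^ a.val * z2 ^ b.val : joinCov hF hω) : Amb F × Amb F) = _
      rw [Subgroup.coe_mul, SubmonoidClass.coe_pow, SubmonoidClass.coe_pow, e1', e2']
      refine Prod.ext ?_ ?_
      · rw [Prod.fst_mul, Prod.pow_fst, Prod.pow_fst, one_pow, mul_one]
      · rw [Prod.snd_mul, Prod.pow_snd, Prod.pow_snd, one_pow, one_mul]
    have key : ∀ c : ZMod 2, (gZ : Amb F) ^ c.val = 1 → c = 0 := fun c hc => by
      rcases (by decide : ∀ c : ZMod 2, c = 0 ∨ c = 1) c with h | h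
      · exact h
      · rw [h, ZMod.val_one, pow_one] at hc
        exact absurd hc gZ_ne_one
    have hsign : ∀ g : Amb F, IsSign g → ∃ c : ZMod 2, gZ ^ c.val = g := fun g hg => by
      rcases hg with rfl | rfl
      · exact ⟨0, by rw [ZMod.val_zero, pow_zero]⟩
      · exact ⟨1, by rw [ZMod.val_one, pow_one]⟩
    refine ⟨(MulEquiv.ofBijective π ⟨(injective_iff_map_eq_one π).2 fun t ht => ?_, fun x => ?_⟩).symm⟩
    · obtain ⟨⟨a, b⟩, rfl⟩ : ∃ v, Multiplicative.ofAdd v = t := ⟨_, ofAdd_toAdd t⟩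
      have h0 := hval a b
      rw [ht] at h0
      have f1 : (1 : Amb F) = gZ ^ a.val := congrArg Prod.fst h0
      have f2 : (1 : Amb F) = gZ ^ b.val := congrArg Prod.snd h0
      rw [key a f1.symm, key b f2.symm]
      rfl
    · obtain ⟨h1, h2⟩ := hker x x.2
      obtain ⟨a, ha⟩ := hsign _ h1
      obtain ⟨b, hb'⟩ := hsign _ h2
      exact ⟨Multiplicative.ofAdd (a, b), Subtype.ext (Subtype.ext
        ((hval a b).trans (Prod.ext ha hb')))⟩

end CfsgLib.Schur.Sz8
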