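import Cfsg.Agent.Lib.Schur.Hopf

/-!
Restriction and transfer of Schur multipliers.
-/

namespace CfsgLib.Schur

open Subgroup
open scoped commutatorElement

universe u

variable {G : Type u} [Group G]

/-- Transfer for the Hopf multiplier: there are maps `mult U → mult G → mult U` with composite on
`mult G` the `U.index`-th power. -/
theorem exists_res_transfer [Finite G] {α β : Type u} {π : FreeGroup α →* G}
    (hπ : Function.Surjective π) (U : Subgroup G) {πU : FreeGroup β →* U}
    (hπU : Function.Surjective πU) :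
    ∃ (f : mult πU →* mult π) (τ : mult π →* mult πU), ∀ m, f (τ m) = m ^ U.index := by
  classical
  haveI := Fintype.ofFinite (G ⧸ U)
  -- the map between the universal extensions
  set W := U.comap (proj π)
  set sW : W →* U := ((proj π).comp W.subtype).codRestrict U fun w => w.2
  have hsW : Function.Surjective sW := fun u => by
    obtain ⟨e, he⟩ := proj_surjective hπ (u : G)
    exact ⟨⟨e, by show proj π e ∈ U; rw [he]; exact u.2⟩, Subtype.ext he⟩
  have hsWc : sW.ker ≤ center W := fun z hz => by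
    rw [mem_center_iff]
    intro w
    refine Subtype.ext ?_
    exact mem_center_iff.1 (ker_proj_le_center π (show (z : Ext π) ∈ (proj π).ker from
      congrArg Subtype.val hz)) (w : Ext π)
  obtain ⟨φ, hφ⟩ := exists_lift πU sW hsW hsWc
  set f₀ : Ext πU →* Ext π := W.subtype.comp φ
  have hf₀ : ∀ d, proj π (f₀ d) = (proj πU d : G) := fun d =>
    congrArg Subtype.val (DFunLike.congr_fun hφ d)
  set s := proj πU
  letI instC : CommGroup (proj π).ker := { (inferInstance : Group (proj π).ker) with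
    mul_comm := fun a b => Subtype.ext ((mem_center_iff.1 (ker_proj_le_center π b.2)) a) }
  letI instC' : CommGroup s.ker := { (inferInstance : Group s.ker) with
    mul_comm := fun a b => Subtype.ext ((mem_center_iff.1 (ker_proj_le_center πU b.2)) a) }
  -- representatives
  choose t ht using fun q : G ⧸ U => proj_surjective hπ q.out
  have htq : ∀ q, (proj π (t q) : G ⧸ U) = q := fun q => by rw [ht]; exact QuotientGroup.out_eq' q
  -- the monomial group
  let act : Ext π →* MulAut ((G ⧸ U) → Ext πU) :=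
    { toFun := fun e =>
        { toFun := fun a q => a ((proj π e)⁻¹ • q)
          invFun := fun a q => a (proj π e • q)
          left_inv := fun a => funext fun q => by simp
          right_inv := fun a => funext fun q => by simp
          map_mul' := fun a b => rfl }
      map_one' := MulEquiv.ext fun a => funext fun q => by simp
      map_mul' := fun x y => MulEquiv.ext fun a => funext fun q => by
        show a ((proj π (x * y))⁻¹ • q) = a ((proj π y)⁻¹ • (proj π x)⁻¹ • q)
        rw [smul_smul, map_mul, mul_inv_rev] }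
  set S := ((G ⧸ U) → Ext πU) ⋊[act] Ext π
  let X : Subgroup S :=
    { carrier := {z | ∀ q, (s (z.left q) : G) =
        proj π (t q)⁻¹ * proj π z.right * proj π (t ((proj π z.right)⁻¹ • q))}
      one_mem' := fun q => by
        simp [SemidirectProduct.one_left, SemidirectProduct.one_right]
      mul_mem' := by
        intro z w hz hw q
        show (s ((z.left * act z.right w.left) q) : G) = _
        rw [Pi.mul_apply, map_mul, Subgroup.coe_mul, hz q]
        show _ * (s (w.left ((proj π z.right)⁻¹ • q)) : G) = _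
        rw [hw, SemidirectProduct.mul_right, map_mul, mul_inv_rev, ← smul_smul]
        simp only [map_inv]
        group
      inv_mem' := by
        intro z hz q
        show (s (act z.right⁻¹ z.left⁻¹ q) : G) = _
        show (s ((z.left ((proj π z.right⁻¹)⁻¹ • q))⁻¹) : G) = _
        rw [map_inv s, Subgroup.coe_inv, hz, SemidirectProduct.inv_right, map_inv (proj π) z.right,
          inv_inv, smul_smul, inv_mul_cancel, one_smul]
        simp only [map_inv]
        group }
  -- lifting the generators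
  have hgen : ∀ x : Ext π, ∃ a : (G ⧸ U) → Ext πU, (⟨a, x⟩ : S) ∈ X := by
    intro x
    have hU : ∀ q, proj π (t q)⁻¹ * proj π x * proj π (t ((proj π x)⁻¹ • q)) ∈ U := by
      intro q
      rw [map_inv, mul_assoc]
      refine QuotientGroup.eq.1 ?_
      rw [htq]
      conv_lhs => rw [← smul_inv_smul (proj π x) q, ← htq ((proj π x)⁻¹ • q)]
      rfl
    choose a ha using fun q => proj_surjective hπU ⟨_, hU q⟩
    exact ⟨a, fun q => congrArg Subtype.val (ha q)⟩
  choose gen hgen' using fun i : α => hgen (mkExt π (FreeGroup.of i))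
  set ψ : FreeGroup α →* X := FreeGroup.lift fun i => ⟨⟨gen i, mkExt π (FreeGroup.of i)⟩, hgen' i⟩
  have hright : ∀ x, (ψ x : S).right = mkExt π x := fun x => by
    have : (SemidirectProduct.rightHom.comp (X.subtype.comp ψ)) = mkExt π :=
      FreeGroup.ext_hom _ _ fun i => by simp [ψ]
    exact DFunLike.congr_fun this x
  -- the defect of a lift
  have hcmem : ∀ (z : X) q, f₀ ((z : S).left q) *
      ((t q)⁻¹ * (z : S).right * t ((proj π (z : S).right)⁻¹ • q))⁻¹ ∈ (proj π).ker := by
    intro z q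
    rw [MonoidHom.mem_ker, map_mul, hf₀, z.2 q, map_inv (proj π) (_ * _ * _), map_mul, map_mul]
    exact mul_inv_cancel _
  set c : X → (G ⧸ U) → (proj π).ker := fun z q => ⟨_, hcmem z q⟩ with hcdef
  have hcmul : ∀ (z w : X) q, c (z * w) q = c z q * c w ((proj π (z : S).right)⁻¹ • q) := by
    intro z w q
    refine Subtype.ext ?_
    show f₀ (((z : S).left * act (z : S).right (w : S).left) q) *
      ((t q)⁻¹ * ((z : S).right * (w : S).right) *
        t ((proj π ((z : S).right * (w : S).right))⁻¹ • q))⁻¹ = (c z q : Ext π) * c w _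
    rw [Pi.mul_apply, map_mul f₀, map_mul (proj π), mul_inv_rev (proj π (z : S).right), ← smul_smul]
    set q' := (proj π (z : S).right)⁻¹ • q
    show f₀ ((z : S).left q) * f₀ ((w : S).left q') * _ = (c z q : Ext π) * c w q'
    have h1 : ∀ g : Ext π, g * (c w q' : Ext π) = (c w q' : Ext π) * g := fun g =>
      mem_center_iff.1 (ker_proj_le_center π (c w q').2) g
    calc f₀ ((z : S).left q) * f₀ ((w : S).left q') * ((t q)⁻¹ * ((z : S).right * (w : S).right) *
          t ((proj π (w : S).right)⁻¹ • q'))⁻¹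
        = f₀ ((z : S).left q) * (c w q' : Ext π) * ((t q)⁻¹ * (z : S).right * t q')⁻¹ := by
          simp only [hcdef]; group
      _ = (c w q' : Ext π) * (f₀ ((z : S).left q) * ((t q)⁻¹ * (z : S).right * t q')⁻¹) := by
          rw [h1, mul_assoc]
      _ = (c w q' : Ext π) * (c z q : Ext π) := rfl
      _ = _ := (h1 _).symm
  have hperm : ∀ {M : Type u} [CommGroup M] (g : G) (F : G ⧸ U → M), ∏ q, F (g • q) = ∏ q, F q :=
    fun g F => Fintype.prod_equiv (MulAction.toPerm g) _ _ fun q => rfl
  let Λ : X →* (proj π).ker := MonoidHom.mk' (fun z => ∏ q, c z q) fun z w => by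
    simp only [hcmul, Finset.prod_mul_distrib]
    rw [hperm]
  let ν : X →* Abelianization (Ext πU) := MonoidHom.mk' (fun z => ∏ q, Abelianization.of ((z : S).left q))
    fun z w => by
      show ∏ q, Abelianization.of (((z : S).left * act (z : S).right (w : S).left) q) = _
      simp only [Pi.mul_apply, map_mul, Finset.prod_mul_distrib]
      congr 1
      exact hperm (proj π (z : S).right)⁻¹ fun q => Abelianization.of ((w : S).left q)
  -- relators
  have hR : ∀ x ∈ π.ker, proj π (mkExt π x) = 1 := fun x hx => hx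
  have hleft : ∀ x ∈ π.ker, ∀ q, (ψ x : S).left q ∈ s.ker := fun x hx q => by
    have h := (ψ x).2 q
    rw [hright, hR x hx, inv_one, one_smul, mul_one, map_inv, inv_mul_cancel] at h
    exact Subtype.ext h
  set Pr : π.ker → s.ker := fun x => ∏ q, (⟨_, hleft x x.2 q⟩ : s.ker) with hPr
  have hPrmul : ∀ x y : π.ker, Pr (x * y) = Pr x * Pr y := fun x y => by
    rw [hPr]
    simp only [← Finset.prod_mul_distrib]
    refine Finset.prod_congr rfl fun q _ => Subtype.ext ?_
    show (ψ ((x : FreeGroup α) * y) : S).left q = (ψ x : S).left q * (ψ y : S).left q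
    rw [map_mul, Subgroup.coe_mul]
    show (ψ x : S).left q * act (ψ x : S).right (ψ y : S).left q = _
    congr 1
    show (ψ y : S).left ((proj π (ψ x : S).right)⁻¹ • q) = _
    rw [hright, hR x x.2, inv_one, one_smul]
  let P : π.ker →* s.ker := MonoidHom.mk' Pr hPrmul
  have hconj : ∀ (g : FreeGroup α) (x : π.ker) (h : g * x * g⁻¹ ∈ π.ker), P ⟨_, h⟩ = P x := by
    intro g x h
    show ∏ q, (⟨_, hleft _ h q⟩ : s.ker) = ∏ q, (⟨_, hleft x x.2 q⟩ : s.ker)
    rw [← hperm ((proj π (mkExt π g))⁻¹) fun q => (⟨_, hleft x x.2 q⟩ : s.ker)]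
    refine Finset.prod_congr rfl fun q _ => Subtype.ext ?_
    show (ψ (g * x * g⁻¹) : S).left q = (ψ (x : FreeGroup α) : S).left ((proj π (mkExt π g))⁻¹ • q)
    have h1 : (ψ (g * x * g⁻¹) : S) = (ψ g : S) * (ψ (x : FreeGroup α) : S) * (ψ g : S)⁻¹ := by
      rw [map_mul, map_mul, map_inv]; rfl
    rw [h1]
    show (ψ g : S).left q * (ψ (x : FreeGroup α) : S).left ((proj π (ψ g : S).right)⁻¹ • q) *
      ((ψ g : S).left ((proj π (ψ g : S).right⁻¹)⁻¹ •
        (proj π ((ψ g : S).right * (ψ (x : FreeGroup α) : S).right))⁻¹ • q))⁻¹ = _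
    rw [map_mul (proj π), show proj π (ψ (x : FreeGroup α) : S).right = 1 by rw [hright]; exact hR x x.2,
      mul_one, map_inv (proj π), inv_inv, smul_smul, mul_inv_cancel, one_smul, hright]
    rw [mem_center_iff.1 (ker_proj_le_center πU (hleft x x.2 _)) _, mul_inv_cancel_right]
  have hkill : ∀ x (hx : x ∈ ⁅π.ker, (⊤ : Subgroup (FreeGroup α))⁆),
      ∀ h : x ∈ π.ker, P ⟨x, h⟩ = 1 := by
    intro x hx
    have hle : ⁅π.ker, (⊤ : Subgroup (FreeGroup α))⁆ ≤ P.ker.map π.ker.subtype := by
      rw [commutator_le]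
      intro r hr g _
      have h : g * r⁻¹ * g⁻¹ ∈ π.ker := (MonoidHom.normal_ker π).conj_mem _ (inv_mem hr) g
      refine ⟨⟨r, hr⟩ * ⟨_, h⟩, ?_, ?_⟩
      · show P (_ * _) = 1
        rw [map_mul, hconj g ⟨r⁻¹, inv_mem hr⟩ h]
        show P ⟨r, hr⟩ * P (⟨r, hr⟩⁻¹) = 1
        rw [map_inv, mul_inv_cancel]
      · show r * (g * r⁻¹ * g⁻¹) = ⁅r, g⁆
        rw [commutatorElement_def]; group
    obtain ⟨⟨y, hy⟩, hy1, hyx⟩ := hle hx
    intro h
    have : y = x := hyx
    subst this
    exact hy1
  -- restrict to the multiplier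
  set R' : Subgroup (FreeGroup α) := π.ker ⊓ commutator (FreeGroup α)
  have hmemM : ∀ x : R', mkExt π x ∈ mult π := fun x => Subgroup.mem_inf.2 ⟨x.2.1, by
    rw [← ker_abMap, MonoidHom.mem_ker]
    exact (QuotientGroup.eq_one_iff _).2 x.2.2⟩
  set pM : R' →* mult π := ((mkExt π).comp R'.subtype).codRestrict _ hmemM
  have hpM : Function.Surjective pM := fun m => by
    obtain ⟨x, hx⟩ := QuotientGroup.mk'_surjective _ (m : Ext π)
    have h1 : abMap π (mkExt π x) = 1 := (ker_abMap π).ge (hx ▸ (Subgroup.mem_inf.1 m.2).2)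
    have h2 : proj π (mkExt π x) = 1 := hx ▸ mult_le_ker π m.2
    exact ⟨⟨x, h2, Abelianization.ker_of (G := FreeGroup α) ▸ MonoidHom.mem_ker.2 h1⟩, Subtype.ext hx⟩
  have hνP : ∀ x : R', ((P ⟨x, x.2.1⟩ : s.ker) : Ext πU) ∈ commutator (Ext πU) := fun x => by
    rw [← Abelianization.ker_of, MonoidHom.mem_ker]
    have h1 : ν (ψ x) = 1 := by
      rw [← MonoidHom.comp_apply]
      exact Abelianization.commutator_subset_ker (ν.comp ψ) x.2.2
    rw [← h1]
    show (Abelianization.of.comp s.ker.subtype) (∏ q, (⟨_, hleft x x.2.1 q⟩ : s.ker)) = _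
    rw [map_prod]
    rfl
  set T : R' →* mult πU := MonoidHom.codRestrict (s.ker.subtype.comp (P.comp (inclusion inf_le_left)))
    (mult πU) fun x => Subgroup.mem_inf.2 ⟨(P ⟨x, x.2.1⟩).2, hνP x⟩
  have hTker : pM.ker ≤ T.ker := fun x hx => Subtype.ext (by
    have h1 : (x : FreeGroup α) ∈ ⁅π.ker, (⊤ : Subgroup (FreeGroup α))⁆ :=
      (QuotientGroup.eq_one_iff _).1 (congrArg Subtype.val hx)
    show ((P ⟨x, x.2.1⟩ : s.ker) : Ext πU) = 1
    rw [hkill x h1 x.2.1]; rfl)
  have hfmem : ∀ d : mult πU, f₀ d ∈ mult π := fun d => Subgroup.mem_inf.2 ⟨by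
    rw [MonoidHom.mem_ker, hf₀, MonoidHom.mem_ker.1 (mult_le_ker πU d.2)]; rfl, by
    have h := mem_map_of_mem f₀ (Subgroup.mem_inf.1 d.2).2
    rw [_root_.commutator_def, map_commutator] at h
    exact commutator_mono le_top le_top h⟩
  refine ⟨(f₀.comp (mult πU).subtype).codRestrict (mult π) hfmem,
    pM.liftOfSurjective hpM ⟨T, hTker⟩, fun m => ?_⟩
  obtain ⟨x, rfl⟩ := hpM m
  rw [MonoidHom.liftOfRightInverse_comp_apply]
  refine Subtype.ext ?_
  show f₀ ((P ⟨x, x.2.1⟩ : s.ker) : Ext πU) = (mkExt π x : Ext π) ^ U.index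
  have hΛ : Λ (ψ x) = 1 := by
    rw [← MonoidHom.comp_apply]
    exact Abelianization.commutator_subset_ker (Λ.comp ψ) x.2.2
  set e : (proj π).ker := ⟨mkExt π x, x.2.1⟩
  let F : s.ker →* (proj π).ker := (f₀.comp s.ker.subtype).codRestrict _ fun d => by
    rw [MonoidHom.mem_ker]
    show proj π (f₀ d) = 1
    rw [hf₀, MonoidHom.mem_ker.1 d.2]; rfl
  have hFP : F (P ⟨x, x.2.1⟩) = e ^ U.index * Λ (ψ x) := by
    show F (∏ q, (⟨_, hleft x x.2.1 q⟩ : s.ker)) = _ * ∏ q, c (ψ x) q
    rw [map_prod, index_eq_card, Nat.card_eq_fintype_card, ← Finset.card_univ, ← Finset.prod_const e,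
      ← Finset.prod_mul_distrib]
    refine Finset.prod_congr rfl fun q _ => Subtype.ext ?_
    show f₀ ((ψ x : S).left q) = (e : Ext π) * (f₀ ((ψ x : S).left q) *
      ((t q)⁻¹ * (ψ x : S).right * t ((proj π (ψ x : S).right)⁻¹ • q))⁻¹)
    rw [hright, hR x x.2.1, inv_one, one_smul,
      mem_center_iff.1 (ker_proj_le_center π e.2) (t q)⁻¹, inv_mul_cancel_right]
    show _ = (e : Ext π) * (_ * (e : Ext π)⁻¹)
    rw [mem_center_iff.1 (inv_mem (ker_proj_le_center π e.2)) (f₀ ((ψ x : S).left q)),
      mul_inv_cancel_left]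
  rw [hΛ, mul_one] at hFP
  exact congrArg Subtype.val hFP

end CfsgLib.Schur
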