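import Cfsg.Agent.Lib.Schur.Hopf

/-!
When is a Schur cover unique up to isomorphism over the group?
-/

namespace CfsgLib.Schur

open Subgroup
open scoped commutatorElement

universe u v w

/-- Two covers of coprime type are isomorphic over the group. -/
theorem cover_iso_of_coprime {Q : Type u} [Group Q] [Finite Q] {A : Type v} [CommGroup A]
    (hA : Cfsg.HasSchurMultiplier Q A)
    (hcop : Nat.Coprime (Nat.card (Abelianization Q)) (Nat.card A))
    {Γ₁ Γ₂ : Type u} [Group Γ₁] [Finite Γ₁] [Group Γ₂] [Finite Γ₂] {σ₁ : Γ₁ →* Q} {σ₂ : Γ₂ →* Q}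
    (h₁ : Cfsg.IsStemExtension σ₁) (h₂ : Cfsg.IsStemExtension σ₂) (e₁ : σ₁.ker ≃* A)
    (e₂ : σ₂.ker ≃* A) : ∃ e : Γ₁ ≃* Γ₂, σ₂.comp e.toMonoidHom = σ₁ := by
  have hπ := taut_surjective Q
  set π := taut Q
  haveI := finite_mult hπ
  obtain ⟨eA⟩ := nonempty_mult_equiv hπ hA
  obtain ⟨φ₁, hφ₁⟩ := exists_lift π σ₁ h₁.1 h₁.2.1
  obtain ⟨φ₂, hφ₂⟩ := exists_lift π σ₂ h₂.1 h₂.2.1
  have hs₂ := surjective_of_stem hπ h₂ hφ₂
  have hK : φ₂.ker ≤ (proj π).ker := fun k hk => by
    rw [MonoidHom.mem_ker, ← hφ₂, MonoidHom.comp_apply, MonoidHom.mem_ker.1 hk, map_one]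
  have hinj₂ : Function.Injective (φ₂.subgroupMap (mult π)) := by
    refine ((Nat.bijective_iff_surjective_and_card _).2 ⟨φ₂.subgroupMap_surjective _, ?_⟩).1
    rw [map_mult_eq_ker hπ h₂ hφ₂, Nat.card_congr (eA.trans e₂.symm).toEquiv]
  -- `abMap` is injective on the kernel of the second lift
  set K := φ₂.ker
  have hKab : Function.Injective ((abMap π).comp K.subtype) := by
    refine (injective_iff_map_eq_one _).2 fun k hk => ?_
    have h1 : (k : Ext π) ∈ mult π := Subgroup.mem_inf.2 ⟨hK k.2, (ker_abMap π).le hk⟩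
    have h3 : (⟨(k : Ext π), h1⟩ : mult π) = 1 := hinj₂ (by rw [map_one]; exact Subtype.ext k.2)
    have h4 : (k : Ext π) = 1 := congrArg (fun t : mult π => (t : Ext π)) h3
    exact Subtype.ext h4
  set N := Nat.card (Abelianization Q)
  -- `N`-th powers in the abelianisation come from the kernel of the second lift
  have hN : ∀ x : Ext π, abMap π x ^ N ∈ ((abMap π).comp K.subtype).range := by
    intro x
    have h1 : proj π (x ^ N) ∈ commutator Q := by
      rw [← Abelianization.ker_of, MonoidHom.mem_ker, map_pow, map_pow, pow_card_eq_one']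
    rw [show commutator Q = (commutator (Ext π)).map (proj π) by
      rw [_root_.commutator_def (Ext π), map_commutator, map_top_of_surjective _ (proj_surjective hπ),
        ← _root_.commutator_def]] at h1
    obtain ⟨c, hc, hcx⟩ := h1
    have h2 : c⁻¹ * x ^ N ∈ (proj π).ker := by
      rw [MonoidHom.mem_ker, map_mul, map_inv, hcx, inv_mul_cancel]
    have h3 : φ₂ (c⁻¹ * x ^ N) ∈ σ₂.ker := by
      rw [MonoidHom.mem_ker, ← MonoidHom.comp_apply, hφ₂]; exact h2
    rw [← map_mult_eq_ker hπ h₂ hφ₂] at h3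
    obtain ⟨m, hm, hmx⟩ := h3
    refine ⟨⟨m⁻¹ * (c⁻¹ * x ^ N), ?_⟩, ?_⟩
    · show φ₂ (m⁻¹ * (c⁻¹ * x ^ N)) = 1
      rw [map_mul, map_inv, hmx, inv_mul_cancel]
    · show abMap π (m⁻¹ * (c⁻¹ * x ^ N)) = abMap π x ^ N
      have hm' : abMap π m = 1 := (ker_abMap π).ge (Subgroup.mem_inf.1 hm).2
      have hc' : abMap π c = 1 := (ker_abMap π).ge hc
      rw [map_mul, map_mul, map_inv, map_inv, map_pow, hm', hc', inv_one, one_mul, one_mul]
  set eK := MonoidHom.ofInjective hKab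
  let ν : Ext π →* K := eK.symm.toMonoidHom.comp
    (((powMonoidHom N).comp (abMap π)).codRestrict _ hN)
  letI : CommGroup σ₁.ker := { (inferInstance : Group σ₁.ker) with
    mul_comm := fun a b => Subtype.ext ((mem_center_iff.1 (h₁.2.1 b.2)) a) }
  have hφK : ∀ k : K, φ₁ k ∈ σ₁.ker := fun k => by
    rw [MonoidHom.mem_ker, ← MonoidHom.comp_apply, hφ₁]; exact hK k.2
  set δ : K →* σ₁.ker := (φ₁.comp K.subtype).codRestrict σ₁.ker hφK
  have hcard : (Nat.card σ₁.ker).Coprime N := by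
    rw [Nat.card_congr e₁.toEquiv]; exact hcop.symm
  let root : σ₁.ker ≃* σ₁.ker := MulEquiv.ofBijective (powMonoidHom N) (powCoprime hcard).bijective
  set h : Ext π →* σ₁.ker := (root.symm.toMonoidHom.comp (δ.comp ν))⁻¹
  have hh : ∀ k : K, h k = (δ k)⁻¹ := by
    intro k
    show (root.symm (δ (ν k)))⁻¹ = (δ k)⁻¹
    have h1 : ν (k : Ext π) = k ^ N := by
      show eK.symm _ = _
      rw [MulEquiv.symm_apply_eq]
      refine Subtype.ext ?_
      show abMap π k ^ N = (abMap π) ((k ^ N : K) : Ext π)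
      rw [Subgroup.coe_pow, map_pow]
    rw [h1, map_pow, show δ k ^ N = root (δ k) from rfl, root.symm_apply_apply]
  let φ : Ext π →* Γ₁ :=
    { toFun := fun x => φ₁ x * (h x : Γ₁)
      map_one' := by simp
      map_mul' := fun a b => by
        have hc := mem_center_iff.1 (h₁.2.1 (h a).2) (φ₁ b)
        rw [map_mul, map_mul, Subgroup.coe_mul]
        calc φ₁ a * φ₁ b * ((h a : Γ₁) * (h b : Γ₁)) = φ₁ a * (φ₁ b * (h a : Γ₁)) * (h b : Γ₁) := by
              simp only [mul_assoc]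
          _ = φ₁ a * ((h a : Γ₁) * φ₁ b) * (h b : Γ₁) := by rw [hc]
          _ = _ := by simp only [mul_assoc] }
  have hφ : σ₁.comp φ = proj π := MonoidHom.ext fun x => by
    show σ₁ (φ₁ x * (h x : Γ₁)) = _
    rw [map_mul, MonoidHom.mem_ker.1 (h x).2, mul_one, ← MonoidHom.comp_apply, hφ₁]
  have hKφ : K ≤ φ.ker := fun k hk => by
    show φ₁ k * (h k : Γ₁) = 1
    rw [hh ⟨k, hk⟩, Subgroup.coe_inv]
    exact mul_inv_cancel (φ₁ k)
  set e₀ := QuotientGroup.quotientKerEquivOfSurjective φ₂ hs₂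
  set f : Γ₂ →* Γ₁ := (QuotientGroup.lift K φ hKφ).comp e₀.symm.toMonoidHom
  have hf : ∀ x, f (φ₂ x) = φ x := fun x => by
    have : e₀.symm (φ₂ x) = QuotientGroup.mk x := e₀.symm_apply_eq.2 rfl
    simp only [f, MonoidHom.comp_apply, MulEquiv.coe_toMonoidHom]
    rw [this]
    rfl
  have hfs : Function.Surjective f := fun c => by
    obtain ⟨x, rfl⟩ := surjective_of_stem hπ h₁ hφ c
    exact ⟨φ₂ x, hf x⟩
  have hbij : Function.Bijective f := by
    refine (Nat.bijective_iff_surjective_and_card _).2 ⟨hfs, ?_⟩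
    rw [← σ₁.ker.card_mul_index, ← σ₂.ker.card_mul_index, index_ker, index_ker,
      MonoidHom.range_eq_top.2 h₁.1, MonoidHom.range_eq_top.2 h₂.1, Nat.card_congr (e₂.trans e₁.symm).toEquiv]
  refine ⟨(MulEquiv.ofBijective f hbij).symm, MonoidHom.ext fun c => ?_⟩
  obtain ⟨d, rfl⟩ := hfs c
  obtain ⟨x, rfl⟩ := hs₂ d
  show σ₂ ((MulEquiv.ofBijective f hbij).symm (f (φ₂ x))) = σ₁ (f (φ₂ x))
  rw [show (MulEquiv.ofBijective f hbij).symm (f (φ₂ x)) = φ₂ x from
    (MulEquiv.ofBijective f hbij).symm_apply_apply _, hf, ← MonoidHom.comp_apply, hφ₂,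
    ← MonoidHom.comp_apply, hφ]

/-- If the types share a prime, two covers are not isomorphic over the group. -/
theorem coprime_of_cover_iso {Q : Type u} [Group Q] [Finite Q] {A : Type v} [CommGroup A]
    (hA : Cfsg.HasSchurMultiplier Q A)
    (huniq : ∀ (Γ₁ Γ₂ : Type u) [Group Γ₁] [Finite Γ₁] [Group Γ₂] [Finite Γ₂] (σ₁ : Γ₁ →* Q)
      (σ₂ : Γ₂ →* Q), Cfsg.IsStemExtension σ₁ → Cfsg.IsStemExtension σ₂ → Nonempty (σ₁.ker ≃* A) →
      Nonempty (σ₂.ker ≃* A) → ∃ e : Γ₁ ≃* Γ₂, σ₂.comp e.toMonoidHom = σ₁) :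
    Nat.Coprime (Nat.card (Abelianization Q)) (Nat.card A) := by
  classical
  refine Nat.coprime_of_dvd fun p hp hpQ hpA => ?_
  haveI := Fact.mk hp
  have hπ := taut_surjective Q
  set π := taut Q
  haveI := finite_mult hπ
  obtain ⟨eA⟩ := nonempty_mult_equiv hπ hA
  rw [← Nat.card_congr eA.toEquiv] at hpA
  -- an element of the multiplier which is not a `p`-th power
  obtain ⟨m₁, hm₁⟩ : ∃ m₁ : mult π, ∀ m : mult π, m ^ p ≠ m₁ := by
    by_contra hcon
    push Not at hcon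
    have hinj : Function.Injective (powMonoidHom p : mult π →* mult π) :=
      Finite.injective_iff_surjective.2 hcon
    obtain ⟨z, hz⟩ := exists_prime_orderOf_dvd_card' p hpA
    have h1 : z = 1 := hinj (by
      rw [powMonoidHom_apply, powMonoidHom_apply, one_pow, ← hz, pow_orderOf_eq_one])
    rw [h1, orderOf_one] at hz
    exact hp.one_lt.ne hz
  obtain ⟨D, hle, hinf, hsup⟩ := exists_complement π
  -- an element whose class in the abelianisation of `Q` has order `p`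
  obtain ⟨q, hq⟩ := exists_prime_orderOf_dvd_card' p hpQ
  obtain ⟨q', rfl⟩ := QuotientGroup.mk_surjective q
  obtain ⟨x, rfl⟩ := proj_surjective hπ q'
  have hcQ : commutator Q = (commutator (Ext π)).map (proj π) := by
    rw [_root_.commutator_def (Ext π), map_commutator, map_top_of_surjective _ (proj_surjective hπ),
      ← _root_.commutator_def]
  obtain ⟨d₀, c, hd₀, hc, hxp⟩ : ∃ d₀ c : Ext π, d₀ ∈ D ∧ c ∈ commutator (Ext π) ∧ x ^ p = d₀ * c := by
    have h1 : proj π (x ^ p) ∈ commutator Q := by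
      rw [← Abelianization.ker_of, MonoidHom.mem_ker, map_pow, map_pow]
      have := pow_orderOf_eq_one (Abelianization.of (proj π x))
      rwa [show orderOf (Abelianization.of (proj π x)) = p from hq] at this
    rw [hcQ] at h1
    obtain ⟨c, hc, hcx⟩ := h1
    have h2 : x ^ p * c⁻¹ ∈ (proj π).ker := by
      rw [MonoidHom.mem_ker, map_mul, map_inv, hcx, mul_inv_cancel]
    have : D.Normal := ⟨fun d hd g => by
      rw [mem_center_iff.1 (ker_proj_le_center π (hle hd)) g, mul_inv_cancel_right]; exact hd⟩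
    rw [← hsup, ← SetLike.mem_coe, normal_mul] at h2
    obtain ⟨d₀, hd₀, m, hm, hdm⟩ := h2
    refine ⟨d₀, m * c, hd₀, mul_mem (Subgroup.mem_inf.1 hm).2 hc, ?_⟩
    have hdm' : d₀ * m = x ^ p * c⁻¹ := hdm
    rw [← mul_assoc, hdm', inv_mul_cancel_right]
  letI : CommGroup D := { (inferInstance : Group D) with
    mul_comm := fun a b => Subtype.ext ((mem_center_iff.1 (ker_proj_le_center π (hle b.2))) a) }
  set ab : Additive D →ₗ[ℤ] FreeAbelianGroup Q :=
    (MonoidHom.toAdditive ((abMap π).comp D.subtype)).toIntLinearMap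
  have habinj : Function.Injective ab := by
    refine (injective_iff_map_eq_zero _).2 fun d hd => ?_
    have h1 : abMap π (Additive.toMul d : D) = 1 := hd
    rw [← MonoidHom.mem_ker, ker_abMap] at h1
    have h2 : ((Additive.toMul d : D) : Ext π) ∈ D ⊓ mult π :=
      Subgroup.mem_inf.2 ⟨(Additive.toMul d).2, Subgroup.mem_inf.2 ⟨hle (Additive.toMul d).2, h1⟩⟩
    rw [hinf, mem_bot] at h2
    exact Additive.toMul.injective (Subtype.ext h2)
  haveI : Module.Free ℤ (FreeAbelianGroup Q) := Module.Free.of_basis (FreeAbelianGroup.basis Q)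
  haveI : Module.Finite ℤ (FreeAbelianGroup Q) := by
    have := Fintype.ofFinite Q
    exact Module.Finite.of_basis (FreeAbelianGroup.basis Q)
  haveI : Module.Free ℤ (Additive D) := Module.Free.of_equiv (LinearEquiv.ofInjective ab habinj).symm
  set b := Module.Free.chooseBasis ℤ (Additive D)
  -- a coordinate of `d₀` prime to `p`
  obtain ⟨i, hi⟩ : ∃ i, ¬ (p : ℤ) ∣ b.repr (Additive.ofMul ⟨d₀, hd₀⟩) i := by
    by_contra hcon
    push Not at hcon
    choose k hk using hcon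
    set r := b.repr (Additive.ofMul ⟨d₀, hd₀⟩) with hr
    set d' : Additive D := ∑ i ∈ r.support, k i • b i
    have hd' : (p : ℤ) • d' = Additive.ofMul ⟨d₀, hd₀⟩ := by
      rw [← b.linearCombination_repr (Additive.ofMul ⟨d₀, hd₀⟩), ← hr, Finsupp.linearCombination_apply,
        Finsupp.sum, Finset.smul_sum]
      refine Finset.sum_congr rfl fun i _ => ?_
      rw [smul_smul, ← hk]
    have hp0 : (p : ℤ) ≠ 0 := by exact_mod_cast hp.ne_zero
    have hd'' : (Additive.toMul d' : D) ^ p = ⟨d₀, hd₀⟩ := by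
      rw [natCast_zsmul] at hd'
      exact congrArg Additive.toMul hd'
    have h1 : abMap π x ^ p = abMap π ((Additive.toMul d' : D) : Ext π) ^ p := by
      rw [← map_pow, ← map_pow, ← Subgroup.coe_pow, hd'', hxp, map_mul, (ker_abMap π).ge hc, mul_one]
    have h2 : abMap π x = abMap π ((Additive.toMul d' : D) : Ext π) := by
      have key : ∀ u v : FreeAbelianGroup Q, (p : ℤ) • u = (p : ℤ) • v → u = v := fun u v h =>
        smul_right_injective (FreeAbelianGroup Q) hp0 h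
      exact key (Additive.ofMul (abMap π x)) (Additive.ofMul (abMap π ((Additive.toMul d' : D) : Ext π)))
        ((natCast_zsmul _ _).trans ((congrArg Additive.ofMul h1).trans (natCast_zsmul _ _).symm))
    have h3 : x * ((Additive.toMul d' : D) : Ext π)⁻¹ ∈ commutator (Ext π) := by
      rw [← ker_abMap, MonoidHom.mem_ker, map_mul, map_inv, h2, mul_inv_cancel]
    have h4 : proj π x ∈ commutator Q := by
      have h5 := mem_map_of_mem (proj π) h3
      rw [← hcQ, map_mul, map_inv, MonoidHom.mem_ker.1 (hle (Additive.toMul d').2), inv_one, mul_one] at h5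
      exact h5
    exact hp.one_lt.ne' (hq.symm.trans (orderOf_eq_one_iff.2 ((QuotientGroup.eq_one_iff _).2 h4)))
  set δ : D →* mult π := (zpowersHom (mult π) m₁).comp
    ((AddMonoidHom.toMultiplicativeRight (α := D) (β := ℤ))
      ((Finsupp.applyAddHom i).comp b.repr.toAddMonoidHom)) with hδdef
  have hδ : ∀ d : D, δ d = m₁ ^ b.repr (Additive.ofMul d) i := fun d => rfl
  -- the twisted complement
  set f : D →* Ext π :=
    { toFun := fun d => (d : Ext π) * (δ d : Ext π)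
      map_one' := by simp
      map_mul' := fun a b => by
        have h1 := mem_center_iff.1 (ker_proj_le_center π (mult_le_ker π (δ a).2)) (b : Ext π)
        rw [map_mul, Subgroup.coe_mul, Subgroup.coe_mul]
        calc (a : Ext π) * b * ((δ a : Ext π) * (δ b : Ext π))
            = (a : Ext π) * ((b : Ext π) * (δ a : Ext π)) * (δ b : Ext π) := by simp only [mul_assoc]
          _ = (a : Ext π) * ((δ a : Ext π) * (b : Ext π)) * (δ b : Ext π) := by rw [h1]
          _ = _ := by simp only [mul_assoc] }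
  have hle' : f.range ≤ (proj π).ker := by
    rintro _ ⟨d, rfl⟩
    exact mul_mem (hle d.2) (mult_le_ker π (δ d).2)
  have hinf' : f.range ⊓ mult π = ⊥ := by
    rw [eq_bot_iff]
    rintro _ ⟨⟨d, rfl⟩, hd⟩
    have h1 : (d : Ext π) ∈ D ⊓ mult π := Subgroup.mem_inf.2 ⟨d.2, by
      have h3 : f d * (δ d : Ext π)⁻¹ ∈ mult π := mul_mem hd (inv_mem (δ d).2)
      simpa [f] using h3⟩
    rw [hinf, mem_bot] at h1
    have h2 : d = 1 := Subtype.ext h1
    simp [h2]
  have hsup' : f.range ⊔ mult π = (proj π).ker := by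
    refine le_antisymm (sup_le hle' (mult_le_ker π)) (hsup.ge.trans (sup_le (fun d hd => ?_) le_sup_right))
    rw [show d = d * (δ ⟨d, hd⟩ : Ext π) * (δ ⟨d, hd⟩ : Ext π)⁻¹ by group]
    exact mul_mem (mem_sup_left ⟨⟨d, hd⟩, rfl⟩) (mem_sup_right (inv_mem (δ ⟨d, hd⟩).2))
  haveI : f.range.Normal := ⟨fun d hd g => by
    rw [mem_center_iff.1 (ker_proj_le_center π (hle' hd)) g, mul_inv_cancel_right]; exact hd⟩
  haveI : D.Normal := ⟨fun d hd g => by
    rw [mem_center_iff.1 (ker_proj_le_center π (hle hd)) g, mul_inv_cancel_right]; exact hd⟩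
  obtain ⟨τ₁, hτ₁c, hfin₁, hτ₁, ⟨a₁⟩⟩ := exists_cover_of_complement hπ D hle hinf hsup
  obtain ⟨τ₂, hτ₂c, hfin₂, hτ₂, ⟨a₂⟩⟩ := exists_cover_of_complement hπ f.range hle' hinf' hsup'
  obtain ⟨e, he⟩ := huniq _ _ τ₁ τ₂ hτ₁ hτ₂ ⟨a₁.trans eA⟩ ⟨a₂.trans eA⟩
  -- the two lifts differ by a homomorphism into the multiplier
  set mk₁ := QuotientGroup.mk' D
  set mk₂ := QuotientGroup.mk' f.range
  letI : CommGroup τ₂.ker := { (inferInstance : Group τ₂.ker) with
    mul_comm := fun a b => Subtype.ext ((mem_center_iff.1 (hτ₂.2.1 b.2)) a) }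
  have hdiff : ∀ y : Ext π, mk₂ y * (e (mk₁ y))⁻¹ ∈ τ₂.ker := fun y => by
    have h1 : τ₂ (e (mk₁ y)) = τ₁ (mk₁ y) := DFunLike.congr_fun he (mk₁ y)
    rw [MonoidHom.mem_ker, map_mul, map_inv, h1, ← MonoidHom.comp_apply τ₁ mk₁, hτ₁c,
      ← MonoidHom.comp_apply τ₂ mk₂, hτ₂c, mul_inv_cancel]
  let h₀ : Ext π →* τ₂.ker :=
    { toFun := fun y => ⟨_, hdiff y⟩
      map_one' := Subtype.ext (by simp)
      map_mul' := fun a b => Subtype.ext (by
        show mk₂ (a * b) * (e (mk₁ (a * b)))⁻¹ =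
          mk₂ a * (e (mk₁ a))⁻¹ * (mk₂ b * (e (mk₁ b))⁻¹)
        have h1 := mem_center_iff.1 (hτ₂.2.1 (hdiff b)) (e (mk₁ a))⁻¹
        calc mk₂ (a * b) * (e (mk₁ (a * b)))⁻¹
            = mk₂ a * ((mk₂ b * (e (mk₁ b))⁻¹) * (e (mk₁ a))⁻¹) := by
              simp only [map_mul, mul_inv_rev, mul_assoc]
          _ = _ := by rw [← h1, ← mul_assoc]) }
  -- transport to the multiplier
  set r : mult π →* τ₂.ker := (mk₂.comp (mult π).subtype).codRestrict τ₂.ker fun m => by
    rw [MonoidHom.mem_ker]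
    exact (DFunLike.congr_fun hτ₂c (m : Ext π)).trans (mult_le_ker π m.2)
  have hrinj : Function.Injective r := by
    refine (injective_iff_map_eq_one _).2 fun m hm => Subtype.ext ?_
    have h1 : (m : Ext π) ∈ f.range ⊓ mult π := Subgroup.mem_inf.2
      ⟨(QuotientGroup.eq_one_iff _).1 (congrArg Subtype.val hm), m.2⟩
    rw [hinf', mem_bot] at h1
    exact h1
  have hrbij : Function.Bijective r :=
    (Nat.bijective_iff_injective_and_card _).2 ⟨hrinj, (Nat.card_congr a₂.toEquiv).symm⟩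
  obtain ⟨m', hm'⟩ := hrbij.2 (h₀ x)
  set k := b.repr (Additive.ofMul ⟨d₀, hd₀⟩) i
  have h2 : h₀ x ^ p = r ((δ ⟨d₀, hd₀⟩)⁻¹) := by
    rw [← map_pow, hxp, map_mul, (Abelianization.commutator_subset_ker h₀) hc, mul_one]
    refine Subtype.ext ?_
    show mk₂ d₀ * (e (mk₁ d₀))⁻¹ = mk₂ ((δ ⟨d₀, hd₀⟩ : mult π) : Ext π)⁻¹
    rw [show mk₁ d₀ = 1 from (QuotientGroup.eq_one_iff _).2 hd₀, map_one, inv_one, mul_one, map_inv,
      eq_inv_iff_mul_eq_one, ← map_mul]
    exact (QuotientGroup.eq_one_iff _).2 ⟨⟨d₀, hd₀⟩, rfl⟩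
  rw [← hm', ← map_pow] at h2
  have h3 : m' ^ p = (m₁ ^ k)⁻¹ := by rw [← hδ]; exact hrinj h2
  obtain ⟨u, v, huv⟩ := ((Nat.prime_iff_prime_int.1 hp).coprime_iff_not_dvd.2 hi).symm
  refine hm₁ (m'⁻¹ ^ u * m₁ ^ v) ?_
  rw [mul_pow, ← zpow_natCast (m'⁻¹ ^ u), ← zpow_natCast (m₁ ^ v), ← zpow_mul, ← zpow_mul, mul_comm u,
    zpow_mul, zpow_natCast, inv_pow, h3, inv_inv, ← zpow_mul, ← zpow_add, mul_comm k u, huv, zpow_one]

end CfsgLib.Schur
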